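import Groth.Agent.CohAffMorLib.UnitBC.Key

/-!
# Invariants of scalar extensions are the base
-/

set_option autoImplicit false
set_option linter.style.haveILetI false
set_option backward.isDefEq.respectTransparency false
set_option backward.isDefEq.respectTransparency.types false
set_option maxHeartbeats 1600000

universe u

open CategoryTheory CategoryTheory.Limits AlgebraicGeometry AlgSp FibCat FibLib Opposite StMod GenDescLib
open scoped TensorProduct

noncomputable section

namespace CohAffMorLib.UnitBC

variable {S : Scheme.{u}} {𝒳 : AlgSt.Cat S} {M : AlgSp.Sp S} {π : 𝒳 ⥤ᵇ AlgSt.ofSp M} {ν : (AlgSt.ofSp M).obj}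
  {w0 r : (fibCat π ν).obj} (p q : r ⟶ w0)

/-- Invariant multiples of elements come from the base. -/
def CycInv : Prop :=
  ∀ (N : Type u) [AddCommGroup N] [Module (Base ν) N] (m : N) (x : Ext N w0), res N p x = res N q x →
    x ∈ span1 N m w0 → ∃ a : Base ν, x = (1 : Fun w0) ⊗ₜ[Base ν] (a • m)

variable (w0) (N : Type u) [AddCommGroup N] [Module (Base ν) N]

/-- The submodule spanned by images of elements. -/
abbrev spanL (L : Set N) : Submodule (Fun w0) (Ext N w0) :=
  Submodule.span (Fun w0) ((fun n => (1 : Fun w0) ⊗ₜ[Base ν] n) '' L)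

variable {w0 N}

theorem map_tmul_one {N' : Type u} [AddCommGroup N'] [Module (Base ν) N'] (f : N →ₗ[Base ν] N') (n : N) :
    f.lTensor (Fun w0) ((1 : Fun w0) ⊗ₜ[Base ν] n) = (1 : Fun w0) ⊗ₜ[Base ν] f n := rfl

theorem lTensor_smul' {N' : Type u} [AddCommGroup N'] [Module (Base ν) N'] (f : N →ₗ[Base ν] N') (a : Fun w0)
    (x : Ext N w0) : f.lTensor (Fun w0) (a • x) = a • f.lTensor (Fun w0) x := by
  induction x using TensorProduct.induction_on with
  | zero => simp
  | tmul b n => rw [TensorProduct.smul_tmul', LinearMap.lTensor_tmul, LinearMap.lTensor_tmul, TensorProduct.smul_tmul']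
  | add x y hx hy => rw [smul_add, map_add, map_add, smul_add, hx, hy]

theorem res_lTensor {z' z : (fibCat π ν).obj} (d : z' ⟶ z) {N' : Type u} [AddCommGroup N'] [Module (Base ν) N']
    (f : N →ₗ[Base ν] N') (x : Ext N z) : res N' d (f.lTensor (Fun z) x) = f.lTensor (Fun z') (res N d x) := by
  induction x using TensorProduct.induction_on with
  | zero => simp
  | tmul b n => rfl
  | add x y hx hy => rw [map_add, map_add, map_add, map_add, hx, hy]

theorem mem_spanL_of_mem {n : N} {L : Set N} (h : n ∈ Submodule.span (Base ν) L) :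
    (1 : Fun w0) ⊗ₜ[Base ν] n ∈ spanL w0 N L := by
  induction h using Submodule.span_induction with
  | mem a ha => exact Submodule.subset_span ⟨a, ha, rfl⟩
  | zero => simp
  | add a b _ _ ha hb => rw [TensorProduct.tmul_add]; exact add_mem ha hb
  | smul c a _ ha =>
    rw [TensorProduct.tmul_smul, ← algebraMap_smul (Fun w0) c]
    exact Submodule.smul_mem _ _ ha

theorem mem_spanL_of_ker (L : Set N) {x : Ext N w0}
    (h : (Submodule.span (Base ν) L).mkQ.lTensor (Fun w0) x = 0) : x ∈ spanL w0 N L := by
  obtain ⟨t, rfl⟩ := (lTensor_exact (Fun w0) (LinearMap.exact_subtype_mkQ _) (Submodule.mkQ_surjective _) x).1 h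
  clear h
  induction t using TensorProduct.induction_on with
  | zero => simp
  | tmul b n =>
    rw [LinearMap.lTensor_tmul]
    have : b ⊗ₜ[Base ν] (Submodule.span (Base ν) L).subtype n = b • ((1 : Fun w0) ⊗ₜ[Base ν] (n : N)) := by
      rw [TensorProduct.smul_tmul', smul_eq_mul, mul_one]; rfl
    rw [this]
    exact Submodule.smul_mem _ _ (mem_spanL_of_mem n.2)
  | add x y hx hy => rw [map_add]; exact add_mem hx hy

/-- The image of the span of a list with one element more. -/
theorem spanL_insert_map (m : N) (L : Set N) {x : Ext N w0} (h : x ∈ spanL w0 N (insert m L)) :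
    (Submodule.span (Base ν) L).mkQ.lTensor (Fun w0) x ∈ span1 _ ((Submodule.span (Base ν) L).mkQ m) w0 := by
  induction h using Submodule.span_induction with
  | mem a ha =>
    obtain ⟨n, hn, rfl⟩ := ha
    rw [map_tmul_one]
    rcases Set.mem_insert_iff.1 hn with rfl | hn
    · exact Submodule.mem_span_singleton_self _
    · rw [show (Submodule.span (Base ν) L).mkQ n = 0 from
        (Submodule.Quotient.mk_eq_zero _).2 (Submodule.subset_span hn), TensorProduct.tmul_zero]
      exact zero_mem _
  | zero => rw [map_zero]; exact zero_mem _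
  | add a b _ _ ha hb => rw [map_add]; exact add_mem ha hb
  | smul c a _ ha => rw [lTensor_smul']; exact Submodule.smul_mem _ _ ha

variable {p q}

theorem res_eq_one (n : N) : res N p ((1 : Fun w0) ⊗ₜ[Base ν] n) = res N q ((1 : Fun w0) ⊗ₜ[Base ν] n) := by
  rw [res_one, res_one]

/-- An invariant combination comes from the base. -/
theorem exists_of_inv_finset (hK : CycInv p q) (L : Finset N) (x : Ext N w0) (hx : res N p x = res N q x)
    (hL : x ∈ spanL w0 N (L : Set N)) : ∃ n, x = (1 : Fun w0) ⊗ₜ[Base ν] n := by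
  classical
  induction L using Finset.induction_on generalizing x with
  | empty =>
    refine ⟨0, ?_⟩
    rw [Finset.coe_empty, spanL, Set.image_empty, Submodule.span_empty, Submodule.mem_bot] at hL
    rw [hL, TensorProduct.tmul_zero]
  | insert m L' _ ih =>
    rw [Finset.coe_insert] at hL
    let f := (Submodule.span (Base ν) (L' : Set N)).mkQ
    obtain ⟨a, ha⟩ := hK _ (f m) (f.lTensor (Fun w0) x)
      (by rw [res_lTensor, res_lTensor, hx]) (spanL_insert_map m _ hL)
    obtain ⟨n, hn⟩ := ih (x - (1 : Fun w0) ⊗ₜ[Base ν] (a • m)) (by rw [map_sub, map_sub, hx, res_eq_one])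
      (mem_spanL_of_ker _ (by rw [map_sub, map_tmul_one, map_smul, ← ha, sub_self]))
    exact ⟨n + a • m, by rw [TensorProduct.tmul_add, ← hn, sub_add_cancel]⟩

variable (N)

/-- Invariants come from the base. -/
theorem exists_of_inv (hK : CycInv p q) (x : Ext N w0) (hx : res N p x = res N q x) :
    ∃ n, x = (1 : Fun w0) ⊗ₜ[Base ν] n := by
  classical
  obtain ⟨s, rfl⟩ := TensorProduct.exists_finset x
  refine exists_of_inv_finset hK (s.image Prod.snd) _ hx (Submodule.sum_mem _ fun i hi => ?_)
  have : i.1 ⊗ₜ[Base ν] i.2 = i.1 • ((1 : Fun w0) ⊗ₜ[Base ν] i.2) := by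
    rw [TensorProduct.smul_tmul', smul_eq_mul, mul_one]
  rw [this]
  exact Submodule.smul_mem _ _ (Submodule.subset_span ⟨i.2, Finset.mem_image_of_mem _ hi, rfl⟩)

variable {N}

/-- The injectivity passes to quotients by finitely generated submodules. -/
theorem mem_span_of_inv (hK : CycInv p q) (hN : Function.Injective fun n : N => (1 : Fun w0) ⊗ₜ[Base ν] n)
    (L : Finset N) (n : N) (h : (1 : Fun w0) ⊗ₜ[Base ν] n ∈ spanL w0 N (L : Set N)) :
    n ∈ Submodule.span (Base ν) (L : Set N) := by
  classical
  induction L using Finset.induction_on generalizing n with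
  | empty =>
    rw [Finset.coe_empty, spanL, Set.image_empty, Submodule.span_empty, Submodule.mem_bot] at h
    rw [hN (h.trans (TensorProduct.tmul_zero N (1 : Fun w0)).symm)]
    exact zero_mem _
  | insert m L' _ ih =>
    rw [Finset.coe_insert] at h
    rw [Finset.coe_insert]
    let f := (Submodule.span (Base ν) (L' : Set N)).mkQ
    obtain ⟨a, ha⟩ := hK _ (f m) (f.lTensor (Fun w0) ((1 : Fun w0) ⊗ₜ[Base ν] n))
      (by rw [map_tmul_one, res_eq_one]) (spanL_insert_map m _ h)
    have h1 : n - a • m ∈ Submodule.span (Base ν) (L' : Set N) := ih _ (mem_spanL_of_ker _ (by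
      rw [map_tmul_one, map_sub, map_smul, TensorProduct.tmul_sub, ← map_tmul_one, ha, sub_self]))
    rw [← sub_add_cancel n (a • m)]
    exact add_mem (Submodule.span_mono (Set.subset_insert _ _) h1)
      (Submodule.smul_mem _ _ (Submodule.subset_span (Set.mem_insert _ _)))

variable (N) in
/-- The base injects into the scalar extension. -/
theorem injective_one_tmul (hK : CycInv p q) (hA : Function.Injective (algebraMap (Base ν) (Fun w0))) :
    Function.Injective fun n : N => (1 : Fun w0) ⊗ₜ[Base ν] n := by
  classical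
  let F := N →₀ Base ν
  have hF : Function.Injective fun n : F => (1 : Fun w0) ⊗ₜ[Base ν] n := fun n n' h => by
    refine Finsupp.ext fun i => hA ?_
    have := congrArg (fun t => TensorProduct.finsuppScalarRight (Base ν) (Base ν) (Fun w0) N t i) h
    erw [TensorProduct.finsuppScalarRight_apply_tmul_apply, TensorProduct.finsuppScalarRight_apply_tmul_apply] at this
    rwa [Algebra.smul_def, Algebra.smul_def, mul_one, mul_one] at this
  let f : F →ₗ[Base ν] N := Finsupp.linearCombination (Base ν) id
  have hf : Function.Surjective f := fun n => ⟨Finsupp.single n 1, (Finsupp.linearCombination_single (Base ν) 1 n).trans (one_smul (Base ν) n)⟩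
  intro a b h
  obtain ⟨a', rfl⟩ := hf a
  obtain ⟨b', rfl⟩ := hf b
  let K := LinearMap.ker f
  let e : (F ⧸ K) ≃ₗ[Base ν] N := f.quotKerEquivOfSurjective hf
  have h0 : (1 : Fun w0) ⊗ₜ[Base ν] f (a' - b') = 0 := by
    rw [map_sub, TensorProduct.tmul_sub]
    exact sub_eq_zero.2 h
  have h1 : (Submodule.span (Base ν) (K : Set F)).mkQ.lTensor (Fun w0) ((1 : Fun w0) ⊗ₜ[Base ν] (a' - b')) = 0 := by
    rw [Submodule.span_eq]
    refine (LinearEquiv.lTensor (Fun w0) e).injective ?_
    rw [map_zero]
    exact h0
  obtain ⟨T, hTK, hT⟩ := Submodule.mem_span_finite_of_mem_span (mem_spanL_of_ker _ h1)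
  obtain ⟨s, hsK, hsT⟩ := Finset.subset_set_image_iff.1 hTK
  have h2 : a' - b' ∈ Submodule.span (Base ν) (s : Set F) := mem_span_of_inv hK hF s (a' - b') (by
    rw [spanL, ← Finset.coe_image, hsT]; exact hT)
  exact sub_eq_zero.1 ((map_sub f a' b').symm.trans (Submodule.span_le.2 hsK h2 : a' - b' ∈ K))

end CohAffMorLib.UnitBC
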