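import Groth.Agent.CohAffMorLib.UnitBC.Main
import Groth.Agent.StPushLib.Transport
import Groth.Agent.ProperClopenLib.CoupleToPair
import Groth.Agent.AlgStLib.PointsQc
import Groth.Agent.IsoNatLib.Elt

/-!
# The fibres of a good moduli space are connected
-/

set_option autoImplicit false
set_option linter.style.haveILetI false
set_option backward.isDefEq.respectTransparency false
set_option backward.isDefEq.respectTransparency.types false
set_option maxHeartbeats 1600000

universe u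

open CategoryTheory CategoryTheory.Limits AlgebraicGeometry AlgSp AlgSpLib FibCat FibLib Opposite StMod GenDescLib
open CategoryTheory.Functor (Fiber IsPreFibered IsStronglyCartesian IsCartesian)
open StPushLib (QcProd fpToFib bmap_map_eq)
open IsoNatLib (uf)

noncomputable section

namespace CohAffMorLib.UnitBC

/-- An idempotent function is determined by its locus. -/
theorem idempotent_eq {X : Scheme.{u}} {e f : Γ(X, ⊤)} (he : IsIdempotentElem e) (hf : IsIdempotentElem f)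
    (h : X.basicOpen e = X.basicOpen f) : e = f := by
  refine TopCat.Presheaf.section_ext X.sheaf ⊤ e f fun x hx => ?_
  have he' : IsIdempotentElem (X.presheaf.germ ⊤ x hx e) := he.map (X.presheaf.germ ⊤ x hx).hom
  have hf' : IsIdempotentElem (X.presheaf.germ ⊤ x hx f) := hf.map (X.presheaf.germ ⊤ x hx).hom
  have hu : IsUnit (X.presheaf.germ ⊤ x hx e) ↔ IsUnit (X.presheaf.germ ⊤ x hx f) := by
    rw [← Scheme.mem_basicOpen X e x hx, ← Scheme.mem_basicOpen X f x hx, h]
  have key : ∀ {a : X.presheaf.stalk x}, IsIdempotentElem a → (IsUnit a → a = 1) ∧ (¬IsUnit a → a = 0) :=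
    fun {a} ha => ⟨fun hu => (IsIdempotentElem.iff_eq_one_of_isUnit hu).1 ha, fun hu => by
      have h1 := IsLocalRing.isUnit_one_sub_self_of_mem_nonunits a hu
      exact h1.mul_left_eq_zero.1 (by rw [mul_sub, mul_one, ha.eq, sub_self])⟩
  show X.presheaf.germ ⊤ x hx e = X.presheaf.germ ⊤ x hx f
  by_cases hue : IsUnit (X.presheaf.germ ⊤ x hx e)
  · rw [(key he').1 hue, (key hf').1 (hu.1 hue)]
  · rw [(key he').2 hue, (key hf').2 (mt hu.2 hue)]

variable {S : Scheme.{u}} {W : AlgSt.Cat S} [IsFibGrpd W.p]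

/-- The points of the scheme of an object. -/
def ptsOf (o : W.obj) (t : sch W o) : AlgSt.Points W :=
  AlgSt.Points.ofChart (ofPoint (Fiber.mk (p := W.p) (a := o) rfl)) t

theorem continuous_ptsOf (hA : AlgSt.HasAtlas (LocP @Smooth) W) (o : W.obj) : Continuous (ptsOf o) :=
  AlgStLib.continuous_ofChart hA _

theorem ptsOf_map {o' o : W.obj} (φ : o' ⟶ o) : ptsOf o' = ptsOf o ∘ bmap W φ := by
  let z : W.p.Fiber (W.p.obj o) := Fiber.mk (p := W.p) (a := o) rfl
  let z' : W.p.Fiber (W.p.obj o') := Fiber.mk (p := W.p) (a := o') rfl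
  let j : W.p.obj o' ⟶ W.p.obj o := W.p.map φ
  obtain ⟨k⟩ := nonempty_evalAtId_ofPoint_iso z'
  haveI : W.p.IsStronglyCartesian j φ :=
    (isStronglyCartesian_map_iff W.p j φ).mp (IsFibGrpd.isStronglyCartesian φ)
  let j1 : W.p.obj o' ⟶ W.p.obj o := 𝟙 _ ≫ j
  haveI : W.p.IsCartesian j1 φ := by
    rw [show j1 = j from Category.id_comp _]
    infer_instance
  let G := BasedFunctor.comp (AlgSt.overMap j) (ofPoint z)
  let i : IsPreFibered.pullbackObj z.2 j1 ≅ o' :=
    IsCartesian.domainUniqueUpToIso W.p j1 φ (IsPreFibered.pullbackMap z.2 j1)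
  haveI hi : W.p.IsHomLift (𝟙 (W.p.obj o')) i.hom := inferInstance
  let e : (ofPoint z').obj (Over.mk (𝟙 (W.p.obj o'))) ≅ G.obj (Over.mk (𝟙 (W.p.obj o'))) :=
    ⟨k.hom.1 ≫ i.inv, i.hom ≫ k.inv.1, by
      rw [Category.assoc, Iso.inv_hom_id_assoc]
      exact congrArg Subtype.val k.hom_inv_id, by
      have := congrArg Subtype.val k.inv_hom_id
      exact (Category.assoc _ _ _).trans ((congrArg (i.hom ≫ ·) ((Category.assoc _ _ _).symm.trans
        ((congrArg (· ≫ i.inv) this).trans (Category.id_comp _)))).trans i.hom_inv_id)⟩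
  have he : W.p.IsHomLift (𝟙 (W.p.obj o')) e.hom := by
    haveI := k.hom.2
    show W.p.IsHomLift (𝟙 (W.p.obj o')) (k.hom.1 ≫ i.inv)
    exact IsoNatSepLib.lift_congr (Category.id_comp (𝟙 _)) (IsoNatSepLib.comp_lift k.hom.2
      (IsHomLift.lift_id_inv W.p (W.p.obj o') i))
  obtain ⟨α⟩ := nonempty_iso_of_vert (ofPoint z') G e he
  funext t
  show AlgSt.Points.ofChart (ofPoint z') t = _
  rw [AlgStLib.ofChart_congr α, AlgStLib.ofChart_overMap]
  rfl

theorem exists_ptsOf_eq (P : AlgSt.Points W) : ∃ (o : W.obj) (t : sch W o), ptsOf o t = P := by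
  obtain ⟨p, rfl⟩ := AlgSt.Points.mk_surjective P
  let z : W.p.Fiber (W.p.obj p.obj) := Fiber.mk (p := W.p) (a := p.obj) rfl
  have hl : (W.p.obj p.obj).left = Spec (CommRingCat.of p.K) := congrArg Comma.left p.lies
  haveI : Nonempty (sch W p.obj) := by
    show Nonempty (W.p.obj p.obj).left
    rw [hl]
    infer_instance
  exact ⟨p.obj, Classical.arbitrary _, AlgStLib.mk_eq_of_hom (IsPreFibered.pullbackMap z.2 _)⟩

/-- An equivalence carries the points to its target. -/
theorem exists_ptsFamily {V : BasedCategory.{u, u+1} (Over S)} (Φ : W ⥤ᵇ V) [Φ.toFunctor.Full]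
    [Φ.toFunctor.Faithful] [Φ.toFunctor.EssSurj] (hA : AlgSt.HasAtlas (LocP @Smooth) W) :
    ∃ H : ∀ w, sch V w → AlgSt.Points W, (∀ w, Continuous (H w)) ∧
      (∀ {w' w : V.obj} (φ : w' ⟶ w), H w' = H w ∘ bmap V φ) ∧ ∀ P, ∃ w s, H w s = P := by
  let pre := Φ.toFunctor.objPreimage
  let i : ∀ w, Φ.obj (pre w) ≅ w := Φ.toFunctor.objObjPreimageIso
  let cmp : ∀ w, sch V w ⟶ sch W (pre w) := fun w =>
    bmap V (i w).inv ≫ eqToHom (StMod.sch_obj_eq Φ (pre w))
  refine ⟨fun w s => ptsOf (pre w) (cmp w s), fun w => (continuous_ptsOf hA _).comp (cmp w).continuous,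
    fun {w' w} φ => ?_, fun P => ?_⟩
  · obtain ⟨ψ, hψ⟩ := Φ.toFunctor.map_surjective ((i w').hom ≫ φ ≫ (i w).inv)
    funext s
    show ptsOf (pre w') (cmp w' s) = ptsOf (pre w) (cmp w (bmap V φ s))
    rw [ptsOf_map ψ, Function.comp_apply, ← Scheme.Hom.comp_apply, ← Scheme.Hom.comp_apply]
    refine congrArg (fun g : sch V w' ⟶ sch W (pre w) => ptsOf (pre w) (g s)) ?_
    have h1 : bmap V (Φ.map ψ) = bmap V ((i w').hom ≫ φ ≫ (i w).inv) := congrArg _ hψ
    rw [bmap_map_eq, bmap_comp, bmap_comp] at h1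
    have h2 := congrArg (fun g => bmap V (i w').inv ≫ g ≫ eqToHom (StMod.sch_obj_eq Φ (pre w))) h1
    simp only [Category.assoc, eqToHom_trans, eqToHom_refl, Category.comp_id] at h2
    refine (Category.assoc _ _ _).trans (h2.trans ?_)
    rw [← Category.assoc (bmap V (i w').inv), ← bmap_comp, Iso.inv_hom_id, bmap_id, Category.id_comp]
  · obtain ⟨o, s, rfl⟩ := exists_ptsOf_eq P
    let w := Φ.obj o
    obtain ⟨ψ, hψ⟩ := Φ.toFunctor.map_surjective (i w).hom
    haveI : IsIso (Φ.map ψ) := by rw [hψ]; infer_instance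
    haveI : IsIso ψ := isIso_of_reflects_iso ψ Φ.toFunctor
    haveI : IsIso (bmap W ψ) := StPushLib.isIso_bmap ψ
    obtain ⟨s', rfl⟩ : s ∈ Set.range (bmap W ψ) := ⟨(inv (bmap W ψ)) s, by
      rw [← Scheme.Hom.comp_apply, IsIso.inv_hom_id]; rfl⟩
    refine ⟨w, (eqToHom (StMod.sch_obj_eq Φ (pre w)).symm ≫ bmap V (i w).hom) s', ?_⟩
    show ptsOf (pre w) (cmp w _) = _
    rw [← Scheme.Hom.comp_apply]
    refine Eq.trans ?_ (congrFun (ptsOf_map ψ) s')
    refine congrArg (fun g : sch W (pre w) ⟶ _ => ptsOf (pre w) (g s')) (?_ : _ = 𝟙 _)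
    show (eqToHom _ ≫ bmap V (i w).hom) ≫ bmap V (i w).inv ≫ eqToHom _ = _
    rw [Category.assoc, ← Category.assoc (bmap V (i w).hom), ← bmap_comp, Iso.hom_inv_id, bmap_id,
      Category.id_comp, eqToHom_trans, eqToHom_refl]

variable {𝒳 : AlgSt.Cat S} [IsFibGrpd 𝒳.p] {M : AlgSp.Sp S} [IsFibGrpd (AlgSt.ofSp M).p]
  {π : 𝒳 ⥤ᵇ AlgSt.ofSp M}

/-- A space covered compatibly by the objects over a base without idempotents with bijective unit is connected. -/
theorem connectedSpace_of_family {η : (AlgSt.ofSp M).obj} (hU : Function.Bijective (unitSect π η))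
    (hne : Nontrivial (Base η)) (h01 : ∀ r : Base η, IsIdempotentElem r → r = 0 ∨ r = 1)
    {P : Type (u+1)} [TopologicalSpace P] (H : ∀ w, sch (fibCat π η) w → P) (hHc : ∀ w, Continuous (H w))
    (hH : ∀ {w' w : (fibCat π η).obj} (φ : w' ⟶ w), H w' = H w ∘ bmap (fibCat π η) φ)
    (hHs : ∀ p, ∃ w s, H w s = p) : ConnectedSpace P := by
  rw [connectedSpace_iff_clopen]
  refine ⟨?_, fun U hUc => ?_⟩
  · by_contra hc
    rw [not_nonempty_iff] at hc
    refine one_ne_zero (α := Base η) (hU.1 (Mod.RelSect.ext _ _ _ fun ξ α => ?_))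
    haveI : IsEmpty (sch (fibCat π η) (CostructuredArrow.mk (S := π.toFunctor) (Y := ξ) α)) :=
      ⟨fun s => hc.false (H _ s)⟩
    exact Subsingleton.elim (α := Γ(sch (fibCat π η) (CostructuredArrow.mk (S := π.toFunctor) (Y := ξ) α), ⊤)) _ _
  have hid := fun w => ProperClopenLib.exists_idempotent_of_isClopen_scheme (hUc.preimage (hHc w))
  choose e he heU using hid
  have hnat : ∀ {w' w : (fibCat π η).obj} (φ : w' ⟶ w), (bmap (fibCat π η) φ).appTop (e w) = e w' :=
    fun {w' w} φ => idempotent_eq ((he w).map (bmap (fibCat π η) φ).appTop.hom) (he w')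
      (TopologicalSpace.Opens.ext (by
        rw [← Scheme.preimage_basicOpen_top, TopologicalSpace.Opens.map_coe, heU, heU, hH φ]
        rfl))
  obtain ⟨r, hr⟩ := hU.2 (⟨fun ξ α => e (CostructuredArrow.mk (S := π.toFunctor) (Y := ξ) α), fun {ξ' ξ} φ α =>
    (O_mapTop 𝒳 φ _).trans (hnat (w' := CostructuredArrow.mk (S := π.toFunctor) (Y := ξ') (π.map φ ≫ α))
      (w := CostructuredArrow.mk (S := π.toFunctor) (Y := ξ) α) (CostructuredArrow.homMk φ rfl))⟩ :
      (O 𝒳).RelSect π η)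
  have hrv : ∀ w : (fibCat π η).obj, (fibBase w).appTop r = e w := fun w =>
    congrArg (fun s : (O 𝒳).RelSect π η => s.1 w.left w.hom) hr
  have hrr : IsIdempotentElem r := hU.1 (Mod.RelSect.ext _ _ _ fun ξ α => by
    let w : (fibCat π η).obj := CostructuredArrow.mk (S := π.toFunctor) (Y := ξ) α
    show (fibBase w).appTop (r * r) = (fibBase w).appTop r
    rw [map_mul, hrv]
    exact he w)
  rcases h01 r hrr with rfl | rfl
  · refine Or.inl (Set.eq_empty_iff_forall_notMem.2 fun p hp => ?_)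
    obtain ⟨w, s, rfl⟩ := hHs p
    have : s ∈ (sch (fibCat π η) w).basicOpen (e w) := (heU w).ge hp
    rw [← hrv, map_zero, Scheme.basicOpen_zero] at this
    exact this
  · refine Or.inr (Set.eq_univ_iff_forall.2 fun p => ?_)
    obtain ⟨w, s, rfl⟩ := hHs p
    refine (heU w).le (?_ : s ∈ (sch (fibCat π η) w).basicOpen (e w))
    rw [← hrv, map_one, Scheme.basicOpen_of_isUnit _ isUnit_one]
    trivial

/-- The category over a point of a good moduli space has connected space of points. -/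
theorem connectedSpace_fp_uf (h𝒳 : AlgSt.IsAlgStack Scheme.fppfPrecoverage 𝒳) (hM : IsAlgSpace M) (hQ : QcProd M)
    (hqc : AlgSt.IsQuasiCompactMor Scheme.fppfPrecoverage π) (hqs : AlgSt.IsQuasiSeparatedMor π)
    (h : StMod.IsGoodModuli π) {K : Type u} [Field K] {t : Spec (CommRingCat.of K) ⟶ S}
    (z0 : (AlgSt.ofSp M).p.Fiber (Over.mk t)) : ConnectedSpace (AlgSt.Points (fp (uf z0) π)) := by
  have hfp := AlgStLib.isAlgStack_fp' (AlgStLib.isAlgStack_ofSch (Over.mk t)) h𝒳
    (AlgStLib.isAlgStack_ofSp hM) (uf z0) π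
  haveI : IsFibGrpd (fp (uf z0) π).p := AlgStLib.isFibGrpd_of_isAlgStack hfp
  haveI := StPushLib.faithful_fpToFib π z0
  haveI := StPushLib.full_fpToFib π z0
  haveI := StPushLib.essSurj_fpToFib π z0
  obtain ⟨H, hHc, hH, hHs⟩ := exists_ptsFamily (fpToFib π z0) hfp.atlas
  have hl : sch (AlgSt.ofSp M) z0.1 = Spec (CommRingCat.of K) := congrArg Comma.left z0.2
  have haff : IsAffine z0.1.base.left := by
    show IsAffine (sch (AlgSt.ofSp M) z0.1)
    rw [hl]
    infer_instance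
  let E : Base z0.1 ≃+* K := (eqToIso (congrArg (fun X : Scheme.{u} => Γ(X, ⊤)) hl) ≪≫
    Scheme.ΓSpecIso (CommRingCat.of K)).commRingCatIsoToRingEquiv
  refine connectedSpace_of_family (bijective_unitSect_affine h𝒳 hM hQ hqc hqs h z0.1 haff)
    E.toEquiv.nontrivial (fun r hr => ?_) H hHc hH hHs
  rcases IsIdempotentElem.iff_eq_zero_or_one.1 (hr.map E) with h0 | h1
  · exact Or.inl (E.injective (h0.trans (map_zero E).symm))
  · exact Or.inr (E.injective (h1.trans (map_one E).symm))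

/-- The fibres of a good moduli space map are connected. -/
theorem connectedSpace_fp_ofSpMap (h𝒳 : AlgSt.IsAlgStack Scheme.fppfPrecoverage 𝒳) (hM : IsAlgSpace M) (hQ : QcProd M)
    (hqc : AlgSt.IsQuasiCompactMor Scheme.fppfPrecoverage π) (hqs : AlgSt.IsQuasiSeparatedMor π)
    (h : StMod.IsGoodModuli π) {K : Type u} [Field K] {t : Spec (CommRingCat.of K) ⟶ S}
    (y : (yon S).obj (Over.mk t) ⟶ M) : ConnectedSpace (AlgSt.Points (fp (AlgSt.ofSpMap y) π)) := by
  haveI hT : IsFibGrpd (AlgSt.ofSch (Over.mk t)).p := Stk.isFibGrpd_ofPsh _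
  obtain ⟨α⟩ := IsoNatLib.nonempty_uf_iso (V := Over.mk t) (AlgSt.ofSpMap y)
  generalize Fiber.mk (p := (AlgSt.ofSp M).p) (a := (AlgSt.ofSpMap y).obj ⟨Over.mk t, ⟨𝟙 _⟩⟩)
    ((AlgSt.ofSpMap y).w_obj _) = z0 at α
  have hc := connectedSpace_fp_uf h𝒳 hM hQ hqc hqs h z0
  have hfp := AlgStLib.isAlgStack_fp' (AlgStLib.isAlgStack_ofSch (Over.mk t)) h𝒳
    (AlgStLib.isAlgStack_ofSp hM) (AlgSt.ofSpMap y) π
  haveI : IsFibGrpd (fp (AlgSt.ofSpMap y) π).p := AlgStLib.isFibGrpd_of_isAlgStack hfp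
  obtain ⟨E, hE⟩ := FibLib.equivTo_fp_congr α.symm (Iso.refl π)
  exact @Function.Surjective.connectedSpace _ _ _ hc _ _ (AlgStLib.map_bijective_of_isEquivOver hE).2
    (AlgStLib.continuous_map hfp.atlas E)

end CohAffMorLib.UnitBC
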