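import Groth.Agent.CohAffMorLib.UnitBC.Main
import Groth.Agent.AlgStLib.Points

/-!
# A good moduli space map is surjective on points
-/

set_option autoImplicit false
set_option linter.style.haveILetI false
set_option backward.isDefEq.respectTransparency false
set_option backward.isDefEq.respectTransparency.types false
set_option maxHeartbeats 1600000

universe u

open CategoryTheory CategoryTheory.Limits AlgebraicGeometry AlgSp AlgSpLib FibCat FibLib Opposite StMod GenDescLib
open StPushLib (QcProd)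

noncomputable section

namespace CohAffMorLib.UnitBC

variable {S : Scheme.{u}}

theorem over_eq {T : Over S} {Y : Scheme.{u}} (e : T.left = Y) : T = Over.mk (eqToHom e.symm ≫ T.hom) := by
  subst e
  simp
  rfl

variable {𝒳 : AlgSt.Cat S} {M : AlgSp.Sp S} {π : 𝒳 ⥤ᵇ AlgSt.ofSp M}

/-- A good moduli space map is surjective on points. -/
theorem surjective_points (h𝒳 : AlgSt.IsAlgStack Scheme.fppfPrecoverage 𝒳) (hM : IsAlgSpace M) (hQ : QcProd M)
    (hqc : AlgSt.IsQuasiCompactMor Scheme.fppfPrecoverage π) (hqs : AlgSt.IsQuasiSeparatedMor π)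
    (h : StMod.IsGoodModuli π) : AlgSt.IsSurjective π := by
  haveI := AlgStLib.isFibGrpd_of_isAlgStack h𝒳
  haveI hB : IsFibGrpd (AlgSt.ofSp M).p := Stk.isFibGrpd_ofPsh _
  intro y
  obtain ⟨p, rfl⟩ := AlgSt.Points.mk_surjective y
  let η : (AlgSt.ofSp M).obj := p.obj
  have hl : η.base.left = Spec (CommRingCat.of p.K) := congrArg Comma.left p.lies
  haveI hη : IsAffine η.base.left := hl ▸ inferInstance
  haveI : IsAffine (sch (AlgSt.ofSp M) η) := hη
  haveI : IsFibGrpd (fibCat π η).p := StPushLib.isFibGrpd_fibCat π η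
  have hU := bijective_unitSect_affine h𝒳 hM hQ hqc hqs h η hη
  obtain ⟨w0, r, pc, qc, hw0, hr, hW⟩ := exists_chartData hqc hqs η
  haveI := hw0
  have hne : Nonempty (sch (fibCat π η) w0) := by
    by_contra hc
    rw [not_nonempty_iff] at hc
    have h01 : (1 : Γ(η.base.left, ⊤)) = 0 := hU.1 (TameStLib.relSect_ext_chart hW (OQ (𝒳 := 𝒳)) _ _
      (Subsingleton.elim (α := Γ(sch (fibCat π η) w0, ⊤)) _ _))
    haveI : Nonempty η.base.left := by rw [hl]; infer_instance
    haveI : Nonempty (⊤ : η.base.left.Opens) := ⟨⟨Classical.arbitrary _, trivial⟩⟩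
    exact one_ne_zero h01
  obtain ⟨t⟩ := hne
  obtain ⟨z, e, m, -⟩ := fib_lift (f := π) (η := η) w0 _ ((sch (fibCat π η) w0).fromSpecResidueField t)
  let q : AlgSt.FPt 𝒳 :=
    { K := (sch (fibCat π η) w0).residueField t
      str := eqToHom e.symm ≫ (𝒳.p.obj z.left).hom
      obj := z.left
      lies := over_eq e }
  exact ⟨AlgSt.Points.mk q, AlgStLib.mk_eq_of_hom (p := q.map π) (q := p) z.hom⟩

end CohAffMorLib.UnitBC
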