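import Groth.Agent.CohAffMorLib.UnitBC.MapSch
import Groth.Agent.CohAffMorLib.UnitBC.Conn
import Groth.Agent.CohAffMorLib.UnitBC.Surj
import Groth.Agent.ResGerbeLib.SmoothDescent
import Groth.Agent.AlgSpRegLib.ImageScheme

/-!
# Good moduli space maps are closed
-/

set_option autoImplicit false
set_option linter.style.haveILetI false
set_option backward.isDefEq.respectTransparency false
set_option backward.isDefEq.respectTransparency.types false
set_option maxHeartbeats 1600000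

universe u

open CategoryTheory CategoryTheory.Limits AlgebraicGeometry AlgSp AlgSpLib FibCat FibLib Opposite StMod GenDescLib
open TopologicalSpace (Closeds)
open CategoryTheory.Functor (Fiber IsPreFibered)
open StPushLib (QcProd FlatSys memObj AtlasMem)

noncomputable section

namespace CohAffMorLib.UnitBC

variable {S : Scheme.{u}} {𝒳 : AlgSt.Cat S} [IsFibGrpd 𝒳.p]

/-- Natural closed subsets of the schemes of objects. -/
def NatClosed (C : ∀ o : 𝒳.obj, Closeds (sch 𝒳 o)) : Prop :=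
  ∀ {o' o : 𝒳.obj} (φ : o' ⟶ o), (C o' : Set (sch 𝒳 o')) = bmap 𝒳 φ ⁻¹' C o

/-- The ideal of a natural closed subset pulls back independently of the morphism to the atlas. -/
theorem comap_vanishing_eq {U : Over S} {x : overCat U ⥤ᵇ 𝒳} (hx : AlgSt.RepByAlgSpWith (LocP @Smooth) x)
    {C : ∀ o : 𝒳.obj, Closeds (sch 𝒳 o)} (hC : NatClosed C) {o : 𝒳.obj} (a b : o ⟶ x.obj (topObj U)) :
    (Scheme.IdealSheafData.vanishingIdeal (C (x.obj (topObj U)))).comap (bmap 𝒳 a) =
      (Scheme.IdealSheafData.vanishingIdeal (C (x.obj (topObj U)))).comap (bmap 𝒳 b) := by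
  obtain ⟨R, p, q, hR, hp⟩ := StPushLib.exists_relAtlas x hx
  haveI := hp
  let K := Scheme.IdealSheafData.vanishingIdeal (C (x.obj (topObj U)))
  have hp' : K.comap (bmap 𝒳 p) = Scheme.IdealSheafData.vanishingIdeal (C R) := by
    refine (ResGerbeLib.comap_vanishingIdeal_smooth _ _).trans (congrArg _ ?_)
    exact SetLike.coe_injective (hC p).symm
  have hq' : K.comap (bmap 𝒳 q) = Scheme.IdealSheafData.vanishingIdeal (C R) := by
    obtain ⟨y, c, e, hc, hs, he, -, h1, -, -⟩ := hR.exists_sq hR.symm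
    haveI := hc; haveI := hs; haveI := he
    refine AlgSpRegLib.comap_injective_of_flat_surjective (bmap 𝒳 c) ?_
    rw [← Scheme.IdealSheafData.comap_comp, ← bmap_comp, ← h1, bmap_comp, Scheme.IdealSheafData.comap_comp, hp',
      ResGerbeLib.comap_vanishingIdeal_smooth, ResGerbeLib.comap_vanishingIdeal_smooth]
    exact congrArg _ (SetLike.coe_injective ((hC e).symm.trans (hC c)))
  obtain ⟨o', c, e, hc, hs, h1, h2, -⟩ := hR o a b
  haveI := hc; haveI := hs
  refine AlgSpRegLib.comap_injective_of_flat_surjective (bmap 𝒳 c) ?_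
  rw [← Scheme.IdealSheafData.comap_comp, ← Scheme.IdealSheafData.comap_comp, ← bmap_comp, ← bmap_comp, ← h1, ← h2,
    bmap_comp, bmap_comp, Scheme.IdealSheafData.comap_comp, Scheme.IdealSheafData.comap_comp, hp', hq']

section Affine

variable {V : Over S} {π : 𝒳 ⥤ᵇ AlgSt.ofSch V}

/-- The map of an object to the base scheme. -/
def baseMap (π : 𝒳 ⥤ᵇ AlgSt.ofSch V) (o : 𝒳.obj) : 𝒳.p.obj o ⟶ V :=
  eqToHom (π.w_obj o).symm ≫ (π.obj o).sec.down

variable [IsAffine V.left]

variable (V) in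
/-- The affine scheme as an etale object over itself. -/
def selfEt : EtOver ((yon S).obj V) := EtOver.mk (𝟙 _) (repWith_id _ V)

theorem sec_selfEt : (etaOf (selfEt V)).sec = ⟨𝟙 V⟩ :=
  GrothendieckTopology.uliftYonedaEquiv_uliftYoneda_map _ _ |>.symm.trans
    (congrArg ((AlgSp.J S).uliftYonedaEquiv) ((yon S).map_id V)) |>.symm

theorem exists_toSelf (o : 𝒳.obj) : ∃ ρ : π.obj o ⟶ etaOf (selfEt V), baseOver π o ρ = baseMap π o := by
  refine ⟨⟨(π.obj o).sec.down, ?_⟩, rfl⟩
  rw [sec_selfEt]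
  refine ULift.ext _ _ ?_
  exact Category.comp_id (π.obj o).sec.down

theorem hom_down {o : 𝒳.obj} (ρ : π.obj o ⟶ etaOf (selfEt V)) : ρ.hom = (π.obj o).sec.down := by
  have h := ρ.map_sec
  rw [sec_selfEt] at h
  exact (Category.comp_id _).symm.trans (congrArg ULift.down h)

theorem fibBase_selfEt (w : (fibCat π (etaOf (selfEt V))).obj) : fibBase w = (baseMap π w.left).left := by
  show (eqToHom _ ≫ w.hom.hom).left = _
  rw [hom_down w.hom]
  rfl

/-- Objects over the scheme are all objects. -/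
def toSelfObj (o : 𝒳.obj) : (fibCat π (etaOf (selfEt V))).obj :=
  CostructuredArrow.mk (S := π.toFunctor) (Y := o) (exists_toSelf (π := π) o).choose

theorem exists_toSelfHom {o : 𝒳.obj} {w : (fibCat π (etaOf (selfEt V))).obj} (a : o ⟶ w.left) :
    ∃ m : toSelfObj (π := π) o ⟶ w, m.left = a :=
  ⟨CostructuredArrow.homMk a (Stk.EltObj.hom_ext ((hom_down (π.map a ≫ w.hom)).trans (hom_down _).symm)), rfl⟩

variable [IsFibGrpd (AlgSt.ofSch V).p]

/-- Members over the affine scheme. -/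
abbrev MemV (π : 𝒳 ⥤ᵇ AlgSt.ofSch V) {U : Over S} (x : overCat U ⥤ᵇ 𝒳) (z : (fibCat π (etaOf (selfEt V))).obj) : Prop :=
  AtlasMem x z.left

theorem flatSys_memV {U : Over S} {x : overCat U ⥤ᵇ 𝒳} (hx : AlgSt.RepByAlgSpWith (LocP @Smooth) x)
    (hxs : AlgSt.RepByAlgSpWith IsSurjectiveMor x) : FlatSys (MemV π x) := by
  haveI : IsAffine (etaOf (selfEt V)).base.left := ‹IsAffine V.left›
  exact StPushLib.flatSys_fibCat π _ (by rw [StPushLib.toM_etaOf]; exact (selfEt V).property)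
    (StPushLib.flatSys_atlas x hx hxs)

instance isAffine_memV {U : Over S} {x : overCat U ⥤ᵇ 𝒳} (z : {z // MemV π x z}) :
    IsAffine (sch (fibCat π (etaOf (selfEt V))) (memObj z)) := z.2.1

instance isAffine_memV_left {U : Over S} {x : overCat U ⥤ᵇ 𝒳} (z : {z // MemV π x z}) :
    IsAffine (sch 𝒳 z.1.left) := z.2.1

/-- The system of ideals of a natural closed subset. -/
def vanSys {U : Over S} {x : overCat U ⥤ᵇ 𝒳} [IsAffine (sch 𝒳 (x.obj (topObj U)))]
    (hx : AlgSt.RepByAlgSpWith (LocP @Smooth) x) (D : ∀ o : 𝒳.obj, Closeds (sch 𝒳 o)) (hD : NatClosed D) :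
    IdealSys (MemV π x) :=
    { I := fun z => ((Scheme.IdealSheafData.vanishingIdeal (D (x.obj (topObj U)))).comap (bmap 𝒳 z.2.2.choose)).ideal
        ⟨⊤, isAffineOpen_top _⟩
      res_mem := fun {z' z} l a ha => by
        have := Ideal.mem_map_of_mem (bmap (fibCat π (etaOf (selfEt V))) l).appTop.hom ha
        rw [← ChevLib.ideal_comap_top_of_isAffine, ← Scheme.IdealSheafData.comap_comp] at this
        rw [comap_vanishing_eq hx hD z'.2.2.choose (l.left ≫ z.2.2.choose), bmap_comp]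
        exact this
      flat := fun {z' z} l _ => by
        show _ ≤ Ideal.map (bmap (fibCat π (etaOf (selfEt V))) l).appTop.hom _
        rw [← ChevLib.ideal_comap_top_of_isAffine, ← Scheme.IdealSheafData.comap_comp,
          comap_vanishing_eq hx hD z'.2.2.choose (l.left ≫ z.2.2.choose), bmap_comp]
        exact le_rfl }

/-- The functions of the system vanish on the subset. -/
theorem vanSys_vanish {U : Over S} {x : overCat U ⥤ᵇ 𝒳} [IsAffine (sch 𝒳 (x.obj (topObj U)))]
    (hx : AlgSt.RepByAlgSpWith (LocP @Smooth) x) (hxs : AlgSt.RepByAlgSpWith IsSurjectiveMor x)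
    (D : ∀ o : 𝒳.obj, Closeds (sch 𝒳 o)) (hD : NatClosed D) (a : Base (etaOf (selfEt V)))
    (ha : a ∈ (vanSys (π := π) hx D hD).base) (o : 𝒳.obj) (s : sch 𝒳 o) (hs : s ∈ D o) :
    (baseMap π o).left s ∉ V.left.basicOpen a := by
  have hM' := flatSys_memV (π := π) hx hxs
  let ν : (AlgSt.ofSch V).obj := etaOf (selfEt V)
  let xt := x.obj (topObj U)
  let Mem := MemV π x
  haveI : IsFibGrpd (fibCat π ν).p := StPushLib.isFibGrpd_fibCat π ν
  intro hmem
  let w := toSelfObj (π := π) o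
  obtain ⟨K, y', c, z, d, hz, hc⟩ := hM'.loc w
  obtain ⟨k, s', hs'⟩ := hc.surj s
  let zk : {z // Mem z} := ⟨z k, hz k⟩
  let t : sch 𝒳 (z k).left := bmap 𝒳 (d k).left s'
  have htD : t ∈ D (z k).left := by
    have : s' ∈ (D (y' k).left : Set (sch 𝒳 (y' k).left)) := by
      rw [hD (c k).left]
      show bmap 𝒳 (c k).left s' ∈ D o
      rw [show bmap 𝒳 (c k).left s' = s from hs']
      exact hs
    rwa [hD (d k).left] at this
  have hsupp : t ∈ ((Scheme.IdealSheafData.vanishingIdeal (D xt)).comap (bmap 𝒳 zk.2.2.choose)).support := by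
    rw [Scheme.IdealSheafData.support_comap]
    show bmap 𝒳 zk.2.2.choose t ∈ ((Scheme.IdealSheafData.vanishingIdeal (D xt)).support : Set _)
    rw [Scheme.IdealSheafData.coe_support_vanishingIdeal]
    show t ∈ bmap 𝒳 zk.2.2.choose ⁻¹' (D xt : Set _)
    rw [← hD]
    exact htD
  haveI : IsAffine (sch 𝒳 (z k).left) := hM'.aff _ (hz k)
  rw [Scheme.IdealSheafData.mem_support_iff_of_mem (U := ⟨⊤, isAffineOpen_top _⟩) trivial,
    Scheme.mem_zeroLocus_iff] at hsupp
  refine hsupp _ (IdealSys.mem_base.1 ha zk) ?_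
  show t ∈ (sch (fibCat π ν) (z k)).basicOpen ((fibBase (z k)).appTop a)
  rw [← Scheme.preimage_basicOpen_top]
  show fibBase (z k) (bmap (fibCat π ν) (d k) s') ∈ (sch (AlgSt.ofSch V) ν).basicOpen a
  rw [← Scheme.Hom.comp_apply, bmap_fibBase, ← bmap_fibBase (c k), Scheme.Hom.comp_apply, hs',
    fibBase_selfEt w]
  exact hmem

/-- The image of a natural closed subset is closed. -/
theorem isClosed_image_of_natClosed (h : StMod.IsCohAffine π) (hUnit : StMod.UnitIsIso π)
    (hUaff : ∀ η : (AlgSt.ofSch V).obj, IsAffine η.base.left → Function.Bijective (unitSect π η))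
    {U : Over S} (hUa : IsAffine U.left) {x : overCat U ⥤ᵇ 𝒳}
    (hx : AlgSt.RepByAlgSpWith (LocP @Smooth) x) (hxs : AlgSt.RepByAlgSpWith IsSurjectiveMor x)
    {C : ∀ o : 𝒳.obj, Closeds (sch 𝒳 o)} (hC : NatClosed C) :
    IsClosed {v : V.left | ∃ (o : 𝒳.obj) (s : sch 𝒳 o), s ∈ C o ∧ (baseMap π o).left s = v} := by
  let E := selfEt V
  let ν : (AlgSt.ofSch V).obj := etaOf E
  have hE : IsAffine E.obj.left.left := ‹IsAffine V.left›
  haveI : IsAffine ν.base.left := hE
  haveI : IsFibGrpd (fibCat π ν).p := StPushLib.isFibGrpd_fibCat π ν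
  have hQ : QcProd ((yon S).obj V) := StPushLib.qcProd_sch V
  have hMem₀ := StPushLib.flatSys_atlas x hx hxs
  have hν : RepWith @Etale (StPushLib.toM ν) := by rw [StPushLib.toM_etaOf]; exact E.property
  let Mem : (fibCat π ν).obj → Prop := fun z => AtlasMem x z.left
  have hM' : FlatSys Mem := StPushLib.flatSys_fibCat π ν hν hMem₀
  let xt := x.obj (topObj U)
  haveI hxt : IsAffine (sch 𝒳 xt) := by
    show IsAffine (𝒳.p.obj (x.obj (topObj U))).left
    rw [x.w_obj]
    exact hUa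
  haveI : ∀ z : {z // Mem z}, IsAffine (sch (fibCat π ν) (memObj z)) := fun z => hM'.aff _ z.2
  haveI : ∀ z : {z // Mem z}, IsAffine (sch 𝒳 z.1.left) := fun z => hM'.aff _ z.2
  let sys : ∀ (D : ∀ o : 𝒳.obj, Closeds (sch 𝒳 o)), NatClosed D → IdealSys Mem := fun D hD =>
    vanSys hx D hD
  have hvan : ∀ (D : ∀ o : 𝒳.obj, Closeds (sch 𝒳 o)) (hD : NatClosed D) (a : Base ν), a ∈ (sys D hD).base →
      ∀ (o : 𝒳.obj) (s : sch 𝒳 o), s ∈ D o → (baseMap π o).left s ∉ V.left.basicOpen a :=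
    fun D hD => vanSys_vanish hx hxs D hD
  -- the set
  rw [← isOpen_compl_iff, isOpen_iff_forall_mem_open]
  intro v hv
  let 𝔭 : PrimeSpectrum Γ(V.left, ⊤) := V.left.isoSpec.hom v
  have hv𝔭 : (isAffineOpen_top V.left).fromSpec 𝔭 = v := by
    rw [IsAffineOpen.fromSpec_top]
    show (V.left.isoSpec.hom ≫ V.left.isoSpec.inv) v = v
    rw [Iso.hom_inv_id]; rfl
  have hmem : ∀ (a : Base ν), v ∈ V.left.basicOpen a ↔ a ∉ 𝔭.asIdeal := fun a => by
    rw [← hv𝔭]
    show 𝔭 ∈ (isAffineOpen_top V.left).fromSpec ⁻¹ᵁ V.left.basicOpen a ↔ _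
    rw [IsAffineOpen.fromSpec_preimage_basicOpen]
    rfl
  let D : ∀ o : 𝒳.obj, Closeds (sch 𝒳 o) := fun o =>
    ⟨(baseMap π o).left ⁻¹' closure {v}, isClosed_closure.preimage (baseMap π o).left.continuous⟩
  have hnat : ∀ {o' o : 𝒳.obj} (φ : o' ⟶ o), bmap 𝒳 φ ≫ (baseMap π o).left = (baseMap π o').left := fun {o' o} φ => by
    obtain ⟨m, hm⟩ := exists_toSelfHom (π := π) (w := toSelfObj (π := π) o) φ
    have h1 := bmap_fibBase m
    rw [fibBase_selfEt, fibBase_selfEt] at h1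
    rw [← hm]
    exact h1
  have hDn : NatClosed D := fun {o' o} φ => by
    show (baseMap π o').left ⁻¹' closure {v} = bmap 𝒳 φ ⁻¹' ((baseMap π o).left ⁻¹' closure {v})
    rw [← hnat φ]
    rfl
  have hDp : (sys D hDn).base ≤ 𝔭.asIdeal := fun a ha => by
    by_contra hap
    obtain ⟨w, s, hs⟩ := exists_point_over hUaff ν v
    refine hvan D hDn a ha w.left s ?_ ?_
    · show (baseMap π w.left).left s ∈ closure {v}
      rw [← fibBase_selfEt]
      erw [hs]
      exact subset_closure rfl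
    · rw [← fibBase_selfEt]
      erw [hs]
      exact (hmem a).2 hap
  by_cases hCp : (sys C hC).base ≤ 𝔭.asIdeal
  · exfalso
    let R := Γ(sch 𝒳 xt, ⊤)
    let φR : Base ν →+* R := ((baseMap π xt).left.appTop).hom
    let I : Ideal R := (Scheme.IdealSheafData.vanishingIdeal (C xt)).ideal ⟨⊤, isAffineOpen_top _⟩
    let J : Ideal R := (Scheme.IdealSheafData.vanishingIdeal (D xt)).ideal ⟨⊤, isAffineOpen_top _⟩
    have hfs : ∀ Q : PrimeSpectrum R, ∀ (b : Base ν), φR b ∈ Q.asIdeal →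
        (baseMap π xt).left ((isAffineOpen_top (sch 𝒳 xt)).fromSpec Q) ∉ V.left.basicOpen b := fun Q b hb hm => by
      have h1 : Q ∈ (isAffineOpen_top (sch 𝒳 xt)).fromSpec ⁻¹ᵁ ((baseMap π xt).left ⁻¹ᵁ V.left.basicOpen b) := hm
      rw [Scheme.preimage_basicOpen_top] at h1
      erw [IsAffineOpen.fromSpec_preimage_basicOpen] at h1
      exact h1 hb
    by_cases hdis : Disjoint ((I ⊔ 𝔭.asIdeal.map φR : Ideal R) : Set R) (Submonoid.map φR 𝔭.asIdeal.primeCompl)
    · obtain ⟨Q, hQp, hQ1, hQ2⟩ := Ideal.exists_le_prime_disjoint _ _ hdis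
      have hcomap : Q.comap φR = 𝔭.asIdeal := by
        refine le_antisymm (fun b hb => ?_) (Ideal.map_le_iff_le_comap.1 (le_sup_right.trans hQ1))
        by_contra hbp
        exact Set.disjoint_left.1 hQ2 hb ⟨b, hbp, rfl⟩
      let q : sch 𝒳 xt := (isAffineOpen_top (sch 𝒳 xt)).fromSpec ⟨Q, hQp⟩
      refine hv ⟨xt, q, ?_, ?_⟩
      · have hqs : q ∈ (Scheme.IdealSheafData.vanishingIdeal (C xt)).support := by
          rw [Scheme.IdealSheafData.mem_support_iff_of_mem (U := ⟨⊤, isAffineOpen_top _⟩) trivial,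
            Scheme.mem_zeroLocus_iff]
          intro a ha hqa
          have h1 : (⟨Q, hQp⟩ : PrimeSpectrum R) ∈ (isAffineOpen_top (sch 𝒳 xt)).fromSpec ⁻¹ᵁ
              (sch 𝒳 xt).basicOpen a := hqa
          rw [IsAffineOpen.fromSpec_preimage_basicOpen] at h1
          exact h1 ((le_sup_left.trans hQ1) ha)
        rw [← SetLike.mem_coe, Scheme.IdealSheafData.coe_support_vanishingIdeal] at hqs
        exact hqs
      · have key : ∀ b : Base ν, (baseMap π xt).left q ∈ V.left.basicOpen b ↔ b ∉ 𝔭.asIdeal := fun b => by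
          constructor
          · intro hm hb
            exact hfs ⟨Q, hQp⟩ b (show b ∈ Q.comap φR from hcomap ▸ hb) hm
          · intro hb
            show (⟨Q, hQp⟩ : PrimeSpectrum R) ∈ (isAffineOpen_top (sch 𝒳 xt)).fromSpec ⁻¹ᵁ
              ((baseMap π xt).left ⁻¹ᵁ V.left.basicOpen b)
            rw [Scheme.preimage_basicOpen_top]
            erw [IsAffineOpen.fromSpec_preimage_basicOpen]
            exact fun hbQ => hb (hcomap ▸ hbQ)
        have hbasis : TopologicalSpace.IsTopologicalBasis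
            (Set.range fun b : Γ(V.left, ⊤) => (V.left.basicOpen b : Set V.left)) := by
          have hb := isBasis_basicOpen V.left
          rw [TopologicalSpace.Opens.IsBasis, ← Set.range_comp] at hb
          exact hb
        refine (Inseparable.eq ?_)
        rw [hbasis.inseparable_iff]
        rintro _ ⟨b, rfl⟩
        exact (key b).trans (hmem b).symm
    · obtain ⟨_, hr1, f, hf, rfl⟩ := Set.not_disjoint_iff.1 hdis
      have hJ : 𝔭.asIdeal.map φR ≤ J := Ideal.map_le_iff_le_comap.2 fun b hb => by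
        show φR b ∈ (Scheme.IdealSheafData.vanishingIdeal (D xt)).ideal ⟨⊤, isAffineOpen_top _⟩
        rw [Scheme.IdealSheafData.vanishingIdeal_ideal]
        refine (PrimeSpectrum.mem_vanishingIdeal _ _).2 fun Q hQ => ?_
        by_contra hbQ
        have hqb : (baseMap π xt).left ((isAffineOpen_top (sch 𝒳 xt)).fromSpec Q) ∈ V.left.basicOpen b := by
          show Q ∈ (isAffineOpen_top (sch 𝒳 xt)).fromSpec ⁻¹ᵁ ((baseMap π xt).left ⁻¹ᵁ V.left.basicOpen b)
          rw [Scheme.preimage_basicOpen_top]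
          erw [IsAffineOpen.fromSpec_preimage_basicOpen]
          exact hbQ
        obtain ⟨p, hp1, hp2⟩ := mem_closure_iff.1 hQ _ (V.left.basicOpen b).2 hqb
        rw [Set.mem_singleton_iff.1 hp2] at hp1
        exact (hmem b).1 hp1 hb
      have hfs' : f ∈ ((sys C hC).sup (sys D hDn)).base := IdealSys.mem_base.2 fun z => by
        let a := z.2.2.choose
        have h2 : (bmap 𝒳 a).appTop (φR f) = (fibBase (memObj z)).appTop f := by
          rw [fibBase_selfEt]
          exact (appTop_comp _ _ f).trans (congrArg (fun k => (Scheme.Hom.appTop k) f) (hnat a))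
        show _ ∈ (sys C hC).I z ⊔ (sys D hDn).I z
        haveI : IsAffine (sch 𝒳 z.1.left) := hM'.aff _ z.2
        rw [← h2]
        show (bmap 𝒳 a).appTop (φR f) ∈ ((Scheme.IdealSheafData.vanishingIdeal (C xt)).comap (bmap 𝒳 a)).ideal
          ⟨⊤, isAffineOpen_top _⟩ ⊔ ((Scheme.IdealSheafData.vanishingIdeal (D xt)).comap (bmap 𝒳 a)).ideal
          ⟨⊤, isAffineOpen_top _⟩
        rw [ChevLib.ideal_comap_top_of_isAffine, ChevLib.ideal_comap_top_of_isAffine, ← Ideal.map_sup]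
        exact Ideal.mem_map_of_mem _ (sup_le_sup_left hJ I hr1)
      rw [base_sup h hMem₀ hQ E hE (hUnit E) hM'] at hfs'
      exact hf ((sup_le hCp hDp) hfs')
  · obtain ⟨a, ha, hap⟩ := SetLike.not_le_iff_exists.1 hCp
    refine ⟨V.left.basicOpen a, fun v' hv' ⟨o, s, hs, hos⟩ => ?_, (V.left.basicOpen a).2, (hmem a).2 hap⟩
    exact hvan C hC a ha o s hs (hos ▸ hv')

end Affine

section Points

variable {V : Over S}

/-- The points of the category of a scheme. -/
def ePt (V : Over S) (v : V.left) : AlgSt.Points (AlgSt.ofSch V) := AlgSt.Points.ofChart (AlgSt.ofOverCat V) v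

theorem ePt_injective : Function.Injective (ePt V) := by
  have e : ePt V = AlgStLib.ptMap (BasedFunctor.id (AlgSt.ofSch V)) ∘ AlgSp.Points.schemeHomeo V := by
    funext v
    show AlgSt.Points.ofChart (AlgSt.ofOverCat V) v = _
    rw [AlgStLib.ofChart_eq]
    rfl
  rw [e]
  refine Function.Injective.comp (fun a b hab => ?_) (AlgSp.Points.schemeHomeo V).injective
  have h2 : ∀ c, AlgStLib.ptMap (BasedFunctor.id (AlgSt.ofSch V)) c = (AlgStLib.ptsEquiv _).symm c := fun c =>
    AlgStLib.map_id _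
  rw [h2, h2] at hab
  exact (AlgStLib.ptsEquiv _).symm.injective hab

theorem map_ptsOf (π : 𝒳 ⥤ᵇ AlgSt.ofSch V) (o : 𝒳.obj) (s : sch 𝒳 o) :
    AlgSt.Points.map π (ptsOf o s) = ePt V ((baseMap π o).left s) := by
  haveI : IsFibGrpd (AlgSt.ofSch V).p := Stk.isFibGrpd_ofPsh _
  let z : 𝒳.p.Fiber (𝒳.p.obj o) := Fiber.mk (p := 𝒳.p) (a := o) rfl
  obtain ⟨k⟩ := nonempty_evalAtId_ofPoint_iso z
  have hk : 𝒳.p.IsHomLift (𝟙 (𝒳.p.obj o)) k.hom.1 := k.hom.2
  have hiso : Nonempty (BasedFunctor.comp (ofPoint z) π ≅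
      BasedFunctor.comp (AlgSt.overMap (baseMap π o)) (AlgSt.ofOverCat V)) := by
    refine AlgStLib.nonempty_iso_of_sec fun a => ?_
    let pb := IsPreFibered.pullbackMap z.2 a.hom
    have h1 := AlgStLib.secOf_naturality π pb
    have h2 : AlgStLib.secOf π o = ⟨baseMap π o⟩ := rfl
    erw [h2] at h1
    have hb : 𝒳.p.map pb = eqToHom (IsPreFibered.pullbackObj_proj z.2 a.hom) ≫ a.hom := by
      rw [IsHomLift.fac' 𝒳.p a.hom pb]
      simp
    refine (UnifModLib.secOf_comp (ofPoint z) π a).trans ?_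
    show ((yon S).obj V).obj.map _ (AlgStLib.secOf π (IsPreFibered.pullbackObj z.2 a.hom)) = _
    rw [← h1]
    refine ULift.ext _ _ ?_
    show eqToHom ((ofPoint z).w_obj a).symm ≫ 𝒳.p.map pb ≫ baseMap π o = eqToHom rfl ≫ a.hom ≫ baseMap π o
    rw [hb]
    simp
  obtain ⟨α⟩ := hiso
  have h3 := congrFun (AlgStLib.ofChart_congr α) s
  rw [AlgStLib.ofChart_comp, AlgStLib.ofChart_overMap] at h3
  exact h3

/-- Images of closed sets of points in an affine scheme are closed. -/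
theorem isClosed_image_points [IsAffine V.left] {π : 𝒳 ⥤ᵇ AlgSt.ofSch V}
    (h𝒳 : AlgSt.IsAlgStack Scheme.fppfPrecoverage 𝒳)
    (hqc : AlgSt.IsQuasiCompactMor Scheme.fppfPrecoverage π) (hqs : AlgSt.IsQuasiSeparatedMor π)
    (h : StMod.IsGoodModuli π) (hq : AlgSt.IsQuasiCompact 𝒳) {C : Set (AlgSt.Points 𝒳)} (hC : IsClosed C) :
    IsClosed (ePt V ⁻¹' (AlgSt.Points.map π '' C)) := by
  haveI : IsFibGrpd (AlgSt.ofSch V).p := Stk.isFibGrpd_ofPsh _
  obtain ⟨U, x, hUa, hx, hxs⟩ := hq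
  let Cf : ∀ o : 𝒳.obj, Closeds (sch 𝒳 o) := fun o => ⟨ptsOf o ⁻¹' C, hC.preimage (continuous_ptsOf h𝒳.atlas o)⟩
  have hCf : NatClosed Cf := fun {o' o} φ => by
    show ptsOf o' ⁻¹' C = bmap 𝒳 φ ⁻¹' (ptsOf o ⁻¹' C)
    rw [ptsOf_map φ]
    rfl
  have hUaff : ∀ η : (AlgSt.ofSch V).obj, IsAffine η.base.left → Function.Bijective (unitSect π η) :=
    fun η hη => bijective_unitSect_affine h𝒳 (IsAlgSpace.yon_obj V) (StPushLib.qcProd_sch V) hqc hqs h η hη
  have e : ePt V ⁻¹' (AlgSt.Points.map π '' C) =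
      {v : V.left | ∃ (o : 𝒳.obj) (s : sch 𝒳 o), s ∈ Cf o ∧ (baseMap π o).left s = v} := by
    ext v
    constructor
    · rintro ⟨P, hP, hPv⟩
      obtain ⟨o, s, rfl⟩ := exists_ptsOf_eq P
      exact ⟨o, s, hP, ePt_injective ((map_ptsOf π o s).symm.trans hPv)⟩
    · rintro ⟨o, s, hs, rfl⟩
      exact ⟨ptsOf o s, hs, map_ptsOf π o s⟩
  rw [e]
  exact isClosed_image_of_natClosed h.1 h.2 hUaff hUa hx hxs hCf

end Points

end CohAffMorLib.UnitBC
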