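import Groth.Agent.CohAffMorLib.UnitBC.Tens
import Groth.Agent.StPushLib.Apply

/-!
# An invariant multiple of an element is a multiple over the base
-/

set_option autoImplicit false
set_option linter.style.haveILetI false
set_option backward.isDefEq.respectTransparency false
set_option backward.isDefEq.respectTransparency.types false
set_option maxHeartbeats 1600000

universe u

open CategoryTheory CategoryTheory.Limits AlgebraicGeometry AlgSp FibCat FibLib Opposite StMod GenDescLib
open StPushLib (ModSys SysMod FlatSys memObj exists_sysMod isSurj_of_members QcProd)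
open CohAffLib (hs hs_one oneSec pull_hs mapTop_oneSec mapTop_comapFst ofFamily)
open TwDescLib (indIncl indHom)
open scoped TensorProduct

noncomputable section

namespace CohAffMorLib.UnitBC

variable {S : Scheme.{u}} {𝒳 : AlgSt.Cat S} {M : AlgSp.Sp S} {π : 𝒳 ⥤ᵇ AlgSt.ofSp M} {ν : (AlgSt.ofSp M).obj}

section Sys

variable [IsFibGrpd (fibCat π ν).p] {Mem : (fibCat π ν).obj → Prop} (N : Type u) [AddCommGroup N]
  [Module (Base ν) N] (m : N)

/-- The multiples of an element. -/
abbrev span1 (z : (fibCat π ν).obj) : Submodule (Fun z) (Ext N z) := Fun z ∙ ((1 : Fun z) ⊗ₜ[Base ν] m)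

theorem res_mem {z' z : (fibCat π ν).obj} (d : z' ⟶ z) {t : Ext N z} (ht : t ∈ span1 N m z) :
    res N d t ∈ span1 N m z' := by
  obtain ⟨a, rfl⟩ := Submodule.mem_span_singleton.1 ht
  rw [res_smul, res_one]
  exact Submodule.smul_mem _ _ (Submodule.mem_span_singleton_self _)

/-- The system of multiples of an element. -/
def cycSys (Mem : (fibCat π ν).obj → Prop) : ModSys Mem where
  N z := ULift.{u + 1} ↥(span1 N m (memObj z))
  grp _ := inferInstance
  mod _ := inferInstance
  rs {z' z} l := AddMonoidHom.mk' (fun t => ULift.up ⟨res N l t.down.1, res_mem N m l t.down.2⟩)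
    fun s t => ULift.ext _ _ (Subtype.ext (map_add (res N l) s.down.1 t.down.1))

theorem cycSys_good (hMem : FlatSys Mem) : (cycSys N m Mem).Good where
  small _ := inferInstanceAs (Small.{u} (ULift.{u + 1} _))
  rs_smul l a t := ULift.ext _ _ (Subtype.ext (res_smul N l a t.down.1))
  rs_id z t := ULift.ext _ _ (Subtype.ext (res_id N _ t.down.1))
  rs_comp l' l t := ULift.ext _ _ (Subtype.ext (res_comp N l' l t.down.1))
  flat := by
    intro z' z l hl _ _ _ halg β hβ
    haveI : IsAffine (sch (fibCat π ν) (memObj z)) := hMem.aff _ z.2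
    haveI : IsAffine (sch (fibCat π ν) (memObj z')) := hMem.aff _ z'.2
    have h1 : (algebraMap (Fun (memObj z)) (Fun (memObj z'))).Flat := by
      rw [halg]; exact HasRingHomProperty.appTop (P := @Flat) _ hl
    haveI : Module.Flat (Fun (memObj z)) (Fun (memObj z')) := RingHom.flat_algebraMap_iff.1 h1
    haveI : IsScalarTower (Base ν) (Fun (memObj z)) (Fun (memObj z')) :=
      IsScalarTower.of_algebraMap_eq fun a => by rw [halg]; exact ((rho l).commutes a).symm
    let ζ := TensorProduct.AlgebraTensorModule.cancelBaseChange (Base ν) (Fun (memObj z)) (Fun (memObj z'))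
      (Fun (memObj z')) N
    let P := span1 N m (memObj z)
    let e : (cycSys N m Mem).N z →ₗ[Fun (memObj z)] Ext N (memObj z) :=
      P.subtype ∘ₗ (ULift.moduleEquiv (R := Fun (memObj z)) (M := P)).toLinearMap
    have hei : Function.Injective e := fun a b h => ULift.ext _ _ (Subtype.ext h)
    have key : ∀ x : Fun (memObj z') ⊗[Fun (memObj z)] (cycSys N m Mem).N z,
        (β.liftBaseChange (Fun (memObj z')) x).down.1 = ζ (e.lTensor (Fun (memObj z')) x) := fun x => by
      induction x using TensorProduct.induction_on with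
      | zero => simp
      | tmul a t =>
        rw [LinearMap.liftBaseChange_tmul, LinearMap.lTensor_tmul]
        show a • (β t).down.1 = _
        rw [hβ]
        show a • res N l t.down.1 = ζ (a ⊗ₜ[Fun (memObj z)] t.down.1)
        generalize t.down.1 = s
        induction s using TensorProduct.induction_on with
        | zero => simp
        | tmul b n =>
          rw [res_tmul, TensorProduct.smul_tmul', TensorProduct.AlgebraTensorModule.cancelBaseChange_tmul,
            smul_eq_mul, Algebra.smul_def, halg, mul_comm]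
          rfl
        | add u v hu hv => rw [map_add, smul_add, TensorProduct.tmul_add, map_add, hu, hv]
      | add x y hx hy => rw [map_add, map_add, map_add, ← hx, ← hy]; rfl
    refine ⟨fun x y h => Module.Flat.lTensor_preserves_injective_linearMap e hei (ζ.injective ?_), fun t => ?_⟩
    · rw [← key, ← key, h]
    · obtain ⟨a, ha⟩ := Submodule.mem_span_singleton.1 t.down.2
      refine ⟨a ⊗ₜ[Fun (memObj z)] ULift.up ⟨_, Submodule.mem_span_singleton_self _⟩, ULift.ext _ _ (Subtype.ext ?_)⟩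
      rw [key, ← ha, LinearMap.lTensor_tmul]
      show ζ (a ⊗ₜ[Fun (memObj z)] ((1 : Fun (memObj z)) ⊗ₜ[Base ν] m)) = _
      rw [TensorProduct.AlgebraTensorModule.cancelBaseChange_tmul, one_smul, TensorProduct.smul_tmul', smul_eq_mul,
        mul_one]

end Sys

/-- A morphism from the structure module with prescribed values on the members. -/
theorem exists_hom_of_values {W : AlgSt.Cat S} [IsFibGrpd W.p] {Mem : W.obj → Prop} (hMem : FlatSys Mem)
    {D : ModSys Mem} (P : SysMod D) (x : ∀ z, D.N z)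
    (hx : ∀ {z' z : {z // Mem z}} (l : memObj z' ⟶ memObj z), D.rs l (x z) = x z') :
    ∃ σ : OQ (𝒳 := W) ⟶ P.G, ∀ z : {z // Mem z}, (σ.hom.app (memObj z)).app ⊤ (oneSec (memObj z)) = P.ι z (x z) := by
  let σ0 : ∀ z : {z // Mem z}, Γ(P.G.obj.obj (memObj z), ⊤) := fun z => P.ι z (x z)
  let Ψ : Mod.comap (indIncl (memObj (Mem := Mem))) (O W) ⟶ Mod.comap (indIncl (memObj (Mem := Mem))) P.G.obj :=
    ⟨fun y => hs P.G.obj (memObj y) (σ0 y), fun {y' y} φ g hg => by
      subst hg
      obtain ⟨k⟩ := φ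
      have h1 : ∀ G : Mod W, (Mod.comap (indIncl (memObj (Mem := Mem))) G).map
          (indHom (f := memObj) (w' := y') (w := y) k) rfl = G.map k rfl := fun G => by
        rw [Mod.comap_map]; exact castMap_rfl_self _ _
      refine (congrArg (· ≫ _) (h1 (O W))).trans (Eq.trans ?_ (congrArg (hs P.G.obj (memObj y) (σ0 y) ≫ ·) (h1 P.G.obj)).symm)
      refine (eq_pull_iff (O W) P.G.obj isCartesian_O k _ _).1 ?_
      rw [pull_hs]
      exact congrArg (hs P.G.obj (memObj y')) ((P.res y' y k (x y)).trans (congrArg (P.ι y') (hx k))).symm⟩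
  obtain ⟨σ, hσ⟩ := StPushLib.exists_hom hMem.relSys isCartesian_O P.G.property Ψ
  exact ⟨ObjectProperty.homMk σ, fun z => by
    show (σ.app (memObj z)).app ⊤ (oneSec (memObj z)) = _
    rw [hσ z]
    exact hs_one P.G.obj (memObj z) (σ0 z)⟩

theorem oneSec_smul {W : AlgSt.Cat S} (z : W.obj) (a : Γ(sch W z, ⊤)) :
    a • oneSec z = (show Γ((O W).obj z, ⊤) from a) := mul_one a

variable [IsFibGrpd 𝒳.p] {N : Type u} [AddCommGroup N]

/-- An invariant multiple of an element comes from the base. -/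
theorem exists_smul_of_inv (h : StMod.IsCohAffine π) {Mem : 𝒳.obj → Prop} (hMem : FlatSys Mem) (hQ : QcProd M)
    (E : EtOver M) (hE : IsAffine E.obj.left.left) (hU : Function.Bijective (unitSect π (etaOf E)))
    [Module (Base (etaOf E)) N] {w0 r : (fibCat π (etaOf E)).obj} {p q : r ⟶ w0}
    [IsAffine (sch (fibCat π (etaOf E)) w0)] (hW : Chart (fibCat π (etaOf E)) w0 r p q) (m : N)
    (x : Ext N w0) (hx : res N p x = res N q x) (hxm : x ∈ span1 N m w0) :
    ∃ a : Base (etaOf E), x = (1 : Fun w0) ⊗ₜ[Base (etaOf E)] (a • m) := by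
  haveI hB : IsFibGrpd (AlgSt.ofSp M).p := Stk.isFibGrpd_ofPsh _
  let ν : (AlgSt.ofSp M).obj := etaOf E
  haveI : IsFibGrpd (fibCat π ν).p := StPushLib.isFibGrpd_fibCat π ν
  haveI : IsAffine ν.base.left := hE
  have hν : RepWith @Etale (StPushLib.toM ν) := by rw [StPushLib.toM_etaOf]; exact E.property
  let Mem' : (fibCat π ν).obj → Prop := fun z => Mem z.left ∧ Nonempty (z ⟶ w0)
  have hM' : FlatSys Mem' := flatSys_chart (StPushLib.flatSys_fibCat π ν hν hMem) hW
  haveI : ∀ z : {z // Mem' z}, IsAffine (sch (fibCat π ν) (memObj z)) := fun z => hM'.aff _ z.2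
  obtain ⟨P⟩ := exists_sysMod hM' (cycSys_good N m hM')
  let mv : ∀ z, (cycSys N m Mem').N z := fun z => ULift.up ⟨_, Submodule.mem_span_singleton_self _⟩
  let c : ∀ z : {z // Mem' z}, memObj z ⟶ w0 := fun z => z.2.2.some
  let xv : ∀ z, (cycSys N m Mem').N z := fun z => ULift.up ⟨res N (c z) x, res_mem N m (c z) hxm⟩
  obtain ⟨σm, hσm⟩ := exists_hom_of_values hM' P mv fun l => ULift.ext _ _ (Subtype.ext (res_one N l m))
  obtain ⟨σx, hσx⟩ := exists_hom_of_values hM' P xv fun {z' z} l => ULift.ext _ _ (Subtype.ext (by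
    show res N l (res N (c z) x) = res N (c z') x
    rw [← res_comp]
    exact res_eq_of_inv N hW hx _ _))
  have hval : ∀ (z : {z // Mem' z}) (a : Fun (memObj z)),
      (σm.hom.app (memObj z)).app ⊤ (show Γ((O (fibCat π ν)).obj (memObj z), ⊤) from a) = P.ι z (a • mv z) :=
    fun z a => by
    refine (congrArg ((σm.hom.app (memObj z)).app ⊤) (oneSec_smul (memObj z) a).symm).trans ?_
    exact (QCohLib.app_smul (σm.hom.app (memObj z)) ⊤ a _).trans
      ((congrArg (a • ·) (hσm z)).trans (P.smul z a (mv z)).symm)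
  have hsurj : Mod.IsSurj σm.hom := isSurj_of_members σm hM' fun z hz y => by
    obtain ⟨t, rfl⟩ := (P.ι ⟨z, hz⟩).surjective y
    obtain ⟨a, ha⟩ := Submodule.mem_span_singleton.1 t.down.2
    exact ⟨a, (hval ⟨z, hz⟩ a).trans (congrArg (P.ι ⟨z, hz⟩) (ULift.ext _ _ (Subtype.ext ha)))⟩
  let s : ∀ v, Γ(P.G.obj.obj v, ⊤) := fun v => (σx.hom.app v).app ⊤ (oneSec v)
  have hs' : ∀ {v' v} (φ : v' ⟶ v), P.G.obj.mapTop φ (s v) = s v' := fun {v' v} φ =>
    (Mod.mapTop_app σx.hom φ _).trans (congrArg _ (mapTop_oneSec φ))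
  obtain ⟨t, ht, htu⟩ := StPushLib.exists_lift_section h hMem hQ E hE (η := ν) (𝟙 ν) (StPushLib.isFinPres_O _)
    σm hsurj s hs'
  have hto : ∀ {v' v : (fibCat π ν).obj} (φ : v' ⟶ v), (O 𝒳).mapTop φ.left (t v) = t v' := fun {v' v} φ => by
    refine Eq.trans ?_ (ht φ)
    show _ = (O (fibCat π ν)).mapTop φ (t v)
    rw [O_mapTop, O_mapTop]
    rfl
  obtain ⟨a, ha⟩ := hU.2 (ofFamily (π := π) (η := ν) (F := O 𝒳) t fun φ =>
    (mapTop_comapFst (π := π) ν (O 𝒳) φ _).trans (hto φ))
  have hat : ∀ z : {z // Mem' z}, (fibBase (memObj z)).appTop a = t (memObj z) := fun z =>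
    congrArg (fun T : (O 𝒳).RelSect π ν => T.1 (memObj z).left (memObj z).hom) ha
  refine ⟨a, ?_⟩
  obtain ⟨K, y', d, z, e, hz, hd⟩ := hM'.loc w0
  choose J w j I hw hj hcov _hb using fun k => StPushLib.exists_cut (d k)
  refine res_injective_family N (K := Σ k, J k) (fun i => j i.1 i.2 ≫ d i.1) (fun i => ?_) (fun s => ?_) fun i => ?_
  · haveI := hj i.1 i.2
    haveI := hd.flat i.1
    rw [bmap_comp]; infer_instance
  · obtain ⟨k, s', rfl⟩ := hd.surj s
    obtain ⟨l, v, rfl⟩ := hcov k s'
    exact ⟨⟨k, l⟩, v, by rw [bmap_comp]; rfl⟩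
  obtain ⟨k, l⟩ := i
  let zk : {z // Mem' z} := ⟨z k, hz k⟩
  have h1 := htu (memObj zk)
  rw [show s (memObj zk) = P.ι zk (xv zk) from hσx zk, ← hat zk] at h1
  rw [hval zk] at h1
  have h2 : (fibBase (memObj zk)).appTop a • ((1 : Fun (memObj zk)) ⊗ₜ[Base ν] m) = res N (c zk) x :=
    congrArg (fun t : (cycSys N m Mem').N zk => t.down.1) ((P.ι zk).injective h1)
  have h3 : (1 : Fun (memObj zk)) ⊗ₜ[Base ν] (a • m) = res N (c zk) x := by
    rw [TensorProduct.tmul_smul, ← h2, ← algebraMap_smul (Fun (memObj zk)) a]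
    rfl
  haveI := hw k l
  calc res N (j k l ≫ d k) x = res N (j k l ≫ e k) (res N (c zk) x) := by
        exact (res_eq_of_inv N hW hx (j k l ≫ d k) ((j k l ≫ e k) ≫ c zk)).trans
          (res_comp N (j k l ≫ e k) (c zk) x)
    _ = res N (j k l ≫ d k) ((1 : Fun w0) ⊗ₜ[Base ν] (a • m)) := by rw [← h3, res_one, res_one]

end CohAffMorLib.UnitBC
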