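import Groth.Agent.StPushLib.SubSys
import Groth.Agent.StPushLib.Atlas
import Groth.Agent.StPushLib.EtProd
import Groth.Agent.StPushLib.OverSp
import Groth.Agent.GenDescLib.FibMap

/-!
# Affine covers etale over a smooth atlas
-/

set_option autoImplicit false
set_option linter.style.haveILetI false
set_option backward.isDefEq.respectTransparency false
set_option backward.isDefEq.respectTransparency.types false
set_option maxHeartbeats 800000

universe u

open CategoryTheory CategoryTheory.Limits AlgebraicGeometry AlgSp FibCat FibLib Opposite StMod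
open TwDescLib (exists_obj_over IsFppf liftTo liftTo_fac bmap_liftTo)

noncomputable section

open StPushLib

namespace CohAffMorLib.UnitBC

variable {S : Scheme.{u}} {M : AlgSp.Sp S} {𝒳 : AlgSt.Cat S} [IsFibGrpd 𝒳.p] (π : 𝒳 ⥤ᵇ AlgSt.ofSp M)
  (ν : (AlgSt.ofSp M).obj)

theorem loc_atlas {U : Over S} (x : overCat U ⥤ᵇ 𝒳) (hx : AlgSt.RepByAlgSpWith (LocP @Smooth) x)
    (hxs : AlgSt.RepByAlgSpWith IsSurjectiveMor x) (y : 𝒳.obj) :
    ∃ (K : Type u) (y' : K → 𝒳.obj) (c : ∀ k, y' k ⟶ y) (z : K → 𝒳.obj) (_ : ∀ k, y' k ⟶ z k),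
      (∀ k, ∃ b : z k ⟶ x.obj (GenDescLib.topObj U), IsOpenImmersion (bmap 𝒳 b)) ∧
        IsFppf (fun k => bmap 𝒳 (c k)) := by
  haveI := AlgStLib.isFibGrpd_overCat U
  obtain ⟨T', c, fU, k, hc, hs, hk⟩ :=
    QAffCovLib.exists_chart hx hxs (Functor.Fiber.mk (p := 𝒳.p) (a := y) rfl)
  let y0 : 𝒳.obj := x.obj (Over.mk fU)
  let k0 : y0 ⟶ y := k
  haveI hksm : Smooth (bmap 𝒳 k0) := GenDescLib.prop_of_lift (P := @Smooth) c k0 hk hc
  haveI hksu : Surjective (bmap 𝒳 k0) := GenDescLib.prop_of_lift (P := @Surjective) c k0 hk hs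
  obtain ⟨K, w, j, I, ha, hj, hcov, hb⟩ := exists_cut (x.map (GenDescLib.toTop (Over.mk fU : Over U)))
  choose z ι ε hε using fun O : (sch 𝒳 (x.obj (GenDescLib.topObj U))).affineOpens =>
    exists_obj_over (x.obj (GenDescLib.topObj U)) O.1.ι
  choose b hb using hb
  haveI := hj
  let g : ∀ i, w i ⟶ z (I i) := fun i => liftTo (ι (I i)) (j i ≫ x.map (GenDescLib.toTop _)) (b i ≫ (ε (I i)).inv) (by
    rw [← hε, Category.assoc, Iso.inv_hom_id_assoc, hb])
  refine ⟨K, w, fun i => j i ≫ k0, fun i => z (I i), g, fun i => ⟨ι (I i), by rw [← hε]; infer_instance⟩,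
    ⟨fun t => ?_, fun i => ?_, fun i => ?_⟩⟩
  · obtain ⟨s, rfl⟩ := hksu.surj t
    obtain ⟨i, v, rfl⟩ := hcov s
    exact ⟨i, v, by rw [bmap_comp]; rfl⟩
  · rw [bmap_comp]; infer_instance
  · rw [bmap_comp]; infer_instance

theorem exists_etale_cover (hν : RepWith @Etale (toM ν)) {U0 : Over S} (x : overCat U0 ⥤ᵇ 𝒳)
    (hx : AlgSt.RepByAlgSpWith (LocP @Smooth) x) (hxs : AlgSt.RepByAlgSpWith IsSurjectiveMor x)
    (y : (fibCat π ν).obj) :
    ∃ (K : Type u) (y' : K → (fibCat π ν).obj) (c : ∀ k, y' k ⟶ y) (z : K → (fibCat π ν).obj)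
      (_ : ∀ k, y' k ⟶ z k), (∀ k, IsAffine (sch (fibCat π ν) (z k)) ∧ ∃ b : (z k).left ⟶ x.obj (GenDescLib.topObj U0), Etale (bmap 𝒳 b)) ∧ IsFppf (fun k => bmap (fibCat π ν) (c k)) := by
  obtain ⟨K, x', c, z, a, hz, hc⟩ := loc_atlas x hx hxs y.left
  have hex : ∀ k, ∃ (D : EtProd ν (π.obj (z k))) (ρ : π.obj (x' k) ⟶ D.P),
      ρ ≫ D.pr1 = π.map (c k) ≫ y.hom ∧ ρ ≫ D.pr2 = π.map (a k) := fun k => by
    obtain ⟨D⟩ := exists_etProd hν (π.obj (z k))
    obtain ⟨ρ, h1, h2⟩ := D.lift (π.map (c k) ≫ y.hom) (π.map (a k))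
    exact ⟨D, ρ, h1, h2⟩
  choose D ρ h1 h2 using hex
  let J := Σ k, (D k).P.base.left.affineOpens
  let U : ∀ i : J, (D i.1).P.base.left.Opens := fun i => i.2.1
  let γ : ∀ i : J, objLeft (D i.1).P (U i).ι ⟶ (D i.1).P := fun i => objLeftHom _ _
  have hpiece : ∀ i : J, ∃ (z' : 𝒳.obj) (e : z' ⟶ z i.1) (j : π.obj z' ≅ objLeft (D i.1).P (U i).ι),
      π.map e = j.hom ≫ γ i ≫ (D i.1).pr2 := fun i => exists_obj_sp π (z i.1) _
  choose z' e j hj using hpiece
  let V : ∀ i : J, (π.obj (x' i.1)).base.left.Opens := fun i => (ρ i.1).hom.left ⁻¹ᵁ U i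
  have hsrc : ∀ i : J, ∃ (w : 𝒳.obj) (d : w ⟶ x' i.1) (j' : π.obj w ≅ objLeft (π.obj (x' i.1)) (V i).ι),
      π.map d = j'.hom ≫ objLeftHom (π.obj (x' i.1)) (V i).ι := fun i => exists_obj_sp π (x' i.1) _
  choose w d j' hd using hsrc
  have hmor : ∀ i : J, ∃ φ : w i ⟶ z' i, π.map φ ≫ (j i).hom ≫ γ i = π.map (d i) ≫ ρ i.1 := fun i => by
    obtain ⟨σ, hσ, -⟩ := exists_homLeft (γ i) (objLeftHom (π.obj (x' i.1)) (V i).ι ≫ ρ i.1)
      ((ρ i.1).hom.left.resLE (U i) (V i) le_rfl) (Scheme.Hom.resLE_comp_ι _ _)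
    obtain ⟨φ, -, hφ⟩ := exists_fac_sp π (e i) (d i ≫ a i.1) ((j' i).hom ≫ σ ≫ (j i).inv) (by
      rw [hj, Category.assoc, Category.assoc, Iso.inv_hom_id_assoc, reassoc_of% hσ, h2, π.toFunctor.map_comp,
        hd, Category.assoc])
    refine ⟨φ, ?_⟩
    rw [hφ, Category.assoc, Category.assoc, Iso.inv_hom_id_assoc, hσ, hd, Category.assoc]
  choose φ hφ using hmor
  let y' : J → (fibCat π ν).obj := fun i =>
    CostructuredArrow.mk (S := π.toFunctor) (Y := w i) (π.map (d i ≫ c i.1) ≫ y.hom)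
  let zz : J → (fibCat π ν).obj := fun i =>
    CostructuredArrow.mk (S := π.toFunctor) (Y := z' i) ((j i).hom ≫ γ i ≫ (D i.1).pr1)
  refine ⟨J, y', fun i => CostructuredArrow.homMk (d i ≫ c i.1) rfl, zz, fun i => CostructuredArrow.homMk (φ i) ?_,
    fun i => ?_, ?_⟩
  · show π.map (φ i) ≫ (j i).hom ≫ γ i ≫ (D i.1).pr1 = π.map (d i ≫ c i.1) ≫ y.hom
    rw [reassoc_of% (hφ i), h1, π.toFunctor.map_comp, Category.assoc]
  · haveI : IsAffine (U i).toScheme := i.2.2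
    haveI : IsAffine (objLeft (D i.1).P (U i).ι).base.left := inferInstanceAs (IsAffine (U i).toScheme)
    obtain ⟨bz, hbz⟩ := hz i.1
    have he : Etale (bmap 𝒳 (e i)) := (prop_hom_left (P := @Etale) π (e i)).1 (by
      rw [hj]
      haveI : IsIso (j i).hom.hom.left := isIso_bmap (W := AlgSt.ofSp M) (j i).hom
      haveI := (D i.1).etale
      show Etale ((j i).hom.hom.left ≫ (U i).ι ≫ (D i.1).pr2.hom.left)
      infer_instance)
    refine ⟨isAffine_of_iso π (j i), e i ≫ bz, ?_⟩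
    haveI := he; haveI := hbz
    rw [bmap_comp]
    show Etale (bmap 𝒳 (e i) ≫ bmap 𝒳 bz)
    infer_instance
  · have hop : ∀ i : J, IsOpenImmersion (bmap 𝒳 (d i)) := fun i => (prop_hom_left (P := @IsOpenImmersion) π (d i)).1 (by
      rw [hd]
      haveI : IsIso (j' i).hom.hom.left := isIso_bmap (W := AlgSt.ofSp M) (j' i).hom
      show IsOpenImmersion ((j' i).hom.hom.left ≫ (V i).ι)
      infer_instance)
    refine ⟨fun t => ?_, fun i => ?_, fun i => ?_⟩
    · obtain ⟨k, s, hs⟩ := hc.surj t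
      let s' : (π.obj (x' k)).base.left := eqToHom (sch_obj_eq π (x' k)).symm s
      obtain ⟨W0, hW0, hsW, -⟩ := exists_isAffineOpen_mem_and_subset (x := (ρ k).hom.left s') (U := ⊤) trivial
      let i : J := ⟨k, W0, hW0⟩
      let v := ((j' i).inv.hom.left) ⟨s', hsW⟩
      refine ⟨i, eqToHom (sch_obj_eq π (w i)) v, ?_⟩
      show bmap 𝒳 (d i ≫ c k) _ = t
      rw [bmap_comp, Scheme.Hom.comp_apply]
      refine Eq.trans ?_ hs
      congr 1
      have h3 : (π.map (d i)).hom.left v = s' := by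
        rw [hd]
        show (V i).ι ((j' i).hom.hom.left v) = s'
        rw [show (j' i).hom.hom.left v = (⟨s', hsW⟩ : (V i).toScheme) from by
          show ((j' i).inv ≫ (j' i).hom).hom.left ⟨s', hsW⟩ = _
          rw [Iso.inv_hom_id]; rfl]
        rfl
      have h4 := bmap_map_eq π (d i)
      have h5 : eqToHom (sch_obj_eq π (x' k)) ((π.map (d i)).hom.left v) = bmap 𝒳 (d i) (eqToHom (sch_obj_eq π (w i)) v) := by
        rw [show (π.map (d i)).hom.left = _ from h4]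
        show (((eqToHom (sch_obj_eq π (w i)) ≫ bmap 𝒳 (d i) ≫ eqToHom (sch_obj_eq π (x' k)).symm) ≫
          eqToHom (sch_obj_eq π (x' k))) v) = _
        simp only [Category.assoc, eqToHom_trans, eqToHom_refl, Category.comp_id]
        rfl
      rw [← h5, h3]
      show ((eqToHom (sch_obj_eq π (x' k)).symm) ≫ eqToHom (sch_obj_eq π (x' k))) s = s
      rw [eqToHom_trans, eqToHom_refl]
      rfl
    · show Flat (bmap 𝒳 (d i ≫ c i.1))
      haveI := hop i
      haveI := hc.flat i.1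
      rw [bmap_comp]; infer_instance
    · show LocallyOfFinitePresentation (bmap 𝒳 (d i ≫ c i.1))
      haveI := hop i
      haveI := hc.lfp i.1
      rw [bmap_comp]; infer_instance

end CohAffMorLib.UnitBC
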