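import Groth.Agent.CohAffMorLib.UnitBC.Main
import Groth.Agent.CohAffMorLib.UnitBC.EtCover

/-!
# Finitely many test objects etale over an atlas
-/

set_option autoImplicit false
set_option linter.style.haveILetI false
set_option backward.isDefEq.respectTransparency false
set_option backward.isDefEq.respectTransparency.types false
set_option maxHeartbeats 1600000

universe u

open CategoryTheory CategoryTheory.Limits AlgebraicGeometry AlgSp AlgSpLib FibCat FibLib Opposite StMod GenDescLib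
open StPushLib (FlatSys QcProd)
open scoped TensorProduct

noncomputable section

namespace CohAffMorLib.UnitBC

variable {S : Scheme.{u}} {𝒳 : AlgSt.Cat S} [IsFibGrpd 𝒳.p] {M : AlgSp.Sp S} {π : 𝒳 ⥤ᵇ AlgSt.ofSp M}

/-- Modules over an affine etale object inject into their extensions to the object of a chart. -/
theorem exists_chart_injective (h𝒳 : AlgSt.IsAlgStack Scheme.fppfPrecoverage 𝒳) (hQ : QcProd M)
    (hqc : AlgSt.IsQuasiCompactMor Scheme.fppfPrecoverage π) (hqs : AlgSt.IsQuasiSeparatedMor π)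
    (h : StMod.IsGoodModuli π) (E : EtOver M) (hE : IsAffine E.obj.left.left) :
    ∃ (w0 r : (fibCat π (etaOf E)).obj) (p q : r ⟶ w0) (_ : IsAffine (sch (fibCat π (etaOf E)) w0))
      (_ : IsAffine (sch (fibCat π (etaOf E)) r)),
      Chart (fibCat π (etaOf E)) w0 r p q ∧ CycInv p q ∧
        ∀ (N : Type u) [AddCommGroup N] [Module (Base (etaOf E)) N],
          Function.Injective fun n : N => (1 : Fun w0) ⊗ₜ[Base (etaOf E)] n := by
  haveI hB : IsFibGrpd (AlgSt.ofSp M).p := Stk.isFibGrpd_ofPsh _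
  haveI : IsAffine (sch (AlgSt.ofSp M) (etaOf E)) := hE
  obtain ⟨U0, x, hx, hxs⟩ := h𝒳.atlas
  have hMem := StPushLib.flatSys_atlas x hx hxs
  obtain ⟨w0, r, pc, qc, hw0, hr, hW⟩ := exists_chartData hqc hqs (etaOf E)
  haveI := hw0; haveI := hr
  have hU := h.2 E
  have hK : CycInv pc qc := fun T _ _ n x hx hxm => exists_smul_of_inv h.1 hMem hQ E hE hU hW n x hx hxm
  exact ⟨w0, r, pc, qc, hw0, hr, hW, hK, fun N _ _ => injective_one_tmul N hK
    fun a a' e => hU.1 (TameStLib.relSect_ext_chart hW (OQ (𝒳 := 𝒳)) _ _ e)⟩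

/-- Modules over an affine etale object are tested on finitely many objects etale over the atlas. -/
theorem exists_test (h𝒳 : AlgSt.IsAlgStack Scheme.fppfPrecoverage 𝒳) (hQ : QcProd M)
    (hqc : AlgSt.IsQuasiCompactMor Scheme.fppfPrecoverage π) (hqs : AlgSt.IsQuasiSeparatedMor π)
    (h : StMod.IsGoodModuli π) (E : EtOver M) (hE : IsAffine E.obj.left.left) {U0 : Over S} (x : overCat U0 ⥤ᵇ 𝒳)
    (hx : AlgSt.RepByAlgSpWith (LocP @Smooth) x) (hxs : AlgSt.RepByAlgSpWith IsSurjectiveMor x) :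
    ∃ (K : Type u) (_ : Finite K) (z : K → (fibCat π (etaOf E)).obj),
      (∀ k, IsAffine (sch (fibCat π (etaOf E)) (z k)) ∧ ∃ b : (z k).left ⟶ x.obj (GenDescLib.topObj U0), Etale (bmap 𝒳 b)) ∧
        ∀ (N : Type u) [AddCommGroup N] [Module (Base (etaOf E)) N] (n : N),
          (∀ k, (1 : Fun (z k)) ⊗ₜ[Base (etaOf E)] n = 0) → n = 0 := by
  haveI hB : IsFibGrpd (AlgSt.ofSp M).p := Stk.isFibGrpd_ofPsh _
  let ν : (AlgSt.ofSp M).obj := etaOf E
  haveI : IsFibGrpd (fibCat π ν).p := StPushLib.isFibGrpd_fibCat π ν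
  haveI : IsAffine ν.base.left := hE
  have hν : RepWith @Etale (StPushLib.toM ν) := by rw [StPushLib.toM_etaOf]; exact E.property
  obtain ⟨w0, r, p, q, hw0, hr, hW, hK, hinj⟩ := exists_chart_injective h𝒳 hQ hqc hqs h E hE
  haveI := hw0
  obtain ⟨K, y', c, z, a, hz, hc⟩ := exists_etale_cover π ν hν x hx hxs w0
  have hop : ∀ k, IsOpen (Set.range (bmap (fibCat π ν) (c k))) := fun k => by
    haveI := hc.flat k
    haveI := hc.lfp k
    exact (bmap (fibCat π ν) (c k)).isOpenMap.isOpen_range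
  obtain ⟨t, ht⟩ := isCompact_univ.elim_finite_subcover _ hop fun s _ => Set.mem_iUnion.2 (hc.surj s)
  refine ⟨ULift.{u} {k // k ∈ t}, inferInstance, fun k => z k.down.1, fun k => hz k.down.1, fun N _ _ n hn => ?_⟩
  refine hinj N ?_
  show (1 : Fun w0) ⊗ₜ[Base (etaOf E)] n = (1 : Fun w0) ⊗ₜ[Base (etaOf E)] (0 : N)
  rw [TensorProduct.tmul_zero]
  refine res_injective_family N (K := ULift.{u} {k // k ∈ t}) (fun k => c k.down.1) (fun k => hc.flat k.down.1)
    (fun s => ?_) fun k => ?_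
  · obtain ⟨k, hk, hs⟩ := Set.mem_iUnion₂.1 (ht (Set.mem_univ s))
    exact ⟨⟨⟨k, hk⟩⟩, hs⟩
  · rw [map_zero, res_one, ← res_one N (a k.down.1), hn k, map_zero]

end CohAffMorLib.UnitBC
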