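import Groth.Agent.CohAffMorLib.UnitBC.SpanSys
import Groth.Agent.CohAffMorLib.UnitBC.Test
import Groth.Agent.CohAffMorLib.UnitBC.Key
import Groth.Agent.QCohLib.AffineFinite

/-!
# Sections of coherent modules over good moduli spaces are finitely generated
-/

set_option autoImplicit false
set_option linter.style.haveILetI false
set_option backward.isDefEq.respectTransparency false
set_option backward.isDefEq.respectTransparency.types false
set_option maxHeartbeats 1600000

universe u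

open CategoryTheory CategoryTheory.Limits AlgebraicGeometry AlgSp AlgSpLib FibCat FibLib Opposite StMod GenDescLib
open StPushLib (ModSys SysMod FlatSys memObj exists_sysMod isSurj_of_members QcProd)
open CohAffLib (hs hs_one oneSec mapTop_oneSec mapTop_comapFst ofFamily)
open TwDescLib (IsFppf)
open scoped TensorProduct

noncomputable section

namespace CohAffMorLib.UnitBC

variable {S : Scheme.{u}} {𝒳 : AlgSt.Cat S} {M : AlgSp.Sp S} {π : 𝒳 ⥤ᵇ AlgSt.ofSp M} {ν : (AlgSt.ofSp M).obj}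
  [IsFibGrpd 𝒳.p] (F : Mod 𝒳)

/-- A family of sections of the pushforward at an object of the fibre. -/
def secVal (s : Mod.RelSect π F ν) (z : (fibCat π ν).obj) : Γ((Mod.comap (fibFst π ν) F).obj z, ⊤) :=
  s.1 z.left z.hom

theorem mapTop_secVal (s : Mod.RelSect π F ν) {z' z : (fibCat π ν).obj} (φ : z' ⟶ z) :
    (Mod.comap (fibFst π ν) F).mapTop φ (secVal F s z) = secVal F s z' :=
  (mapTop_comapFst (π := π) ν F φ _).trans
    ((s.2 φ.left z.hom).trans (congrArg (s.1 z'.left) (CostructuredArrow.w φ)))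

theorem secVal_sum_smul {n : ℕ} (a : Fin n → Base ν) (s : Fin n → Mod.RelSect π F ν) (z : (fibCat π ν).obj) :
    secVal F (∑ i, a i • s i) z = ∑ i, (fibBase z).appTop (a i) • secVal F (s i) z := by
  let e : Mod.RelSect π F ν →+ Γ((Mod.comap (fibFst π ν) F).obj z, ⊤) :=
    AddMonoidHom.mk' (fun t => secVal F t z) fun _ _ => rfl
  show e (∑ i, a i • s i) = _
  rw [map_sum]
  rfl

/-- Families agreeing on the members are equal. -/
theorem eq_of_secVal {Mem : (fibCat π ν).obj → Prop} [IsFibGrpd (fibCat π ν).p] (hMem : FlatSys Mem)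
    (hF : StMod.isQCoh 𝒳 F) {s t : Mod.RelSect π F ν} (h : ∀ z, Mem z → secVal F s z = secVal F t z) : s = t := by
  let G : QCoh (fibCat π ν) := (comapQ (fibFst π ν)).obj ⟨F, hF⟩
  refine Mod.RelSect.ext _ _ _ fun ξ α => ?_
  let y : (fibCat π ν).obj := CostructuredArrow.mk (S := π.toFunctor) (Y := ξ) α
  show secVal F s y = secVal F t y
  obtain ⟨K, y', c, z, e, hz, hc⟩ := hMem.loc y
  have key : hs G.obj y (secVal F s y) = hs G.obj y (secVal F t y) := by
    refine eq_of_pull isCartesian_O c (fun k => hc.flat k) hc.surj G.property.1 fun k => ?_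
    show pull (O (fibCat π ν)) G.obj isCartesian_O (c k) _ = pull (O (fibCat π ν)) G.obj isCartesian_O (c k) _
    rw [CohAffLib.pull_hs, CohAffLib.pull_hs]
    refine congrArg (hs G.obj (y' k)) ?_
    refine (mapTop_secVal F s (c k)).trans (Eq.trans ?_ (mapTop_secVal F t (c k)).symm)
    rw [← mapTop_secVal F s (e k), ← mapTop_secVal F t (e k), h _ (hz k)]
  have h2 := congrArg (fun f => Scheme.Modules.Hom.app f ⊤ (oneSec y)) key
  exact (hs_one G.obj y (secVal F s y)).symm.trans (h2.trans (hs_one G.obj y (secVal F t y)))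

variable {F}

/-- Finitely many families whose values span those of all families on the members generate. -/
theorem span_top_of_values (h : StMod.IsCohAffine π) {Mem : 𝒳.obj → Prop} (hMem : FlatSys Mem) (hQ : QcProd M)
    (E : EtOver M) (hE : IsAffine E.obj.left.left) (hU : Function.Bijective (unitSect π (etaOf E)))
    {Mem' : (fibCat π (etaOf E)).obj → Prop} (hM' : FlatSys Mem') (hF : StMod.isQCoh 𝒳 F) {n : ℕ}
    (s : Fin n → Mod.RelSect π F (etaOf E))
    (hs : ∀ t z, Mem' z → secVal F t z ∈ spanV (Mod.comap (fibFst π (etaOf E)) F) (fun i => secVal F (s i)) z) :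
    Submodule.span (Base (etaOf E)) (Set.range s) = ⊤ := by
  haveI hB : IsFibGrpd (AlgSt.ofSp M).p := Stk.isFibGrpd_ofPsh _
  let ν : (AlgSt.ofSp M).obj := etaOf E
  let W := fibCat π ν
  haveI : IsFibGrpd W.p := StPushLib.isFibGrpd_fibCat π ν
  haveI : IsAffine ν.base.left := hE
  let G : QCoh W := (comapQ (fibFst π ν)).obj ⟨F, hF⟩
  let v : Fin n → ∀ z, Γ(G.obj.obj z, ⊤) := fun i => secVal F (s i)
  have hv : ∀ (i : Fin n) {z' z : W.obj} (l : z' ⟶ z), G.obj.mapTop l (v i z) = v i z' :=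
    fun i {z' z} l => mapTop_secVal F (s i) l
  haveI : ∀ z : {z // Mem' z}, IsAffine (sch W (memObj z)) := fun z => hM'.aff _ z.2
  obtain ⟨P⟩ := exists_sysMod hM' (spanSys_good Mem' G.obj v hv G.property.1 G.property.2 hM')
  obtain ⟨Q⟩ := exists_sysMod hM' (freeSys_good Mem' n)
  let comb : ∀ z, (freeSys Mem' n).N z →+ (spanSys Mem' G.obj v hv).N z := fun z => AddMonoidHom.mk'
    (fun f => ULift.up ⟨∑ i, f.down i • v i (memObj z),
      Submodule.sum_mem _ fun i _ => Submodule.smul_mem _ _ (Submodule.subset_span ⟨i, rfl⟩)⟩)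
    fun f g => ULift.ext _ _ (Subtype.ext (by
      show ∑ i, (f.down i + g.down i) • v i (memObj z) = (∑ i, f.down i • _) + ∑ i, g.down i • _
      rw [← Finset.sum_add_distrib]
      exact Finset.sum_congr rfl fun i _ => add_smul _ _ _))
  obtain ⟨w, hw⟩ := Q.exists_map hM' P comb
    (fun z a f => ULift.ext _ _ (Subtype.ext (by
      show ∑ i, (a * f.down i) • v i (memObj z) = a • ∑ i, f.down i • v i (memObj z)
      rw [Finset.smul_sum]
      exact Finset.sum_congr rfl fun i _ => mul_smul _ _ _)))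
    (fun {z' z} l f => ULift.ext _ _ (Subtype.ext (by
      let r : Γ(G.obj.obj (memObj z), ⊤) →+ Γ(G.obj.obj (memObj z'), ⊤) :=
        AddMonoidHom.mk' (G.obj.mapTop l) (G.obj.mapTop_add l)
      show r (∑ i, f.down i • v i (memObj z)) = ∑ i, (bmap W l).appTop (f.down i) • v i (memObj z')
      rw [map_sum]
      exact Finset.sum_congr rfl fun i _ => (G.obj.mapTop_smul l _ _).trans (congrArg _ (hv i l)))))
  have hsurj : Mod.IsSurj w.hom := isSurj_of_members w hM' fun z hz y => by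
    obtain ⟨t, rfl⟩ := (P.ι ⟨z, hz⟩).surjective y
    obtain ⟨a, ha⟩ := (Submodule.mem_span_range_iff_exists_fun _).1 t.down.2
    exact ⟨Q.ι ⟨z, hz⟩ (ULift.up a), (hw ⟨z, hz⟩ _).trans (congrArg (P.ι ⟨z, hz⟩) (ULift.ext _ _ (Subtype.ext ha)))⟩
  have hpr : ∀ i : Fin n, ∃ p : Q.G ⟶ OQ (𝒳 := W), ∀ (z : {z // Mem' z}) (f : (freeSys Mem' n).N z),
      (p.hom.app (memObj z)).app ⊤ (Q.ι z f) = f.down i := fun i => by
    obtain ⟨p, hp⟩ := Q.exists_map hM' (strMod Mem') (fun z => AddMonoidHom.mk' (fun f => ULift.up (f.down i))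
      fun _ _ => rfl) (fun _ _ _ => rfl) (fun _ _ => rfl)
    exact ⟨p, hp⟩
  choose p hp using hpr
  refine eq_top_iff.2 fun t _ => ?_
  obtain ⟨σ, hσ⟩ := exists_hom_of_values hM' P (fun z => ULift.up ⟨secVal F t (memObj z), hs t _ z.2⟩)
    fun {z' z} l => ULift.ext _ _ (Subtype.ext (mapTop_secVal F t l))
  let σv : ∀ y, Γ(P.G.obj.obj y, ⊤) := fun y => (σ.hom.app y).app ⊤ (oneSec y)
  have hs' : ∀ {y' y} (φ : y' ⟶ y), P.G.obj.mapTop φ (σv y) = σv y' := fun {y' y} φ =>
    (Mod.mapTop_app σ.hom φ _).trans (congrArg _ (mapTop_oneSec φ))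
  obtain ⟨τ, hτ, hτw⟩ := StPushLib.exists_lift_section h hMem hQ E hE (η := ν) (𝟙 ν) (StPushLib.isFinPres_O _)
    w hsurj σv hs'
  let c : Fin n → ∀ y, Γ((O W).obj y, ⊤) := fun i y => ((p i).hom.app y).app ⊤ (τ y)
  have hc : ∀ i {y' y : W.obj} (φ : y' ⟶ y), (O 𝒳).mapTop φ.left (c i y) = c i y' := fun i {y' y} φ => by
    refine Eq.trans ?_ ((Mod.mapTop_app (p i).hom φ (τ y)).trans (congrArg _ (hτ φ)))
    show _ = (O W).mapTop φ (c i y)
    rw [O_mapTop, O_mapTop]
    rfl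
  choose a ha using fun i => hU.2 (ofFamily (π := π) (η := ν) (F := O 𝒳) (c i) fun φ =>
    (mapTop_comapFst (π := π) ν (O 𝒳) φ _).trans (hc i φ))
  have hat : ∀ i (z : W.obj), (fibBase z).appTop (a i) = c i z := fun i z =>
    congrArg (fun T : (O 𝒳).RelSect π ν => T.1 z.left z.hom) (ha i)
  have key : t = ∑ i, a i • s i := eq_of_secVal F hM' hF fun z hz => by
    rw [secVal_sum_smul]
    obtain ⟨f, hf⟩ := (Q.ι ⟨z, hz⟩).surjective (τ z)
    have h1 := hτw z
    rw [← hf] at h1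
    have h2 : (⟨∑ i, f.down i • v i z, _⟩ : spanV G.obj v z) = ⟨secVal F t z, hs t z hz⟩ :=
      congrArg ULift.down ((P.ι ⟨z, hz⟩).injective ((hw ⟨z, hz⟩ f).symm.trans (h1.trans (hσ ⟨z, hz⟩))))
    refine (congrArg Subtype.val h2).symm.trans ?_
    show ∑ i, f.down i • v i z = _
    refine Finset.sum_congr rfl fun i _ => ?_
    refine congrArg (fun b => b • v i z) ?_
    rw [hat]
    show f.down i = ((p i).hom.app z).app ⊤ (τ z)
    rw [← hf]
    exact (hp i ⟨z, hz⟩ f).symm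
  rw [key]
  exact Submodule.sum_mem _ fun i _ => Submodule.smul_mem _ _ (Submodule.subset_span ⟨i, rfl⟩)

/-- Every object is locally mapped to finitely many affine objects etale over an atlas. -/
theorem exists_test_cover (hqc : AlgSt.IsQuasiCompactMor Scheme.fppfPrecoverage π)
    (hqs : AlgSt.IsQuasiSeparatedMor π) (E : EtOver M) (hE : IsAffine E.obj.left.left) {U0 : Over S}
    (x : overCat U0 ⥤ᵇ 𝒳) (hx : AlgSt.RepByAlgSpWith (LocP @Smooth) x)
    (hxs : AlgSt.RepByAlgSpWith IsSurjectiveMor x) :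
    ∃ (K : Type u) (_ : Finite K) (z : K → (fibCat π (etaOf E)).obj),
      (∀ k, IsAffine (sch (fibCat π (etaOf E)) (z k)) ∧ ∃ b : (z k).left ⟶ x.obj (GenDescLib.topObj U0), Etale (bmap 𝒳 b)) ∧
        ∀ y : (fibCat π (etaOf E)).obj, ∃ (L : Type u) (y' : L → (fibCat π (etaOf E)).obj) (d : ∀ l, y' l ⟶ y),
          IsFppf (fun l => bmap (fibCat π (etaOf E)) (d l)) ∧ ∀ l, ∃ k, Nonempty (y' l ⟶ z k) := by
  haveI hB : IsFibGrpd (AlgSt.ofSp M).p := Stk.isFibGrpd_ofPsh _
  let ν : (AlgSt.ofSp M).obj := etaOf E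
  haveI : IsFibGrpd (fibCat π ν).p := StPushLib.isFibGrpd_fibCat π ν
  haveI : IsAffine ν.base.left := hE
  haveI : IsAffine (sch (AlgSt.ofSp M) ν) := hE
  have hν : RepWith @Etale (StPushLib.toM ν) := by rw [StPushLib.toM_etaOf]; exact E.property
  obtain ⟨w0, r, p, q, hw0, -, hW⟩ := exists_chartData hqc hqs ν
  haveI := hw0
  obtain ⟨K, y', c, z, a, hz, hc⟩ := exists_etale_cover π ν hν x hx hxs w0
  have hop : ∀ k, IsOpen (Set.range (bmap (fibCat π ν) (c k))) := fun k => by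
    haveI := hc.flat k
    haveI := hc.lfp k
    exact (bmap (fibCat π ν) (c k)).isOpenMap.isOpen_range
  obtain ⟨t, ht⟩ := isCompact_univ.elim_finite_subcover _ hop fun s _ => Set.mem_iUnion.2 (hc.surj s)
  refine ⟨ULift.{u} {k // k ∈ t}, inferInstance, fun k => z k.down.1, fun k => hz k.down.1, fun y => ?_⟩
  obtain ⟨x', d, b, hfl, hsur, hlfp⟩ := hW.cov y
  have hc' : IsFppf (fun k : ULift.{u} {k // k ∈ t} => bmap (fibCat π ν) (c k.down.1)) :=
    ⟨fun s => by
      obtain ⟨k, hk, hs⟩ := Set.mem_iUnion₂.1 (ht (Set.mem_univ s))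
      exact ⟨⟨⟨k, hk⟩⟩, hs⟩, fun k => hc.flat _, fun k => hc.lfp _⟩
  obtain ⟨y2, c2, e2, hc2, -⟩ := StPushLib.exists_pullCover b (fun k : ULift.{u} {k // k ∈ t} => c k.down.1) hc'
  refine ⟨_, y2, fun l => c2 l ≫ d, ⟨fun s => ?_, fun l => ?_, fun l => ?_⟩, fun l => ⟨l, ⟨e2 l ≫ a l.down.1⟩⟩⟩
  · obtain ⟨s', rfl⟩ := hsur.surj s
    obtain ⟨l, v, rfl⟩ := hc2.surj s'
    exact ⟨l, v, by rw [bmap_comp]; rfl⟩
  · haveI := hc2.flat l; haveI := hfl
    rw [bmap_comp]; infer_instance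
  · haveI := hc2.lfp l; haveI := hlfp
    rw [bmap_comp]; infer_instance

/-- A finite family of elements suffices for finitely many spans in Noetherian modules. -/
theorem exists_family_span {K : Type u} [Finite K] {R : K → Type u} [∀ k, CommRing (R k)] {N : K → Type u}
    [∀ k, AddCommGroup (N k)] [∀ k, Module (R k) (N k)] [∀ k, IsNoetherian (R k) (N k)] {ι : Type*}
    (f : ∀ k, ι → N k) :
    ∃ (n : ℕ) (s : Fin n → ι), ∀ k i, f k i ∈ Submodule.span (R k) (Set.range fun j => f k (s j)) := by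
  classical
  have hk : ∀ k, ∃ T : Finset ι, ∀ i, f k i ∈ Submodule.span (R k) (f k '' (T : Set ι)) := fun k => by
    obtain ⟨U, hU, hs⟩ := (Submodule.fg_span_iff_fg_span_finset_subset _).1
      (IsNoetherian.noetherian (Submodule.span (R k) (Set.range (f k))))
    rw [← Set.image_univ] at hU
    obtain ⟨T, -, hT⟩ := Finset.subset_set_image_iff.1 hU
    refine ⟨T, fun i => ?_⟩
    have h1 : f k i ∈ Submodule.span (R k) (Set.range (f k)) := Submodule.subset_span ⟨i, rfl⟩
    rw [hs, ← hT, Finset.coe_image] at h1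
    exact h1
  choose T hT using hk
  haveI : Fintype K := Fintype.ofFinite K
  let U := Finset.univ.biUnion T
  refine ⟨U.card, fun j => (U.equivFin.symm j).1, fun k i => Submodule.span_mono ?_ (hT k i)⟩
  rintro _ ⟨i', hi', rfl⟩
  exact ⟨U.equivFin ⟨i', Finset.mem_biUnion.2 ⟨k, Finset.mem_univ k, hi'⟩⟩,
    congrArg (fun x => f k x.1) (U.equivFin.symm_apply_apply _)⟩

omit [IsFibGrpd 𝒳.p] in
/-- Pushforwards of coherent modules along good moduli spaces of locally Noetherian stacks are coherent. -/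
theorem finite_relSect (h𝒳 : AlgSt.IsAlgStack Scheme.fppfPrecoverage 𝒳) (hQ : QcProd M)
    (hqc : AlgSt.IsQuasiCompactMor Scheme.fppfPrecoverage π) (hqs : AlgSt.IsQuasiSeparatedMor π)
    (h : StMod.IsGoodModuli π) (hN : AlgSt.SmoothLocally (fun T => IsLocallyNoetherian T) 𝒳)
    (G : QCoh 𝒳) (hF : G.obj.IsFinType) (E : EtOver M) (hE : IsAffine E.obj.left.left) :
    Module.Finite (Base (etaOf E)) (Mod.RelSect π G.obj (etaOf E)) := by
  haveI := AlgStLib.isFibGrpd_of_isAlgStack h𝒳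
  haveI hB : IsFibGrpd (AlgSt.ofSp M).p := Stk.isFibGrpd_ofPsh _
  let ν : (AlgSt.ofSp M).obj := etaOf E
  let W := fibCat π ν
  haveI : IsFibGrpd W.p := StPushLib.isFibGrpd_fibCat π ν
  haveI : IsAffine ν.base.left := hE
  have hν : RepWith @Etale (StPushLib.toM ν) := by rw [StPushLib.toM_etaOf]; exact E.property
  obtain ⟨U0, x, hx, hxs⟩ := h𝒳.atlas
  have hMem := StPushLib.flatSys_atlas x hx hxs
  obtain ⟨K, hK, z, hz, hcov⟩ := exists_test_cover hqc hqs E hE x hx hxs
  haveI : IsLocallyNoetherian U0.left := hN U0 x hx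
  haveI : IsLocallyNoetherian (sch 𝒳 (x.obj (GenDescLib.topObj U0))) := by
    show IsLocallyNoetherian (𝒳.p.obj (x.obj (GenDescLib.topObj U0))).left
    rw [x.w_obj]
    exact ‹IsLocallyNoetherian U0.left›
  let G' := (comapQ (fibFst π ν)).obj G
  haveI : ∀ k, IsNoetherian (Fun (z k)) Γ(G'.obj.obj (z k), ⊤) := fun k => by
    obtain ⟨hza, b, hb⟩ := hz k
    haveI : IsAffine (sch W (z k)) := hza
    haveI := hb
    haveI : IsLocallyNoetherian (sch W (z k)) := LocallyOfFiniteType.isLocallyNoetherian (bmap 𝒳 b)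
    haveI : IsNoetherianRing (Fun (z k)) := IsLocallyNoetherian.component_noetherian ⟨⊤, isAffineOpen_top _⟩
    haveI : Coh.IsQCoh (G'.obj.obj (z k)) := G'.property.2 _
    haveI : Coh.IsQCoh (G.obj.obj (z k).left) := G.property.2 _
    haveI : IsAffine (sch 𝒳 (z k).left) := hza
    haveI : Module.Finite (Fun (z k)) Γ(G'.obj.obj (z k), ⊤) :=
      QCohLib.finite_of_isFT (hF (z k).left) (isAffineOpen_top _)
    exact isNoetherian_of_isNoetherianRing_of_finite _ _
  obtain ⟨n, s, hs⟩ := exists_family_span (R := fun k => Fun (z k)) (N := fun k => Γ(G'.obj.obj (z k), ⊤))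
    fun k (t : Mod.RelSect π G.obj ν) => secVal G.obj t (z k)
  refine ⟨Submodule.fg_def.2 ⟨Set.range s, Set.finite_range _, ?_⟩⟩
  let P : W.obj → Prop := fun y => ∃ k, Nonempty (y ⟶ z k)
  have hM' :=
    flatSys_of_cov (StPushLib.flatSys_fibCat π ν hν hMem) P (fun {y y'} φ ⟨k, ⟨ψ⟩⟩ => ⟨k, ⟨φ ≫ ψ⟩⟩)
      fun y _ => hcov y
  refine span_top_of_values h.1 hMem hQ E hE (h.2 E) hM' G.property s fun t y hy => ?_
  obtain ⟨k, ⟨φ⟩⟩ := hy.2
  rw [← mapTop_secVal G.obj t φ]
  exact mapTop_mem_spanV G'.obj (fun i => secVal G.obj (s i)) (fun i {_ _} l => mapTop_secVal G.obj (s i) l) φ (hs k t)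

end CohAffMorLib.UnitBC
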