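import Groth.Agent.CohAffMorLib.UnitBC.UnivClosed

/-!
# Disjoint closed sets have disjoint images
-/

set_option autoImplicit false
set_option linter.style.haveILetI false
set_option backward.isDefEq.respectTransparency false
set_option backward.isDefEq.respectTransparency.types false
set_option maxHeartbeats 1600000

universe u

open CategoryTheory CategoryTheory.Limits AlgebraicGeometry AlgSp AlgSpLib FibCat FibLib Opposite StMod GenDescLib
open CategoryTheory.Functor (Fiber IsPreFibered)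
open TopologicalSpace (Closeds)
open StPushLib (QcProd FlatSys memObj)
open AlgStLib (isAlgStack_fp' isAlgStack_ofSp isAlgStack_ofSch)

noncomputable section

namespace CohAffMorLib.UnitBC

variable {S : Scheme.{u}} {𝒳 : AlgSt.Cat S} [IsFibGrpd 𝒳.p]

/-- Disjoint natural closed subsets have disjoint images. -/
theorem ne_of_disjoint_natClosed {V : Over S} [IsAffine V.left] {π : 𝒳 ⥤ᵇ AlgSt.ofSch V}
    [IsFibGrpd (AlgSt.ofSch V).p] (h : StMod.IsCohAffine π) (hUnit : StMod.UnitIsIso π)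
    {U : Over S} (hUa : IsAffine U.left) {x : overCat U ⥤ᵇ 𝒳}
    (hx : AlgSt.RepByAlgSpWith (LocP @Smooth) x) (hxs : AlgSt.RepByAlgSpWith IsSurjectiveMor x)
    {C D : ∀ o : 𝒳.obj, Closeds (sch 𝒳 o)} (hC : NatClosed C) (hD : NatClosed D)
    (hCD : ∀ o (s : sch 𝒳 o), s ∈ C o → s ∉ D o)
    {o : 𝒳.obj} {s : sch 𝒳 o} (hs : s ∈ C o) {o' : 𝒳.obj} {s' : sch 𝒳 o'} (hs' : s' ∈ D o') :
    (baseMap π o).left s ≠ (baseMap π o').left s' := by
  intro e
  haveI hxt : IsAffine (sch 𝒳 (x.obj (topObj U))) := by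
    show IsAffine (𝒳.p.obj (x.obj (topObj U))).left
    rw [x.w_obj]
    exact hUa
  have hM' := flatSys_memV (π := π) hx hxs
  haveI : IsAffine (etaOf (selfEt V)).base.left := ‹IsAffine V.left›
  have h1 : (1 : Base (etaOf (selfEt V))) ∈ ((vanSys (π := π) hx C hC).sup (vanSys (π := π) hx D hD)).base :=
    IdealSys.mem_base.2 fun z => by
      rw [map_one, ← Ideal.eq_top_iff_one]
      by_contra hne
      obtain ⟨m, hm, hle⟩ := Ideal.exists_le_maximal _ hne
      haveI : IsAffine (sch 𝒳 z.1.left) := z.2.1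
      let q : sch 𝒳 z.1.left := (isAffineOpen_top (sch 𝒳 z.1.left)).fromSpec ⟨m, hm.isPrime⟩
      have hmem : ∀ (F : ∀ o : 𝒳.obj, Closeds (sch 𝒳 o)) (hF : NatClosed F),
          (vanSys (π := π) hx F hF).I z ≤ m → q ∈ F z.1.left := fun F hF hFm => by
        have hsupp : q ∈ ((Scheme.IdealSheafData.vanishingIdeal (F (x.obj (topObj U)))).comap
            (bmap 𝒳 z.2.2.choose)).support := by
          rw [Scheme.IdealSheafData.mem_support_iff_of_mem (U := ⟨⊤, isAffineOpen_top _⟩) trivial,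
            Scheme.mem_zeroLocus_iff]
          intro a ha hqa
          have h3 : (⟨m, hm.isPrime⟩ : PrimeSpectrum _) ∈ (isAffineOpen_top (sch 𝒳 z.1.left)).fromSpec ⁻¹ᵁ
              (sch 𝒳 z.1.left).basicOpen a := hqa
          rw [IsAffineOpen.fromSpec_preimage_basicOpen] at h3
          exact h3 (hFm ha)
        rw [Scheme.IdealSheafData.support_comap] at hsupp
        have h4 : bmap 𝒳 z.2.2.choose q ∈
            ((Scheme.IdealSheafData.vanishingIdeal (F (x.obj (topObj U)))).support : Set _) := hsupp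
        rw [Scheme.IdealSheafData.coe_support_vanishingIdeal] at h4
        rw [← SetLike.mem_coe, hF z.2.2.choose]
        exact h4
      exact hCD _ q (hmem C hC (le_sup_left.trans hle)) (hmem D hD (le_sup_right.trans hle))
  rw [base_sup h (StPushLib.flatSys_atlas x hx hxs) (StPushLib.qcProd_sch V) (selfEt V) ‹IsAffine V.left›
    (hUnit (selfEt V)) hM'] at h1
  obtain ⟨a, ha, b, hb, hab⟩ := Submodule.mem_sup.1 h1
  have ha' := vanSys_vanish hx hxs C hC a ha o s hs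
  have hb' := vanSys_vanish hx hxs D hD b hb o' s' hs'
  rw [e] at ha'
  let v := (baseMap π o').left s'
  let 𝔭 : PrimeSpectrum Γ(V.left, ⊤) := V.left.isoSpec.hom v
  have hv𝔭 : (isAffineOpen_top V.left).fromSpec 𝔭 = v := by
    rw [IsAffineOpen.fromSpec_top]
    show (V.left.isoSpec.hom ≫ V.left.isoSpec.inv) v = v
    rw [Iso.hom_inv_id]; rfl
  have hmem : ∀ c : Γ(V.left, ⊤), v ∈ V.left.basicOpen c ↔ c ∉ 𝔭.asIdeal := fun c => by
    rw [← hv𝔭]
    show 𝔭 ∈ (isAffineOpen_top V.left).fromSpec ⁻¹ᵁ V.left.basicOpen c ↔ _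
    rw [IsAffineOpen.fromSpec_preimage_basicOpen]
    rfl
  have ha2 : (a : Γ(V.left, ⊤)) ∈ 𝔭.asIdeal := not_not.1 fun hn => ha' ((hmem a).2 hn)
  have hb2 : (b : Γ(V.left, ⊤)) ∈ 𝔭.asIdeal := not_not.1 fun hn => hb' ((hmem b).2 hn)
  exact 𝔭.isPrime.ne_top ((Ideal.eq_top_iff_one _).2 (hab ▸ 𝔭.asIdeal.add_mem ha2 hb2))

variable {M : AlgSp.Sp S} {π : 𝒳 ⥤ᵇ AlgSt.ofSp M}

set_option maxHeartbeats 3200000 in
/-- Disjoint closed sets of points have disjoint images in a good moduli space. -/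
theorem map_ne_of_disjoint (h𝒳 : AlgSt.IsAlgStack Scheme.fppfPrecoverage 𝒳) (hM : IsAlgSpace M) (hQ : QcProd M)
    (hqc : AlgSt.IsQuasiCompactMor Scheme.fppfPrecoverage π) (hqs : AlgSt.IsQuasiSeparatedMor π)
    (h : StMod.IsGoodModuli π) {C D : Set (AlgSt.Points 𝒳)} (hC : IsClosed C) (hD : IsClosed D)
    (hCD : Disjoint C D) {c d : AlgSt.Points 𝒳} (hc : c ∈ C) (hd : d ∈ D) :
    AlgSt.Points.map π c ≠ AlgSt.Points.map π d := by
  intro e
  haveI hB : IsFibGrpd (AlgSt.ofSp M).p := Stk.isFibGrpd_ofPsh _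
  obtain ⟨p, hp⟩ := AlgSt.Points.mk_surjective (AlgSt.Points.map π c)
  let T : Over S := Over.mk p.str
  haveI : IsFibGrpd (AlgSt.ofSch T).p := Stk.isFibGrpd_ofPsh _
  haveI : IsAffine T.left := inferInstanceAs (IsAffine (Spec (CommRingCat.of p.K)))
  let u : AlgSt.ofSch T ⥤ᵇ AlgSt.ofSp M :=
    BasedFunctor.comp (AlgSt.toOverCat T) (ofPoint (Fiber.mk (p := (AlgSt.ofSp M).p) p.lies))
  obtain ⟨α⟩ := AlgStLib.nonempty_iso_mapOf u
  let m : (yon S).obj T ⟶ M := ObjectProperty.homMk (AlgStLib.mapOf u)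
  let o₀ : (AlgSt.ofSch T).obj := ⟨T, ⟨𝟙 _⟩⟩
  let e' : AlgSt.Points (AlgSt.ofSch T) := AlgSt.Points.mk { K := p.K, str := p.str, obj := o₀, lies := rfl }
  have he' : AlgSt.Points.map (AlgSt.ofSpMap m) e' = AlgSt.Points.map π c := by
    show AlgSt.Points.map (Stk.ofPshMap (AlgStLib.mapOf u)) e' = _
    rw [← AlgStLib.map_congr α, ← hp]
    obtain ⟨k⟩ := nonempty_evalAtId_ofPoint_iso (Fiber.mk (p := (AlgSt.ofSp M).p) p.lies)
    exact AlgStLib.mk_eq_of_hom (q := p) k.hom.1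
  obtain ⟨c', hc1, hc2⟩ := AlgStLib.exists_point_fp (f := π) (g := AlgSt.ofSpMap m) e' c he'
  obtain ⟨d', hd1, hd2⟩ := AlgStLib.exists_point_fp (f := π) (g := AlgSt.ofSpMap m) e' d (he'.trans e)
  have hA := isAlgStack_fp' (isAlgStack_ofSch T) h𝒳 (isAlgStack_ofSp hM) (AlgSt.ofSpMap m) π
  haveI := AlgStLib.isFibGrpd_of_isAlgStack hA
  obtain ⟨U, x, hUa, hx, hxs⟩ := hqc (AlgSt.ofSch T) (isAlgStack_ofSch T)
    (AlgStLib.isQuasiCompact_ofSp (IsAlgSpace.yon_obj T) (AlgSpLib.isQuasiCompactSp_yon T)) (AlgSt.ofSpMap m)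
  let π' := fpFst (AlgSt.ofSpMap m) π
  have hcont := AlgStLib.continuous_map h𝒳.atlas (fpSnd (AlgSt.ofSpMap m) π)
  let fam : Set (AlgSt.Points 𝒳) → ∀ o, Set (sch (fp (AlgSt.ofSpMap m) π) o) := fun A o =>
    ptsOf o ⁻¹' (AlgSt.Points.map (fpSnd (AlgSt.ofSpMap m) π) ⁻¹' A)
  let Cf : ∀ o, Closeds (sch (fp (AlgSt.ofSpMap m) π) o) := fun o =>
    ⟨fam C o, (hC.preimage hcont).preimage (continuous_ptsOf hA.atlas o)⟩
  let Df : ∀ o, Closeds (sch (fp (AlgSt.ofSpMap m) π) o) := fun o =>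
    ⟨fam D o, (hD.preimage hcont).preimage (continuous_ptsOf hA.atlas o)⟩
  have hnat : ∀ (A : Set (AlgSt.Points 𝒳)) {o' o : (fp (AlgSt.ofSpMap m) π).obj} (φ : o' ⟶ o),
      fam A o' = bmap _ φ ⁻¹' fam A o := fun A {o' o} φ => by
    show ptsOf o' ⁻¹' _ = bmap _ φ ⁻¹' (ptsOf o ⁻¹' _)
    rw [ptsOf_map φ]
    rfl
  obtain ⟨oc, sc, hsc⟩ := exists_ptsOf_eq c'
  obtain ⟨od, sd, hsd⟩ := exists_ptsOf_eq d'
  refine ne_of_disjoint_natClosed (π := π')
    (StPushLib.isCohAffine_fpFst (g := m) (π := π) h𝒳 hM hQ hqc hqs h.1)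
    (unitIsIso_fpFst h𝒳 hM hQ hqc hqs h) hUa hx hxs (C := Cf) (D := Df) (fun φ => hnat C φ) (fun φ => hnat D φ)
    (fun o s hsC hsD => Set.disjoint_left.1 hCD hsC hsD)
    (s := sc) (show AlgSt.Points.map (fpSnd _ π) (ptsOf oc sc) ∈ C by rw [hsc, hc2]; exact hc)
    (s' := sd) (show AlgSt.Points.map (fpSnd _ π) (ptsOf od sd) ∈ D by rw [hsd, hd2]; exact hd) ?_
  refine ePt_injective ?_
  rw [← map_ptsOf π' oc sc, ← map_ptsOf π' od sd, hsc, hsd]
  exact hc1.trans hd1.symm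

/-- The point of a chart of a space. -/
theorem exists_map_of_chart {S : Scheme.{u}} {M : AlgSp.Sp S} {T : Over S} (v : overCat T ⥤ᵇ AlgSt.ofSp M) (t : T.left) :
    ∃ q : (yon S).obj T ⟶ M, Nonempty (BasedFunctor.comp (AlgSt.toOverCat T) v ≅ AlgSt.ofSpMap q) ∧
      AlgSt.Points.ofChart v t = (AlgStLib.ptsEquiv M).symm (Points.ofPt q t) := by
  obtain ⟨α⟩ := AlgStLib.nonempty_iso_mapOf (BasedFunctor.comp (AlgSt.toOverCat T) v)
  let q : (yon S).obj T ⟶ M := ObjectProperty.homMk (AlgStLib.mapOf (BasedFunctor.comp (AlgSt.toOverCat T) v))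
  refine ⟨q, ⟨α⟩, ?_⟩
  rw [AlgStLib.ofChart_eq]
  show AlgSt.Points.map _ ((AlgStLib.ptsEquiv _).symm (Points.schemeHomeo T t)) = _
  rw [AlgStLib.map_congr α]
  refine (AlgStLib.map_ofPshMap_ptsEquiv_symm q (Points.schemeHomeo T t)).trans (congrArg _ ?_)
  generalize q = f
  exact (Points.map_ofPt _ f t).trans (congrArg (fun f' => Points.ofPt f' t) (Category.id_comp f))

/-- Charts of a space are equal when they are after passing to the category of the scheme. -/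
theorem eq_of_iso_toOverCat {S : Scheme.{u}} {M : AlgSp.Sp S} {T : Over S} (v w : overCat T ⥤ᵇ AlgSt.ofSp M)
    (α : BasedFunctor.comp (AlgSt.toOverCat T) v ≅ BasedFunctor.comp (AlgSt.toOverCat T) w) : v = w :=
  QuotStLib.basedFunctor_ext_sec fun a => AlgStLib.secOf_iso α ⟨a.left, ⟨a.hom⟩⟩

section Field

variable {k : Type u} [Field k]

/-- A rational point of a quasi-separated space over a field is closed and determined by its point. -/
theorem eq_of_ofPt_eq {M : AlgSp.Sp (Spec (CommRingCat.of k))} (hM : IsAlgSpace M) (hd : IsDecent M)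
    (q₁ q₂ : (yon _).obj (Over.mk (𝟙 (Spec (CommRingCat.of k)))) ⟶ M) (t : Spec (CommRingCat.of k))
    (e : Points.ofPt q₁ t = Points.ofPt q₂ t) : q₁ = q₂ := by
  let T : Over (Spec (CommRingCat.of k)) := Over.mk (𝟙 _)
  obtain ⟨P, hP, hm, hq⟩ := hd (Points.ofPt q₁ t)
  haveI : Subsingleton T.left := inferInstanceAs (Subsingleton (PrimeSpectrum k))
  have hred : EtaleLocally (fun U => IsReduced U) ((yon _).obj T) :=
    ⟨T, 𝟙 _, repWith_id _ T, repWith_id _ T, inferInstanceAs (IsReduced (Spec (CommRingCat.of k)))⟩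
  have hpt : ∀ (q : (yon _).obj T ⟶ M), Points.ofPt q t = Points.ofPt q₁ t →
      ∀ y, Points.map q y = Points.ofPt q₁ t := fun q hqt y => by
    obtain ⟨v, rfl⟩ := (Points.schemeHomeo T).surjective y
    rw [Subsingleton.elim v t, ← hqt]
    exact Points.map_ofPt _ _ _ |>.trans (by rw [Category.id_comp])
  obtain ⟨g₁, hg₁⟩ := exists_factor_point hM (IsAlgSpace.yon_obj T) hP hm hq hred (hpt q₁ rfl)
  obtain ⟨g₂, hg₂⟩ := exists_factor_point hM (IsAlgSpace.yon_obj T) hP hm hq hred (hpt q₂ e.symm)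
  obtain ⟨a₁, rfl⟩ := (yon _).map_surjective g₁
  obtain ⟨a₂, rfl⟩ := (yon _).map_surjective g₂
  obtain ⟨φ₁, hφ₁⟩ := Spec.map_surjective a₁.left
  obtain ⟨φ₂, hφ₂⟩ := Spec.map_surjective a₂.left
  obtain ⟨ι, hι⟩ := Spec.map_surjective P.str
  have h1 : ι ≫ φ₁ = 𝟙 _ := Spec.map_injective (by rw [Spec.map_comp, hφ₁, hι, Spec.map_id]; exact Over.w a₁)
  have h2 : ι ≫ φ₂ = 𝟙 _ := Spec.map_injective (by rw [Spec.map_comp, hφ₂, hι, Spec.map_id]; exact Over.w a₂)
  have hsurj : Function.Surjective ι.hom := fun y => ⟨φ₁.hom y, RingHom.injective φ₁.hom (by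
    exact congrArg (fun f => (ConcreteCategory.hom f) (φ₁.hom y)) h1)⟩
  have : φ₁ = φ₂ := CommRingCat.hom_ext (RingHom.ext fun y => by
    obtain ⟨x, rfl⟩ := hsurj y
    exact (congrArg (fun f => (ConcreteCategory.hom f) x) h1).trans
      (congrArg (fun f => (ConcreteCategory.hom f) x) h2).symm)
  have ha : a₁ = a₂ := Over.OverMorphism.ext (by rw [← hφ₁, ← hφ₂, this])
  rw [← hg₁, ← hg₂, ha]

variable {𝒳 : AlgSt.Cat (Spec (CommRingCat.of k))} [IsFibGrpd 𝒳.p] {M : AlgSp.Sp (Spec (CommRingCat.of k))}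
  {π : 𝒳 ⥤ᵇ AlgSt.ofSp M}

set_option maxHeartbeats 3200000 in
/-- Rational points with the same image are those whose closures meet. -/
theorem comp_eq_iff_closure_inter (h𝒳 : AlgSt.IsAlgStack Scheme.fppfPrecoverage 𝒳) (hM : IsAlgSpace M)
    (hMs : IsQuasiSeparatedSp M) (hQ : QcProd M)
    (hqc : AlgSt.IsQuasiCompactMor Scheme.fppfPrecoverage π) (hqs : AlgSt.IsQuasiSeparatedMor π)
    (h : StMod.IsGoodModuli π) (x₁ x₂ : overCat (Over.mk (𝟙 (Spec (CommRingCat.of k)))) ⥤ᵇ 𝒳)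
    (t : Spec (CommRingCat.of k)) :
    BasedFunctor.comp x₁ π = BasedFunctor.comp x₂ π ↔
      (closure {AlgSt.Points.ofChart x₁ t} ∩ closure {AlgSt.Points.ofChart x₂ t}).Nonempty := by
  haveI hB : IsFibGrpd (AlgSt.ofSp M).p := Stk.isFibGrpd_ofPsh _
  let T : Over (Spec (CommRingCat.of k)) := Over.mk (𝟙 _)
  constructor
  · intro e
    by_contra hne
    refine map_ne_of_disjoint h𝒳 hM hQ hqc hqs h isClosed_closure isClosed_closure
      (Set.disjoint_iff_inter_eq_empty.2 (Set.not_nonempty_iff_eq_empty.1 hne)) (subset_closure rfl) (subset_closure rfl) ?_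
    have h1 := congrFun (congrArg (fun F => AlgSt.Points.ofChart F) e) t
    exact h1
  · rintro ⟨p, hp1, hp2⟩
    have hd : IsDecent M := isDecent_of_isQuasiSeparatedSp hM hMs
    haveI : IsLocallyArtinian T.left := inferInstanceAs (IsLocallyArtinian (Spec (CommRingCat.of k)))
    haveI : IsIntegralHom T.hom := inferInstanceAs (IsIntegralHom (𝟙 _))
    obtain ⟨q₁, ⟨α₁⟩, e₁⟩ := exists_map_of_chart (BasedFunctor.comp x₁ π) t
    obtain ⟨q₂, ⟨α₂⟩, e₂⟩ := exists_map_of_chart (BasedFunctor.comp x₂ π) t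
    have hcont := AlgStLib.continuous_map (AlgStLib.hasAtlas_ofSp hM) π
    have himg : ∀ (x : overCat T ⥤ᵇ 𝒳) (q : (yon _).obj T ⟶ M),
        AlgSt.Points.ofChart (BasedFunctor.comp x π) t = (AlgStLib.ptsEquiv M).symm (Points.ofPt q t) →
        p ∈ closure {AlgSt.Points.ofChart x t} → AlgStLib.ptsEquiv M (AlgSt.Points.map π p) = Points.ofPt q t :=
      fun x q e hp => by
      have h1 := image_closure_subset_closure_image ((AlgStLib.ptsHomeo hM).continuous.comp hcont) ⟨p, hp, rfl⟩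
      rw [Set.image_singleton] at h1
      have h2 : (⇑(AlgStLib.ptsHomeo hM) ∘ AlgSt.Points.map π) (AlgSt.Points.ofChart x t) = Points.ofPt q t := by
        show AlgStLib.ptsEquiv M (AlgSt.Points.map π (AlgSt.Points.ofChart x t)) = _
        rw [show AlgSt.Points.map π (AlgSt.Points.ofChart x t) = AlgSt.Points.ofChart (BasedFunctor.comp x π) t from rfl, e,
          Equiv.apply_symm_apply]
      rw [h2, (isClosed_singleton_of_integral hM hd (p := q) t).closure_eq] at h1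
      exact h1
    have hq : q₁ = q₂ := eq_of_ofPt_eq hM hd q₁ q₂ t ((himg x₁ q₁ e₁ hp1).symm.trans (himg x₂ q₂ e₂ hp2))
    subst hq
    exact eq_of_iso_toOverCat _ _ (α₁ ≪≫ α₂.symm)

end Field

end CohAffMorLib.UnitBC
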