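import Groth.Agent.UnifModLib.Basic

/-!
# Factorisations are tested on affine objects etale over the target
-/

set_option autoImplicit false
set_option linter.all false
set_option backward.isDefEq.respectTransparency false
set_option backward.isDefEq.respectTransparency.types false

noncomputable section

universe u

open CategoryTheory CategoryTheory.Limits AlgebraicGeometry Opposite AlgSp FibCat FibLib AlgSpLib AlgStLib UnifModLib

namespace CohAffMorLib.UnitBC.Factor

variable {S : Scheme.{u}} {𝒳 : AlgSt.Cat S} {Y N : Sp S} {f : 𝒳 ⥤ᵇ AlgSt.ofSp Y} {φ : 𝒳 ⥤ᵇ AlgSt.ofSp N}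

variable (hY : IsAlgSpace Y) [IsFibGrpd 𝒳.p]
  (H : ∀ (T : Over S), IsAffine T.left → ∀ g : (yon S).obj T ⟶ Y, RepWith @Etale g →
    ∃! h : (yon S).obj T ⟶ N, Eqn f φ g h)

lemma etale_restrict {T T' : Over S} (j : T' ⟶ T) [Etale j.left] {g : (yon S).obj T ⟶ Y} (hg : RepWith @Etale g) :
    RepWith @Etale ((yon S).map j ≫ g) :=
  repWith_comp ((repWith_yon_map_iff (P := (@Etale : MorphismProperty Scheme.{u})) j).2 ‹_›) hg

include hY H in
lemma eqn_ext {T : Over S} {g : (yon S).obj T ⟶ Y} (hg : RepWith @Etale g) {h h' : (yon S).obj T ⟶ N}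
    (e : Eqn f φ g h) (e' : Eqn f φ g h') : h = h' := by
  obtain ⟨κ, V, c, hV, hc, hcov⟩ := exists_affine_cover T
  refine glue_ext c (fun k => ?_) (fun k => ?_) hcov fun k => ?_
  · haveI := hc k; infer_instance
  · haveI := hc k; infer_instance
  · haveI := hc k
    exact (H (V k) (hV k) _ (etale_restrict (c k) hg)).unique (e.comp (j := c k)) (e'.comp (j := c k))

include hY H in
lemma exists_eqn {T : Over S} {g : (yon S).obj T ⟶ Y} (hg : RepWith @Etale g) :
    ∃ h : (yon S).obj T ⟶ N, Eqn f φ g h := by
  obtain ⟨κ, V, c, hV, hc, hcov⟩ := exists_affine_cover T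
  haveI := fun k => hc k
  choose h hh using fun k => (H (V k) (hV k) _ (etale_restrict (c k) hg)).exists
  obtain ⟨y, hy, -⟩ := exists_glue c (fun k => inferInstance) (fun k => inferInstance) hcov h fun k l Z a b e => by
    let I := pullback (c k) (c l)
    have sq := (IsPullback.of_hasPullback (c k) (c l)).map (Over.forget S)
    haveI : Etale (pullback.fst (c k) (c l)).left :=
      MorphismProperty.of_isPullback sq.flip (inferInstance : Etale (c l).left)
    have key : (yon S).map (pullback.fst (c k) (c l)) ≫ h k = (yon S).map (pullback.snd (c k) (c l)) ≫ h l := by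
      refine eqn_ext hY H (etale_restrict (pullback.fst (c k) (c l)) (etale_restrict (c k) hg))
        ((hh k).comp (j := pullback.fst (c k) (c l))) ?_
      rw [← Functor.map_comp_assoc, pullback.condition, Functor.map_comp_assoc]
      exact (hh l).comp (j := pullback.snd (c k) (c l))
    calc (yon S).map a ≫ h k = (yon S).map (pullback.lift a b e) ≫ (yon S).map (pullback.fst (c k) (c l)) ≫ h k := by
          rw [← Functor.map_comp_assoc, pullback.lift_fst]
      _ = (yon S).map b ≫ h l := by rw [key, ← Functor.map_comp_assoc, pullback.lift_snd]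
  refine ⟨y, fun x t e => ?_⟩
  have sq := fun k => (IsPullback.of_hasPullback t (c k)).map (Over.forget S)
  haveI : ∀ k, Flat (pullback.fst t (c k)).left := fun k =>
    MorphismProperty.of_isPullback (sq k).flip (inferInstance : Flat (c k).left)
  haveI : ∀ k, LocallyOfFinitePresentation (pullback.fst t (c k)).left := fun k =>
    MorphismProperty.of_isPullback (sq k).flip (inferInstance : LocallyOfFinitePresentation (c k).left)
  refine glue_ext (fun k => pullback.fst t (c k)) (fun k => inferInstance) (fun k => inferInstance) (fun s => ?_)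
    fun k => ?_
  · obtain ⟨k, v, hv⟩ := hcov (t.left s)
    obtain ⟨w, hw, -⟩ := Scheme.Pullback.exists_preimage_pullback (f := t.left) (g := (c k).left) s v hv.symm
    refine ⟨k, (sq k).isoPullback.inv w, ?_⟩
    show ((sq k).isoPullback.inv ≫ (pullback.fst t (c k)).left) w = s
    rw [show (pullback.fst t (c k)).left = (Over.forget S).map (pullback.fst t (c k)) from rfl,
      IsPullback.isoPullback_inv_fst]
    exact hw
  · obtain ⟨x', m, hm⟩ := exists_lift 𝒳.p (a := x) rfl (pullback.fst t (c k))
    have hb : 𝒳.p.obj x' = pullback t (c k) := IsHomLift.domain_eq 𝒳.p (pullback.fst t (c k)) m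
    have hpm : 𝒳.p.map m = eqToHom hb ≫ pullback.fst t (c k) := by
      rw [IsHomLift.fac' 𝒳.p (pullback.fst t (c k)) m]
      simp
    have h1 := hh k x' (eqToHom hb ≫ pullback.snd t (c k)) (by
      rw [← σ_nat f m, hpm, Functor.map_comp, Functor.map_comp, Category.assoc, Category.assoc,
        ← Functor.map_comp_assoc (yon S) (pullback.snd t (c k)), ← pullback.condition, Functor.map_comp_assoc, e])
    rw [← cancel_epi ((yon S).map (eqToHom hb))]
    rw [← Functor.map_comp_assoc _ (eqToHom hb), ← Functor.map_comp_assoc _ (eqToHom hb) _ (σ φ x), ← hpm,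
      σ_nat φ m, ← h1]
    rw [hpm, Functor.map_comp_assoc, ← Functor.map_comp_assoc _ (pullback.fst t (c k)), pullback.condition,
      Functor.map_comp_assoc, hy k, Functor.map_comp_assoc]

include hY H in
/-- A factorisation exists uniquely when it does after every affine flat base change. -/
theorem existsUnique_factor : ∃! g : Y ⟶ N, Nonempty (BasedFunctor.comp f (AlgSt.ofSpMap g) ≅ φ) := by
  have key : ∀ g : Y ⟶ N, Nonempty (BasedFunctor.comp f (AlgSt.ofSpMap g) ≅ φ) ↔ ∀ x, σ f x ≫ g = σ φ x := by
    intro g
    have e : ∀ x, σ (BasedFunctor.comp f (AlgSt.ofSpMap g)) x = σ f x ≫ g := fun x => by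
      rw [σ_comp, σ_ofSpMap]
      rw [← Category.assoc]
      congr 1
      refine yEq.injective ?_
      refine (yEq_map _ _).trans ?_
      refine Eq.trans ?_ (yEq_σ f x).symm
      exact congrArg (Y.obj.map _) (yEq.apply_symm_apply (f.obj x).sec)
    refine ⟨fun ⟨i⟩ x => (e x).symm.trans (congrArg yEq.symm (secOf_iso i x)), fun h => nonempty_iso_of_sec fun x => ?_⟩
    exact yEq.symm.injective ((e x).trans (h x))
  simp only [key]
  obtain ⟨U, a, ha, has⟩ := hY.atlas
  have hfl := ha
  obtain ⟨h, hh⟩ := exists_eqn hY H hfl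
  obtain ⟨g, hg⟩ := exists_desc_of_atlas ha has h fun Z b b' e => by
    obtain ⟨R, p, q, sq⟩ := exists_isPullback_yon a a ha.rep
    haveI : Etale p.left := etale_left (repWith_of_isPullback sq.flip ha)
    have key : (yon S).map p ≫ h = (yon S).map q ≫ h := by
      refine eqn_ext hY H (etale_restrict p hfl) (hh.comp (j := p)) ?_
      rw [sq.w]
      exact hh.comp (j := q)
    obtain ⟨l, hl⟩ := (yon S).map_surjective (sq.lift _ _ e)
    calc (yon S).map b ≫ h = (yon S).map l ≫ (yon S).map p ≫ h := by
          rw [hl, sq.lift_fst_assoc]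
      _ = (yon S).map b' ≫ h := by rw [key, hl, sq.lift_snd_assoc]
  refine ⟨g, fun x => ?_, fun g' hg' => ?_⟩
  · obtain ⟨W, p, c, sq⟩ := exists_isPullback_yon a (σ f x) ha.rep
    haveI : Etale c.left := etale_left (repWith_of_isPullback sq ha)
    haveI : Surjective c.left := surjective_left (repWith_of_isPullback sq has)
    refine glue_ext (κ := PUnit.{u + 1}) (fun _ => c) (fun _ => inferInstance) (fun _ => inferInstance)
      (fun t => ⟨⟨⟩, c.left.surjective t⟩) fun _ => ?_
    obtain ⟨x', m, hm⟩ := exists_lift 𝒳.p (a := x) rfl c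
    have hb : 𝒳.p.obj x' = W := IsHomLift.domain_eq 𝒳.p c m
    have hpm : 𝒳.p.map m = eqToHom hb ≫ c := by
      rw [IsHomLift.fac' 𝒳.p c m]
      simp
    have h1 := hh x' (eqToHom hb ≫ p) (by
      rw [← σ_nat f m, hpm, Functor.map_comp, Functor.map_comp, Category.assoc, Category.assoc, sq.w])
    rw [← σ_nat φ m, hpm, Functor.map_comp, Functor.map_comp, Category.assoc, Category.assoc, cancel_epi, ← hg,
      ← Category.assoc, sq.w] at h1
    rw [← h1]
    simp [Category.assoc]
  · haveI : Sheaf.IsLocallySurjective a := isLocallySurjective_of_repWith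
      (repWith_mono (fun _ _ g (hg : Etale g) => inferInstanceAs (Flat g)) ha)
      (repWith_mono (fun _ _ g (hg : Etale g) => inferInstanceAs (LocallyOfFinitePresentation g)) ha) has
    refine (cancel_epi a).1 ?_
    rw [hg]
    refine eqn_ext hY H hfl (fun x t e => ?_) hh
    rw [← Category.assoc, e]
    exact hg' x

end CohAffMorLib.UnitBC.Factor
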