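import Groth.Agent.CohAffMorLib.UnitBC.Test
import Groth.Agent.AlgStLib.Rows3
import Groth.Agent.UCValLib.Charts

/-!
# Good moduli spaces of flat stacks are flat
-/

set_option autoImplicit false
set_option linter.style.haveILetI false
set_option backward.isDefEq.respectTransparency false
set_option backward.isDefEq.respectTransparency.types false
set_option maxHeartbeats 1600000

universe u

open CategoryTheory CategoryTheory.Limits AlgebraicGeometry AlgSp AlgSpLib FibCat FibLib Opposite StMod GenDescLib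
open StPushLib (QcProd)
open scoped TensorProduct

noncomputable section

namespace CohAffMorLib.UnitBC

/-- Flatness is tested on a jointly injective family of flat algebras. -/
theorem flat_of_test {B A : Type u} [CommRing B] [CommRing A] [Algebra B A] {K : Type u} (R : K → Type u)
    [∀ k, CommRing (R k)] [∀ k, Algebra A (R k)] [∀ k, Algebra B (R k)] [∀ k, IsScalarTower B A (R k)]
    [∀ k, Module.Flat B (R k)]
    (h : ∀ (N : Type u) [AddCommGroup N] [Module A N] (n : N), (∀ k, (1 : R k) ⊗ₜ[A] n = 0) → n = 0) :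
    Module.Flat B A := by
  refine Module.Flat.iff_lTensor_preserves_injective_linearMap.2 fun P Q _ _ _ _ f hf => ?_
  show Function.Injective (f.baseChange A)
  refine (injective_iff_map_eq_zero (f.baseChange A)).2 fun x hx => h (A ⊗[B] P) x fun k => ?_
  apply (TensorProduct.AlgebraTensorModule.cancelBaseChange B A (R k) (R k) P).injective
  apply Module.Flat.lTensor_preserves_injective_linearMap (M := R k) f hf
  rw [map_zero, map_zero]
  have key : ∀ y : A ⊗[B] P,
      LinearMap.lTensor (R k) f (TensorProduct.AlgebraTensorModule.cancelBaseChange B A (R k) (R k) P ((1 : R k) ⊗ₜ[A] y)) =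
        TensorProduct.AlgebraTensorModule.cancelBaseChange B A (R k) (R k) Q ((1 : R k) ⊗ₜ[A] f.baseChange A y) := by
    intro y
    induction y using TensorProduct.induction_on with
    | zero => simp
    | tmul a p => simp
    | add a b ha hb => simp only [TensorProduct.tmul_add, map_add, ha, hb]
  rw [key, hx, TensorProduct.tmul_zero, map_zero]

variable {S : Scheme.{u}} {𝒳 : AlgSt.Cat S} {M : AlgSp.Sp S} {π : 𝒳 ⥤ᵇ AlgSt.ofSp M}

/-- A scheme smooth over the trivial stack is smooth over the base. -/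
theorem smooth_of_selfOver {V : Over S} (y : overCat V ⥤ᵇ selfOver (Over S))
    (hy : AlgSt.RepByAlgSpWith (LocP @Smooth) y) : Smooth V.hom := by
  let T : Over S := Over.mk (𝟙 S)
  haveI : (toSelf (overCat T)).toFunctor.Faithful :=
    ⟨fun {a b f g} h => Over.OverMorphism.ext h⟩
  haveI : (toSelf (overCat T)).toFunctor.Full := ⟨fun {a b} f => by
    refine ⟨Over.homMk f ?_, rfl⟩
    apply Over.OverMorphism.ext
    have h1 := Over.w a.hom
    have h2 := Over.w b.hom
    have h3 := Over.w f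
    change f.left ≫ b.hom.left = a.hom.left
    have ha : a.hom.left = a.left.hom := by simpa [T] using h1
    have hb : b.hom.left = b.left.hom := by simpa [T] using h2
    rw [ha, hb]
    exact h3⟩
  have hT : IsEquivOver (toSelf (overCat T)) :=
    isEquivOver_of_vertEssSurj _ fun W =>
      ⟨Over.mk (Over.homMk W.hom (Category.comp_id _) : W ⟶ T), Iso.refl _, IsHomLift.id rfl⟩
  let m : V ⟶ T := Over.homMk V.hom (Category.comp_id _)
  obtain ⟨α⟩ := nonempty_iso_selfOver (BasedFunctor.comp (BasedFunctor.id _) y)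
    (BasedFunctor.comp (AlgSt.overMap m) (toSelf (overCat T)))
  exact UCValLib.smooth_left_of_rep m ((AlgStLib.repByAlgSpWith_square_iff (f := y) (f' := AlgSt.overMap m)
    (a := BasedFunctor.id _) (b := toSelf (overCat T)) (isEquivOver_id _) hT α.symm _).mp hy)

/-- An affine open piece of an etale object over the good moduli space of a flat stack is flat over the base. -/
theorem flat_piece (h𝒳 : AlgSt.IsAlgStack Scheme.fppfPrecoverage 𝒳) (hQ : QcProd M)
    (hqc : AlgSt.IsQuasiCompactMor Scheme.fppfPrecoverage π) (hqs : AlgSt.IsQuasiSeparatedMor π)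
    (h : StMod.IsGoodModuli π) {U0 : Over S} (x : overCat U0 ⥤ᵇ 𝒳)
    (hx : AlgSt.RepByAlgSpWith (LocP @Smooth) x) (hxs : AlgSt.RepByAlgSpWith IsSurjectiveMor x)
    (hfl : Flat U0.hom) (E : EtOver M) (hE : IsAffine E.obj.left.left) {V : S.Opens} (hV : IsAffineOpen V)
    (φ : E.obj.left.left ⟶ V.toScheme) (hφ : φ ≫ V.ι = E.obj.left.hom) : Flat φ := by
  haveI := AlgStLib.isFibGrpd_of_isAlgStack h𝒳
  obtain ⟨K, hK, z, hz, ht⟩ := exists_test h𝒳 hQ hqc hqs h E hE x hx hxs
  haveI : IsAffine V.toScheme := hV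
  let ν := etaOf E
  haveI : IsAffine (sch (AlgSt.ofSp M) ν) := hE
  let φ' : sch (AlgSt.ofSp M) ν ⟶ V.toScheme := φ
  haveI hz' : ∀ k, IsAffine (sch (fibCat π ν) (z k)) := fun k => (hz k).1
  have hs : ∀ k, Flat (fibBase (z k) ≫ φ') := fun k => by
    obtain ⟨-, b, hb⟩ := hz k
    haveI := hb
    haveI : Flat (𝒳.p.obj (x.obj (GenDescLib.topObj U0))).hom := by
      rw [x.w_obj]
      exact hfl
    have e : (fibBase (z k) ≫ φ') ≫ V.ι = bmap 𝒳 b ≫ (𝒳.p.obj (x.obj (GenDescLib.topObj U0))).hom := by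
      rw [Category.assoc, show φ' ≫ V.ι = ((AlgSt.ofSp M).p.obj ν).hom from hφ]
      exact (Over.w (baseOver π (z k).left (z k).hom)).trans (Over.w (𝒳.p.map b)).symm
    haveI : Flat ((fibBase (z k) ≫ φ') ≫ V.ι) := by
      rw [e]
      exact (inferInstance : Flat (bmap 𝒳 b ≫ (𝒳.p.obj (x.obj (GenDescLib.topObj U0))).hom))
    exact AlgSpLib.EtLocProp.cancel_etale (P := @Flat) _ V.ι this
  letI : Algebra Γ(V.toScheme, ⊤) (Base ν) := φ'.appTop.hom.toAlgebra
  letI : ∀ k, Algebra Γ(V.toScheme, ⊤) (Fun (z k)) := fun k => (fibBase (z k) ≫ φ').appTop.hom.toAlgebra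
  haveI : ∀ k, IsScalarTower Γ(V.toScheme, ⊤) (Base ν) (Fun (z k)) := fun k => IsScalarTower.of_algebraMap_eq fun b => by
    show (fibBase (z k) ≫ φ').appTop b = (fibBase (z k)).appTop (φ'.appTop b)
    rw [Scheme.Hom.comp_appTop]
    rfl
  haveI : ∀ k, Module.Flat Γ(V.toScheme, ⊤) (Fun (z k)) := fun k =>
    (HasRingHomProperty.iff_of_isAffine (P := @Flat)).1 (hs k)
  exact (HasRingHomProperty.iff_of_isAffine (P := @Flat) (f := φ')).2
    (flat_of_test (B := Γ(V.toScheme, ⊤)) (A := Base ν) (fun k => Fun (z k)) ht)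

/-- The good moduli space of a flat stack is flat. -/
theorem locP_flat_base (h𝒳 : AlgSt.IsAlgStack Scheme.fppfPrecoverage 𝒳) (hM : IsAlgSpace M) (hQ : QcProd M)
    (hqc : AlgSt.IsQuasiCompactMor Scheme.fppfPrecoverage π) (hqs : AlgSt.IsQuasiSeparatedMor π)
    (h : StMod.IsGoodModuli π) (hfl : AlgSt.LocQ (LocP @Flat) (FibCat.toSelf 𝒳))
    (q : M ⟶ (yon S).obj (Over.mk (𝟙 S))) : LocP @Flat q := by
  obtain ⟨U0, V0, x, y, h0, -, hx, hxs, hy, hP⟩ := hfl
  have hU0 : Flat U0.hom := by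
    haveI : Flat h0.left := locP_yon_map hP
    haveI : Smooth V0.hom := smooth_of_selfOver y hy
    rw [← Over.w h0]
    exact (inferInstance : Flat (h0.left ≫ V0.hom))
  obtain ⟨U, a, ha, has⟩ := hM.atlas
  obtain ⟨t, ht⟩ := (yon S).map_surjective (a ≫ q)
  suffices hh : Flat t.left from
    @locP_of_chart S (@Flat) inferInstance _ _ q _ _ a (𝟙 _) t ha has (repWith_id _ _)
      (by rw [Category.comp_id]; exact ht.symm) hh
  have et : t.left = U.hom := by simpa using Over.w t
  rw [et]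
  refine (IsZariskiLocalAtTarget.iff_of_iSup_eq_top (P := @Flat) (fun V : S.affineOpens => V.1)
    (iSup_affineOpens_eq_top S)).2 fun V => ?_
  refine (IsZariskiLocalAtSource.iff_of_iSup_eq_top (P := @Flat)
    (fun N : (U.hom ⁻¹ᵁ V.1).toScheme.affineOpens => N.1) (iSup_affineOpens_eq_top _)).2 fun N => ?_
  let ι' : N.1.toScheme ⟶ U.left := N.1.ι ≫ (U.hom ⁻¹ᵁ V.1).ι
  let NS : Over S := Over.mk (ι' ≫ U.hom)
  let iN : NS ⟶ U := Over.homMk ι' rfl
  have het : RepWith @Etale ((yon S).map iN ≫ a) :=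
    repWith_comp ((repWith_yon_map_iff (P := (@Etale : MorphismProperty Scheme.{u})) iN).2
      (inferInstanceAs (Etale (N.1.ι ≫ (U.hom ⁻¹ᵁ V.1).ι)))) ha
  refine flat_piece h𝒳 hQ hqc hqs h x hx hxs hU0 (EtOver.mk ((yon S).map iN ≫ a) het) N.2 V.2
    (N.1.ι ≫ U.hom ∣_ V.1) ?_
  show (N.1.ι ≫ U.hom ∣_ V.1) ≫ V.1.ι = (N.1.ι ≫ (U.hom ⁻¹ᵁ V.1).ι) ≫ U.hom
  rw [Category.assoc, Category.assoc, morphismRestrict_ι]

end CohAffMorLib.UnitBC
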