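import Groth.Agent.AlgStLib.Stack
import Groth.Agent.UnifModLib.Basic

/-!
# Functors to a space from compatible families of morphisms
-/

set_option autoImplicit false
set_option linter.style.haveILetI false
set_option backward.isDefEq.respectTransparency false
set_option backward.isDefEq.respectTransparency.types false

universe u v w

open CategoryTheory CategoryTheory.Limits AlgebraicGeometry AlgSp AlgSpLib FibCat Opposite AlgStLib

noncomputable section

namespace CohAffMorLib.UnitBC

variable {S : Scheme.{u}} {𝒲 : BasedCategory.{v, w} (Over S)} {Q : AlgSp.Sp S}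

/-- The functor to a space given by morphisms compatible in the objects. -/
def funOfSec (s : ∀ a : 𝒲.obj, (yon S).obj (𝒲.p.obj a) ⟶ Q)
    (hs : ∀ {a b : 𝒲.obj} (f : a ⟶ b), (yon S).map (𝒲.p.map f) ≫ s b = s a) : 𝒲 ⥤ᵇ AlgSt.ofSp Q where
  toFunctor :=
    { obj := fun a => ⟨𝒲.p.obj a, yEq (s a)⟩
      map := fun {a b} f => ⟨𝒲.p.map f, by
        show Q.obj.map (𝒲.p.map f).op (yEq (s b)) = yEq (s a)
        rw [← hs f, yEq_map]⟩
      map_id := fun a => Stk.EltObj.hom_ext (by simp)
      map_comp := fun f g => Stk.EltObj.hom_ext (by simp) }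
  w := rfl

theorem secOf_funOfSec (s : ∀ a : 𝒲.obj, (yon S).obj (𝒲.p.obj a) ⟶ Q)
    (hs : ∀ {a b : 𝒲.obj} (f : a ⟶ b), (yon S).map (𝒲.p.map f) ≫ s b = s a) (a : 𝒲.obj) :
    secOf (funOfSec s hs) a = yEq (s a) := by
  change Q.obj.map (𝟙 (op (𝒲.p.obj a))) (yEq (s a)) = yEq (s a)
  rw [FunctorToTypes.map_id_apply]

end CohAffMorLib.UnitBC
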