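import Groth.Agent.CohAffMorLib.UnitBC.Disjoint
import Groth.Agent.CohAffMorLib.UnitBC.SecFunctor
import Groth.Agent.MonoPtLib.LimAffineSpace
import Groth.Agent.AlgSpLib.QcQs
import Groth.Agent.AlgSpLib.Basic
import Groth.Agent.AlgStLib.Diag

/-!
# Geometric points with the same image in a good moduli space
-/

set_option autoImplicit false
set_option linter.style.haveILetI false
set_option backward.isDefEq.respectTransparency false
set_option backward.isDefEq.respectTransparency.types false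
set_option maxHeartbeats 1600000

universe u

open CategoryTheory CategoryTheory.Limits AlgebraicGeometry AlgSp AlgSpLib FibCat FibLib Opposite StMod GenDescLib
open StPushLib (QcProd)
open AlgStLib (isAlgStack_fp' isAlgStack_ofSp isAlgStack_ofSch)

noncomputable section

namespace CohAffMorLib.UnitBC

variable {S : Scheme.{u}}

/-- A section of a map to the spectrum of an Artinian scheme is closed in a decent space. -/
theorem isClosed_singleton_of_retraction {X : Sp S} (hX : IsAlgSpace X) (hd : IsDecent X) {T : Over S}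
    [IsAffine T.left] [IsLocallyArtinian T.left] (p : (yon S).obj T ⟶ X) (r : X ⟶ (yon S).obj T)
    (hpr : p ≫ r = 𝟙 _) (t : T.left) : IsClosed ({Points.ofPt p t} : Set (Points X)) := by
  obtain ⟨ι, Us, as, hUs, has, -, hcov⟩ := exists_affine_charts hX
  let x := Points.ofPt p t
  have hfin : ∀ i, (Points.ofPt (as i) ⁻¹' {x}).Finite := fun i => by
    obtain ⟨q, hq, -, hqc⟩ := hd x
    haveI := hUs i
    rw [← hq]
    exact finite_fibre_of_qc_point hqc (has i)
  have hcl : ∀ i, IsClosed (Points.ofPt (as i) ⁻¹' {x}) := fun i => by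
    refine (hfin i).isClosed_biUnion (f := fun v => ({v} : Set (Us i).left)) (fun v hv => ?_) |> fun h => by
      rwa [Set.biUnion_of_singleton] at h
    haveI := hUs i
    obtain ⟨W, wK, wV, sq⟩ := exists_isPullback_yon p (as i) (hX.representable_from_yon p)
    obtain ⟨b, hb⟩ := (yon S).map_surjective (as i ≫ r)
    have hW : wK = wV ≫ b := (yon S).map_injective (by
      rw [Functor.map_comp, hb, ← Category.assoc, ← sq.w, Category.assoc, hpr, Category.comp_id])
    obtain ⟨w, -, hw⟩ := (ofPt_eq_ofPt_iff sq t v).1 (Eq.symm hv)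
    haveI : Etale wK.left := etale_left (repWith_of_isPullback sq.flip (has i))
    haveI : LocallyQuasiFinite wK.left := locallyQuasiFinite_of_etale _
    let Kw := Spec (W.left.residueField w)
    haveI : Subsingleton Kw := inferInstanceAs (Subsingleton (PrimeSpectrum (W.left.residueField w)))
    haveI : Finite Kw := Finite.of_subsingleton
    haveI : IsLocallyArtinian W.left := .of_locallyQuasiFinite wK.left
    haveI : IsClosedImmersion (W.left.fromSpecResidueField w) :=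
      .of_isPreimmersion _ (by rw [W.left.range_fromSpecResidueField]; exact isClosed_discrete _)
    let h := W.left.fromSpecResidueField w ≫ wK.left
    haveI : LocallyQuasiFinite h := inferInstanceAs (LocallyQuasiFinite (_ ≫ _))
    haveI : QuasiCompact h := quasiCompact_of_finite _
    haveI : IsFinite h := IsFinite.of_locallyQuasiFinite h
    let g := W.left.fromSpecResidueField w ≫ wV.left
    haveI : IsSeparated b.left := IsSeparated.of_comp _ (terminal.from T.left)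
    haveI : UniversallyClosed (g ≫ b.left) := by
      have : g ≫ b.left = h := by
        simp only [g, h, hW, Category.assoc, Over.comp_left]
      rw [this]; infer_instance
    haveI : UniversallyClosed g := .of_comp_of_isSeparated g b.left
    have hrg : Set.range g = {v} := by
      simp only [g, Scheme.Hom.comp_base, TopCat.coe_comp, Set.range_comp, W.left.range_fromSpecResidueField,
        Set.image_singleton, hw]
    rw [← hrg]
    exact g.isClosedMap.isClosed_range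
  refine isOpen_compl_iff.1 (isOpen_iff_forall_mem_open.2 fun y hy => ?_)
  obtain ⟨i, hi⟩ := hcov y
  rw [← range_ofPt] at hi
  obtain ⟨v, rfl⟩ := hi
  refine ⟨Points.ofPt (as i) '' (Points.ofPt (as i) ⁻¹' {x})ᶜ, ?_,
    isOpenMap_ofPt (has i) _ (hcl i).isOpen_compl, ⟨v, hy, rfl⟩⟩
  rintro _ ⟨z, hz, rfl⟩
  exact hz

variable {k : Type u} [Field k] {t : Spec (CommRingCat.of k) ⟶ S}

/-- Sections over a field of a decent space over it are determined by their point. -/
theorem eq_of_ofPt_eq_of_retraction {X : Sp S} (hX : IsAlgSpace X) (hd : IsDecent X)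
    (q₁ q₂ : (yon S).obj (Over.mk t) ⟶ X) (r : X ⟶ (yon S).obj (Over.mk t)) (h₁ : q₁ ≫ r = 𝟙 _)
    (h₂ : q₂ ≫ r = 𝟙 _) (t₀ : (Over.mk t).left) (e : Points.ofPt q₁ t₀ = Points.ofPt q₂ t₀) : q₁ = q₂ := by
  let T : Over S := Over.mk t
  obtain ⟨P, hP, hm, hq⟩ := hd (Points.ofPt q₁ t₀)
  haveI : Subsingleton T.left := inferInstanceAs (Subsingleton (PrimeSpectrum k))
  have hred : EtaleLocally (fun U => IsReduced U) ((yon _).obj T) :=
    ⟨T, 𝟙 _, repWith_id _ T, repWith_id _ T, inferInstanceAs (IsReduced (Spec (CommRingCat.of k)))⟩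
  have hpt : ∀ (q : (yon _).obj T ⟶ X), Points.ofPt q t₀ = Points.ofPt q₁ t₀ →
      ∀ y, Points.map q y = Points.ofPt q₁ t₀ := fun q hqt y => by
    obtain ⟨v, rfl⟩ := (Points.schemeHomeo T).surjective y
    rw [Subsingleton.elim v t₀, ← hqt]
    exact Points.map_ofPt _ _ _ |>.trans (by rw [Category.id_comp])
  obtain ⟨g₁, hg₁⟩ := exists_factor_point hX (IsAlgSpace.yon_obj T) hP hm hq hred (hpt q₁ rfl)
  obtain ⟨g₂, hg₂⟩ := exists_factor_point hX (IsAlgSpace.yon_obj T) hP hm hq hred (hpt q₂ e.symm)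
  obtain ⟨a₁, rfl⟩ := (yon _).map_surjective g₁
  obtain ⟨a₂, rfl⟩ := (yon _).map_surjective g₂
  obtain ⟨c, hc⟩ := (yon S).map_surjective (P.toHom ≫ r)
  have ha₁ : a₁ ≫ c = 𝟙 T := (yon S).map_injective (by
    rw [Functor.map_comp, hc, ← Category.assoc, hg₁, h₁, CategoryTheory.Functor.map_id])
  have ha₂ : a₂ ≫ c = 𝟙 T := (yon S).map_injective (by
    rw [Functor.map_comp, hc, ← Category.assoc, hg₂, h₂, CategoryTheory.Functor.map_id])
  obtain ⟨φ₁, hφ₁⟩ := Spec.map_surjective a₁.left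
  obtain ⟨φ₂, hφ₂⟩ := Spec.map_surjective a₂.left
  obtain ⟨ι, hι⟩ := Spec.map_surjective c.left
  have hφ : ∀ (a : T ⟶ P.pt) (φ : CommRingCat.of P.K ⟶ CommRingCat.of k), Spec.map φ = a.left → a ≫ c = 𝟙 T →
      ι ≫ φ = 𝟙 _ := fun a φ hφa hac => Spec.map_injective (by
    rw [Spec.map_comp, hφa, hι, Spec.map_id]
    exact congrArg CommaMorphism.left hac)
  have h1 := hφ a₁ φ₁ hφ₁ ha₁
  have h2 := hφ a₂ φ₂ hφ₂ ha₂
  have hsurj : Function.Surjective ι.hom := fun y => ⟨φ₁.hom y, RingHom.injective φ₁.hom (by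
    exact congrArg (fun f => (ConcreteCategory.hom f) (φ₁.hom y)) h1)⟩
  have : φ₁ = φ₂ := CommRingCat.hom_ext (RingHom.ext fun y => by
    obtain ⟨x, rfl⟩ := hsurj y
    exact (congrArg (fun f => (ConcreteCategory.hom f) x) h1).trans
      (congrArg (fun f => (ConcreteCategory.hom f) x) h2).symm)
  have ha : a₁ = a₂ := Over.OverMorphism.ext (by rw [← hφ₁, ← hφ₂, this])
  rw [← hg₁, ← hg₂, ha]

variable {𝒳 : AlgSt.Cat S} [IsFibGrpd 𝒳.p] {M : AlgSp.Sp S} {π : 𝒳 ⥤ᵇ AlgSt.ofSp M}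
  (τ : 𝒳 ⥤ᵇ AlgSt.ofSch (Over.mk (𝟙 S)))

/-- The map of a point to the terminal scheme. -/
def toTerm (t : Spec (CommRingCat.of k) ⟶ S) : (yon S).obj (Over.mk t) ⟶ (yon S).obj (Over.mk (𝟙 S)) :=
  (yon S).map (Over.homMk t (Category.comp_id t) : Over.mk t ⟶ Over.mk (𝟙 S))

instance subsingleton_sec_term (R : Over S) : Subsingleton (((yon S).obj (Over.mk (𝟙 S))).obj.obj (op R)) :=
  ⟨fun a b => ULift.ext _ _ (Over.OverMorphism.ext (by
    have ha : a.down.left ≫ 𝟙 S = R.hom := Over.w a.down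
    have hb : b.down.left ≫ 𝟙 S = R.hom := Over.w b.down
    simpa using ha.trans hb.symm))⟩

set_option maxHeartbeats 6400000 in
/-- Geometric points have the same image iff their closures meet after base change to the field. -/
theorem comp_eq_iff_closure_inter_baseChange [QuasiSeparatedSpace S] (h𝒳 : AlgSt.IsAlgStack Scheme.fppfPrecoverage 𝒳)
    (hM : IsAlgSpace M) (hMs : IsQuasiSeparatedSp M) (hQ : QcProd M)
    (hqc : AlgSt.IsQuasiCompactMor Scheme.fppfPrecoverage π) (hqs : AlgSt.IsQuasiSeparatedMor π)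
    (h : StMod.IsGoodModuli π) (x₁ x₂ : overCat (Over.mk t) ⥤ᵇ 𝒳)
    (e₁ : BasedFunctor.comp x₁ τ ≅ BasedFunctor.comp (AlgSt.ofOverCat (Over.mk t)) (AlgSt.ofSpMap (toTerm t)))
    (e₂ : BasedFunctor.comp x₂ τ ≅ BasedFunctor.comp (AlgSt.ofOverCat (Over.mk t)) (AlgSt.ofSpMap (toTerm t)))
    (t₀ : (Over.mk t).left) :
    BasedFunctor.comp x₁ π = BasedFunctor.comp x₂ π ↔
      (closure {AlgSt.Points.ofChart (fpLift x₁ (AlgSt.ofOverCat (Over.mk t)) e₁) t₀} ∩
        closure {AlgSt.Points.ofChart (fpLift x₂ (AlgSt.ofOverCat (Over.mk t)) e₂) t₀}).Nonempty := by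
  haveI hB : IsFibGrpd (AlgSt.ofSp M).p := Stk.isFibGrpd_ofPsh _
  let T : Over S := Over.mk t
  haveI : IsAffine T.left := inferInstanceAs (IsAffine (Spec (CommRingCat.of k)))
  haveI : Subsingleton T.left := inferInstanceAs (Subsingleton (PrimeSpectrum k))
  haveI : IsFibGrpd (AlgSt.ofSch T).p := Stk.isFibGrpd_ofPsh _
  haveI : IsFibGrpd (AlgSt.ofSch (Over.mk (𝟙 S))).p := Stk.isFibGrpd_ofPsh _
  let σ' : AlgSt.ofSch T ⥤ᵇ AlgSt.ofSch (Over.mk (𝟙 S)) := AlgSt.ofSpMap (toTerm t)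
  have hP := isAlgStack_fp' h𝒳 (isAlgStack_ofSch T) (isAlgStack_ofSch _) τ σ'
  haveI := AlgStLib.isFibGrpd_of_isAlgStack hP
  constructor
  · intro e
    by_contra hne
    obtain ⟨m, ⟨α⟩, -⟩ := exists_map_of_chart (BasedFunctor.comp x₁ π) t₀
    have hsec : ∀ (x : overCat T ⥤ᵇ 𝒳), BasedFunctor.comp x π = BasedFunctor.comp x₁ π → ∀ a : Over T,
        AlgStLib.secOf (BasedFunctor.comp (AlgSt.ofOverCat T) (AlgSt.ofSpMap m)) a =
          AlgStLib.secOf (BasedFunctor.comp x π) a := fun x hx a => by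
      rw [hx]
      exact (AlgStLib.secOf_iso α ⟨a.left, ⟨a.hom⟩⟩).symm
    obtain ⟨β₁⟩ := AlgStLib.nonempty_iso_of_sec (Φ := BasedFunctor.comp (AlgSt.ofOverCat T) (AlgSt.ofSpMap m))
      (Ψ := BasedFunctor.comp x₁ π) fun a => hsec x₁ rfl a
    obtain ⟨β₂⟩ := AlgStLib.nonempty_iso_of_sec (Φ := BasedFunctor.comp (AlgSt.ofOverCat T) (AlgSt.ofSpMap m))
      (Ψ := BasedFunctor.comp x₂ π) fun a => hsec x₂ e.symm a
    let F := fp (AlgSt.ofSpMap m) π
    have hA := isAlgStack_fp' (isAlgStack_ofSch T) h𝒳 (isAlgStack_ofSp hM) (AlgSt.ofSpMap m) π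
    haveI := AlgStLib.isFibGrpd_of_isAlgStack hA
    obtain ⟨γ⟩ := AlgStLib.nonempty_iso_of_sec
      (Φ := BasedFunctor.comp (fpSnd (AlgSt.ofSpMap m) π) τ) (Ψ := BasedFunctor.comp (fpFst (AlgSt.ofSpMap m) π) σ')
      fun a => (subsingleton_sec_term (S := S) _).elim _ _
    let G : F ⥤ᵇ fp τ σ' := fpLift (fpSnd (AlgSt.ofSpMap m) π) (fpFst (AlgSt.ofSpMap m) π) γ
    have hG : ∀ (x : overCat T ⥤ᵇ 𝒳) (β : BasedFunctor.comp (AlgSt.ofOverCat T) (AlgSt.ofSpMap m) ≅ BasedFunctor.comp x π)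
        (ε : BasedFunctor.comp x τ ≅ BasedFunctor.comp (AlgSt.ofOverCat T) σ'),
        AlgSt.Points.map G (AlgSt.Points.ofChart (fpLift (AlgSt.ofOverCat T) x β) t₀) =
          AlgSt.Points.ofChart (fpLift x (AlgSt.ofOverCat T) ε) t₀ := fun x β ε => by
      exact congrFun (AlgStLib.ofChart_congr (AlgStLib.fpIsoExtPsh (F := τ) (F' := σ')
        (BasedFunctor.comp (fpLift (AlgSt.ofOverCat T) x β) G)
        (fpLift x (AlgSt.ofOverCat T) ε) (Iso.refl _) (Iso.refl _))) t₀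
    let π' := fpFst (AlgSt.ofSpMap m) π
    have hcont := AlgStLib.continuous_map hP.atlas G
    refine map_ne_of_disjoint hA (IsAlgSpace.yon_obj T) (StPushLib.qcProd_sch T)
      (AlgStLib.isQcM_fpFst h𝒳 (isAlgStack_ofSp hM) (isAlgStack_ofSch T) (AlgSt.ofSpMap m) hqc)
      (AlgStLib.repByAlgSpWith_diag_fpFst π (AlgSt.ofSpMap m) hqs)
      (π := π') ⟨StPushLib.isCohAffine_fpFst (g := m) (π := π) h𝒳 hM hQ hqc hqs h.1,
        unitIsIso_fpFst h𝒳 hM hQ hqc hqs h⟩
      (isClosed_closure.preimage hcont) (isClosed_closure.preimage hcont)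
      ((Set.disjoint_iff_inter_eq_empty.2 (Set.not_nonempty_iff_eq_empty.1 hne)).preimage _)
      (c := AlgSt.Points.ofChart (fpLift (AlgSt.ofOverCat T) x₁ β₁) t₀)
      (d := AlgSt.Points.ofChart (fpLift (AlgSt.ofOverCat T) x₂ β₂) t₀)
      (Set.mem_preimage.2 ((hG x₁ β₁ e₁) ▸ subset_closure rfl))
      (Set.mem_preimage.2 ((hG x₂ β₂ e₂) ▸ subset_closure rfl)) rfl
  · rintro ⟨p, hp1, hp2⟩
    let Q : Sp S := M ⨯ (yon S).obj T
    have hQs : IsAlgSpace Q := isAlgSpace_prod hM (IsAlgSpace.yon_obj T)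
    haveI : QuasiSeparatedSpace T.left := inferInstance
    have hQd : IsDecent Q := isDecent_of_isQuasiSeparatedSp hQs
      (repWith_diag_prod hMs (Groth.Agent.MonoPtLib.isQuasiSeparatedSp_yon T))
    let s : ∀ a : (fp τ σ').obj, (yon S).obj ((fp τ σ').p.obj a) ⟶ Q := fun a =>
      Limits.prod.lift (UnifModLib.σ (BasedFunctor.comp (fpFst τ σ') π) a) (UnifModLib.σ (fpSnd τ σ') a)
    let Θ := funOfSec s fun f => Limits.prod.hom_ext
      (by
        simp only [s, Category.assoc, Limits.prod.lift_fst]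
        exact UnifModLib.σ_nat (BasedFunctor.comp (fpFst τ σ') π) f)
      (by
        simp only [s, Category.assoc, Limits.prod.lift_snd]
        exact UnifModLib.σ_nat (fpSnd τ σ') f)
    obtain ⟨η₁⟩ := AlgStLib.nonempty_iso_of_sec (Φ := BasedFunctor.comp Θ (AlgSt.ofSpMap (prod.fst : Q ⟶ M)))
      (Ψ := BasedFunctor.comp (fpFst τ σ') π) fun a => by
      rw [AlgStLib.secOf_comp_map, secOf_funOfSec, ← yEq_comp, Limits.prod.lift_fst, UnifModLib.yEq_σ]
    obtain ⟨η₂⟩ := AlgStLib.nonempty_iso_of_sec (Φ := BasedFunctor.comp Θ (AlgSt.ofSpMap (prod.snd : Q ⟶ (yon S).obj T)))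
      (Ψ := fpSnd τ σ') fun a => by
      rw [AlgStLib.secOf_comp_map, secOf_funOfSec, ← yEq_comp, Limits.prod.lift_snd, UnifModLib.yEq_σ]
    have hcont := AlgStLib.continuous_map (AlgStLib.hasAtlas_ofSp hQs) Θ
    haveI : IsLocallyArtinian T.left := inferInstanceAs (IsLocallyArtinian (Spec (CommRingCat.of k)))
    have key : ∀ (x : overCat T ⥤ᵇ 𝒳) (ε : BasedFunctor.comp x τ ≅ BasedFunctor.comp (AlgSt.ofOverCat T) σ'),
        p ∈ closure {AlgSt.Points.ofChart (fpLift x (AlgSt.ofOverCat T) ε) t₀} →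
        ∃ q : (yon S).obj T ⟶ Q, q ≫ prod.snd = 𝟙 _ ∧
          AlgStLib.ptsEquiv Q (AlgSt.Points.map Θ p) = Points.ofPt q t₀ ∧
          Nonempty (BasedFunctor.comp (AlgSt.toOverCat T) (BasedFunctor.comp x π) ≅
            AlgSt.ofSpMap (q ≫ prod.fst)) := fun x ε hp => by
      obtain ⟨q, ⟨α⟩, eq⟩ := exists_map_of_chart (BasedFunctor.comp (fpLift x (AlgSt.ofOverCat T) ε) Θ) t₀
      have hq : ∀ {N : Sp S} (f : Q ⟶ N) (a : (AlgSt.ofSch T).obj),
          f.hom.app _ (q.hom.app _ a.sec) = f.hom.app _ (AlgStLib.secOf (BasedFunctor.comp (AlgSt.toOverCat T)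
            (BasedFunctor.comp (fpLift x (AlgSt.ofOverCat T) ε) Θ)) a) := fun f a => by
        rw [AlgStLib.secOf_iso α a, AlgStLib.secOf_ofPshMap]
        rfl
      have h2 : q ≫ prod.snd = 𝟙 _ := by
        refine yEq.injective ?_
        rw [yEq_comp]
        refine Eq.trans (hq prod.snd ⟨T, ⟨𝟙 T⟩⟩) ?_
        rw [← AlgStLib.secOf_comp_map]
        exact AlgStLib.secOf_iso (whiskerLeftIso' (BasedFunctor.comp (AlgSt.toOverCat T)
          (fpLift x (AlgSt.ofOverCat T) ε)) η₂) ⟨T, ⟨𝟙 T⟩⟩ |>.trans (AlgStLib.secOf_id _)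
      refine ⟨q, h2, ?_, AlgStLib.nonempty_iso_of_sec fun a => ?_⟩
      · have h1 := image_closure_subset_closure_image ((AlgStLib.ptsHomeo hQs).continuous.comp hcont) ⟨p, hp, rfl⟩
        rw [Set.image_singleton] at h1
        have h3 : (⇑(AlgStLib.ptsHomeo hQs) ∘ AlgSt.Points.map Θ)
            (AlgSt.Points.ofChart (fpLift x (AlgSt.ofOverCat T) ε) t₀) = Points.ofPt q t₀ := by
          show AlgStLib.ptsEquiv Q (AlgSt.Points.map Θ (AlgSt.Points.ofChart _ t₀)) = _
          rw [show AlgSt.Points.map Θ (AlgSt.Points.ofChart (fpLift x (AlgSt.ofOverCat T) ε) t₀) =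
            AlgSt.Points.ofChart (BasedFunctor.comp (fpLift x (AlgSt.ofOverCat T) ε) Θ) t₀ from rfl, eq,
            Equiv.apply_symm_apply]
        rw [h3, (isClosed_singleton_of_retraction hQs hQd q prod.snd h2 t₀).closure_eq] at h1
        exact h1
      · rw [AlgStLib.secOf_ofPshMap]
        refine Eq.trans ?_ (hq prod.fst a).symm
        rw [← AlgStLib.secOf_comp_map]
        exact (AlgStLib.secOf_iso (whiskerLeftIso' (BasedFunctor.comp (AlgSt.toOverCat T)
          (fpLift x (AlgSt.ofOverCat T) ε)) η₁) a).symm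
    obtain ⟨q₁, r₁, p₁, ⟨α₁⟩⟩ := key x₁ e₁ hp1
    obtain ⟨q₂, r₂, p₂, ⟨α₂⟩⟩ := key x₂ e₂ hp2
    have hq : q₁ = q₂ := eq_of_ofPt_eq_of_retraction hQs hQd q₁ q₂ prod.snd r₁ r₂ t₀ (p₁.symm.trans p₂)
    subst hq
    exact eq_of_iso_toOverCat _ _ (α₁ ≪≫ α₂.symm)

end CohAffMorLib.UnitBC
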