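import Groth.Agent.CohAffMorLib.UnitBC.Key
import Groth.Agent.SquareLib.FlatNormal

/-!
# Invariant functions modulo systems of ideals
-/

set_option autoImplicit false
set_option linter.style.haveILetI false
set_option backward.isDefEq.respectTransparency false
set_option backward.isDefEq.respectTransparency.types false
set_option maxHeartbeats 1600000

universe u

open CategoryTheory CategoryTheory.Limits AlgebraicGeometry AlgSp FibCat FibLib Opposite StMod GenDescLib
open StPushLib (ModSys SysMod FlatSys memObj exists_sysMod isSurj_of_members QcProd)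
open CohAffLib (hs hs_one oneSec pull_hs mapTop_oneSec mapTop_comapFst ofFamily)
open scoped TensorProduct

noncomputable section

namespace CohAffMorLib.UnitBC

variable {S : Scheme.{u}} {𝒳 : AlgSt.Cat S} {M : AlgSp.Sp S} {π : 𝒳 ⥤ᵇ AlgSt.ofSp M} {ν : (AlgSt.ofSp M).obj}
  {Mem : (fibCat π ν).obj → Prop}

/-- Ideals on the members, compatible with restriction and base change along flat maps. -/
structure IdealSys (Mem : (fibCat π ν).obj → Prop) where
  /-- the ideals -/
  I : ∀ z : {z // Mem z}, Ideal (Fun (memObj z))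
  res_mem : ∀ {z' z : {z // Mem z}} (l : memObj z' ⟶ memObj z) {a : Fun (memObj z)}, a ∈ I z → rho l a ∈ I z'
  flat : ∀ {z' z : {z // Mem z}} (l : memObj z' ⟶ memObj z), Flat (bmap (fibCat π ν) l) →
    I z' ≤ (I z).map (rho l)

/-- The quotients by a system of ideals. -/
def IdealSys.quotSys (J : IdealSys Mem) : ModSys Mem where
  N z := ULift.{u + 1} (Fun (memObj z) ⧸ J.I z)
  grp _ := inferInstance
  mod _ := inferInstance
  rs {z' z} l := AddMonoidHom.mk'
    (fun t => ULift.up (Ideal.quotientMap (J.I z') (rho l).toRingHom (fun _ ha => J.res_mem l ha) t.down))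
    fun s t => ULift.ext _ _ (map_add _ s.down t.down)

theorem IdealSys.quotSys_good (J : IdealSys Mem) (hMem : FlatSys Mem) : J.quotSys.Good where
  small _ := inferInstanceAs (Small.{u} (ULift.{u + 1} _))
  rs_smul l a t := ULift.ext _ _ (by
    obtain ⟨t⟩ := t
    obtain ⟨t, rfl⟩ := Ideal.Quotient.mk_surjective t
    show Ideal.quotientMap _ _ _ (Ideal.Quotient.mk _ (a * t)) = Ideal.Quotient.mk _ (_ * _)
    rw [Ideal.quotientMap_mk]
    exact congrArg (Ideal.Quotient.mk _) (map_mul (rho l) a t))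
  rs_id z t := ULift.ext _ _ (by
    obtain ⟨t⟩ := t
    obtain ⟨t, rfl⟩ := Ideal.Quotient.mk_surjective t
    show Ideal.quotientMap _ _ _ (Ideal.Quotient.mk _ t) = _
    rw [Ideal.quotientMap_mk]
    refine congrArg (Ideal.Quotient.mk _) ?_
    show (bmap (fibCat π ν) (𝟙 _)).appTop t = t
    rw [bmap_id]; rfl)
  rs_comp l' l t := ULift.ext _ _ (by
    obtain ⟨t⟩ := t
    obtain ⟨t, rfl⟩ := Ideal.Quotient.mk_surjective t
    show Ideal.quotientMap _ _ _ (Ideal.Quotient.mk _ t) =
      Ideal.quotientMap _ _ _ (Ideal.quotientMap _ _ _ (Ideal.Quotient.mk _ t))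
    rw [Ideal.quotientMap_mk, Ideal.quotientMap_mk, Ideal.quotientMap_mk]
    refine congrArg (Ideal.Quotient.mk _) ?_
    show (bmap (fibCat π ν) (l' ≫ l)).appTop t = (bmap (fibCat π ν) l').appTop ((bmap (fibCat π ν) l).appTop t)
    rw [bmap_comp, Scheme.Hom.comp_appTop]; rfl)
  flat := by
    intro z' z l hl _ _ _ halg β hβ
    have hsurj : ∀ t, ∃ x, β.liftBaseChange (Fun (memObj z')) x = t := fun t => by
      obtain ⟨t⟩ := t
      obtain ⟨t, rfl⟩ := Ideal.Quotient.mk_surjective t
      refine ⟨t ⊗ₜ ULift.up (Ideal.Quotient.mk _ 1), ?_⟩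
      rw [LinearMap.liftBaseChange_tmul, hβ]
      refine ULift.ext _ _ ?_
      show t • Ideal.quotientMap _ _ _ (Ideal.Quotient.mk _ 1) = _
      rw [Ideal.quotientMap_mk, map_one]
      exact congrArg (Ideal.Quotient.mk _) (mul_one t)
    refine ⟨?_, hsurj⟩
    have hgen : ∀ x : Fun (memObj z') ⊗[Fun (memObj z)] J.quotSys.N z,
        ∃ a : Fun (memObj z'), x = a ⊗ₜ ULift.up (Ideal.Quotient.mk _ 1) := fun x => by
      induction x using TensorProduct.induction_on with
      | zero => exact ⟨0, (TensorProduct.zero_tmul _ _).symm⟩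
      | tmul a t =>
        obtain ⟨t⟩ := t
        obtain ⟨t, rfl⟩ := Ideal.Quotient.mk_surjective t
        refine ⟨t • a, ?_⟩
        rw [TensorProduct.smul_tmul]
        exact congrArg (a ⊗ₜ ·) (ULift.ext _ _ (congrArg (Ideal.Quotient.mk _) (mul_one t).symm))
      | add x y hx hy =>
        obtain ⟨a, rfl⟩ := hx
        obtain ⟨b, rfl⟩ := hy
        exact ⟨a + b, (TensorProduct.add_tmul _ _ _).symm⟩
    refine (injective_iff_map_eq_zero (β.liftBaseChange (Fun (memObj z')))).2 fun x hx => ?_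
    obtain ⟨a, rfl⟩ := hgen x
    rw [LinearMap.liftBaseChange_tmul, hβ] at hx
    have hx' : a ∈ J.I z' := by
      have h2 : a • Ideal.quotientMap (J.I z') (rho l).toRingHom (fun _ ha => J.res_mem l ha)
          (Ideal.Quotient.mk _ 1) = 0 := congrArg ULift.down hx
      rw [Ideal.quotientMap_mk, map_one] at h2
      have h3 : Ideal.Quotient.mk (J.I z') (a * 1) = 0 := h2
      rwa [mul_one, Ideal.Quotient.eq_zero_iff_mem] at h3
    replace hx' := J.flat l hl hx'
    clear hx
    induction hx' using Submodule.span_induction with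
    | mem b hb =>
      obtain ⟨c, hc, rfl⟩ := hb
      have : (rho l) c = c • (1 : Fun (memObj z')) := by
        rw [Algebra.smul_def, mul_one, halg]; rfl
      rw [this, TensorProduct.smul_tmul]
      refine (congrArg ((1 : Fun (memObj z')) ⊗ₜ ·) (ULift.ext _ _ ?_)).trans (TensorProduct.tmul_zero _ _)
      show Ideal.Quotient.mk (J.I z) (c * 1) = 0
      rw [mul_one, Ideal.Quotient.eq_zero_iff_mem]
      exact hc
    | zero => exact TensorProduct.zero_tmul _ _
    | add a b _ _ ha hb => rw [TensorProduct.add_tmul, ha, hb, add_zero]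
    | smul c a _ ha => rw [← TensorProduct.smul_tmul', ha, smul_zero]

/-- The intersection of two systems of ideals. -/
def IdealSys.inf (J J' : IdealSys Mem) (hMem : FlatSys Mem) : IdealSys Mem where
  I z := J.I z ⊓ J'.I z
  res_mem l _ ha := ⟨J.res_mem l ha.1, J'.res_mem l ha.2⟩
  flat {z' z} l hl := by
    haveI : IsAffine (sch (fibCat π ν) (memObj z)) := hMem.aff _ z.2
    haveI : IsAffine (sch (fibCat π ν) (memObj z')) := hMem.aff _ z'.2
    letI := (bmap (fibCat π ν) l).appTop.hom.toAlgebra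
    haveI : Module.Flat (Fun (memObj z)) (Fun (memObj z')) :=
      RingHom.flat_algebraMap_iff.1 (HasRingHomProperty.appTop (P := @Flat) _ hl)
    refine le_trans (inf_le_inf (J.flat l hl) (J'.flat l hl)) ?_
    exact fun g hg => SquareLib.map_inf_of_flat (B := Fun (memObj z')) hg.1 hg.2

/-- The sum of two systems of ideals. -/
def IdealSys.sup (J J' : IdealSys Mem) : IdealSys Mem where
  I z := J.I z ⊔ J'.I z
  res_mem l a ha := by
    obtain ⟨i, hi, j, hj, rfl⟩ := Submodule.mem_sup.1 ha
    rw [map_add]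
    exact Submodule.add_mem_sup (J.res_mem l hi) (J'.res_mem l hj)
  flat l hl := by
    rw [Ideal.map_sup]
    exact sup_le_sup (J.flat l hl) (J'.flat l hl)

/-- The functions of the base lying in a system of ideals. -/
def IdealSys.base (J : IdealSys Mem) : Ideal (Base ν) :=
  ⨅ z, (J.I z).comap (fibBase (memObj z)).appTop.hom

theorem IdealSys.mem_base {J : IdealSys Mem} {a : Base ν} :
    a ∈ J.base ↔ ∀ z, (fibBase (memObj z)).appTop a ∈ J.I z := by
  simp [IdealSys.base]

variable [IsFibGrpd 𝒳.p]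

/-- Compatible classes modulo a system of ideals lift to functions of the base. -/
theorem exists_base_of_quot (h : StMod.IsCohAffine π) {Mem₀ : 𝒳.obj → Prop} (hMem₀ : FlatSys Mem₀) (hQ : QcProd M)
    (E : EtOver M) (hE : IsAffine E.obj.left.left) (hU : Function.Bijective (unitSect π (etaOf E)))
    {Mem : (fibCat π (etaOf E)).obj → Prop} (hM' : FlatSys Mem) (J : IdealSys Mem) (u : ∀ z : {z // Mem z}, Fun (memObj z))
    (hu : ∀ {z' z : {z // Mem z}} (l : memObj z' ⟶ memObj z), rho l (u z) - u z' ∈ J.I z') :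
    ∃ a : Base (etaOf E), ∀ z, (fibBase (memObj z)).appTop a - u z ∈ J.I z := by
  haveI hB : IsFibGrpd (AlgSt.ofSp M).p := Stk.isFibGrpd_ofPsh _
  let ν : (AlgSt.ofSp M).obj := etaOf E
  haveI : IsFibGrpd (fibCat π ν).p := StPushLib.isFibGrpd_fibCat π ν
  haveI : IsAffine ν.base.left := hE
  haveI : ∀ z : {z // Mem z}, IsAffine (sch (fibCat π ν) (memObj z)) := fun z => hM'.aff _ z.2
  obtain ⟨P⟩ := exists_sysMod hM' (J.quotSys_good hM')
  let one : ∀ z, J.quotSys.N z := fun z => ULift.up (Ideal.Quotient.mk _ 1)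
  let uv : ∀ z, J.quotSys.N z := fun z => ULift.up (Ideal.Quotient.mk _ (u z))
  obtain ⟨σ1, hσ1⟩ := exists_hom_of_values hM' P one fun l => ULift.ext _ _ (by
    show Ideal.quotientMap _ _ _ (Ideal.Quotient.mk _ 1) = _
    rw [Ideal.quotientMap_mk, map_one])
  obtain ⟨σu, hσu⟩ := exists_hom_of_values hM' P uv fun {z' z} l => ULift.ext _ _ (by
    show Ideal.quotientMap _ _ _ (Ideal.Quotient.mk _ (u z)) = _
    rw [Ideal.quotientMap_mk]
    exact Ideal.Quotient.eq.2 (hu l))
  have hval : ∀ (z : {z // Mem z}) (a : Fun (memObj z)),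
      (σ1.hom.app (memObj z)).app ⊤ (show Γ((O (fibCat π ν)).obj (memObj z), ⊤) from a) = P.ι z (a • one z) :=
    fun z a => by
    refine (congrArg ((σ1.hom.app (memObj z)).app ⊤) (oneSec_smul (memObj z) a).symm).trans ?_
    exact (QCohLib.app_smul (σ1.hom.app (memObj z)) ⊤ a _).trans
      ((congrArg (a • ·) (hσ1 z)).trans (P.smul z a (one z)).symm)
  have hsurj : Mod.IsSurj σ1.hom := isSurj_of_members σ1 hM' fun z hz y => by
    obtain ⟨t, rfl⟩ := (P.ι ⟨z, hz⟩).surjective y
    obtain ⟨t⟩ := t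
    obtain ⟨t, rfl⟩ := Ideal.Quotient.mk_surjective t
    exact ⟨t, (hval ⟨z, hz⟩ t).trans (congrArg (P.ι ⟨z, hz⟩) (ULift.ext _ _ (congrArg (Ideal.Quotient.mk _) (mul_one t))))⟩
  let s : ∀ v, Γ(P.G.obj.obj v, ⊤) := fun v => (σu.hom.app v).app ⊤ (oneSec v)
  have hs' : ∀ {v' v} (φ : v' ⟶ v), P.G.obj.mapTop φ (s v) = s v' := fun {v' v} φ =>
    (Mod.mapTop_app σu.hom φ _).trans (congrArg _ (mapTop_oneSec φ))
  obtain ⟨t, ht, htu⟩ := StPushLib.exists_lift_section h hMem₀ hQ E hE (η := ν) (𝟙 ν) (StPushLib.isFinPres_O _)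
    σ1 hsurj s hs'
  have hto : ∀ {v' v : (fibCat π ν).obj} (φ : v' ⟶ v), (O 𝒳).mapTop φ.left (t v) = t v' := fun {v' v} φ => by
    refine Eq.trans ?_ (ht φ)
    show _ = (O (fibCat π ν)).mapTop φ (t v)
    rw [O_mapTop, O_mapTop]
    rfl
  obtain ⟨a, ha⟩ := hU.2 (ofFamily (π := π) (η := ν) (F := O 𝒳) t fun φ =>
    (mapTop_comapFst (π := π) ν (O 𝒳) φ _).trans (hto φ))
  refine ⟨a, fun z => ?_⟩
  have hat : (fibBase (memObj z)).appTop a = t (memObj z) :=
    congrArg (fun T : (O 𝒳).RelSect π ν => T.1 (memObj z).left (memObj z).hom) ha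
  have h1 := htu (memObj z)
  rw [show s (memObj z) = P.ι z (uv z) from hσu z, ← hat] at h1
  rw [hval z] at h1
  have h2 : Ideal.Quotient.mk (J.I z) ((fibBase (memObj z)).appTop a * 1) = Ideal.Quotient.mk (J.I z) (u z) :=
    congrArg ULift.down ((P.ι z).injective h1)
  rw [mul_one] at h2
  exact Ideal.Quotient.eq.1 h2

/-- A function of the base in a sum of two systems of ideals splits over the base. -/
theorem base_sup (h : StMod.IsCohAffine π) {Mem₀ : 𝒳.obj → Prop} (hMem₀ : FlatSys Mem₀) (hQ : QcProd M)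
    (E : EtOver M) (hE : IsAffine E.obj.left.left) (hU : Function.Bijective (unitSect π (etaOf E)))
    {Mem : (fibCat π (etaOf E)).obj → Prop} (hM' : FlatSys Mem) (J J' : IdealSys Mem) :
    (J.sup J').base = J.base ⊔ J'.base := by
  refine le_antisymm (fun x hx => ?_) (sup_le (fun x hx => IdealSys.mem_base.2 fun z =>
    Submodule.mem_sup_left (IdealSys.mem_base.1 hx z)) fun x hx => IdealSys.mem_base.2 fun z =>
    Submodule.mem_sup_right (IdealSys.mem_base.1 hx z))
  choose i hi j hj hij using fun z => Submodule.mem_sup.1 (IdealSys.mem_base.1 hx z)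
  obtain ⟨a, ha⟩ := exists_base_of_quot h hMem₀ hQ E hE hU hM' (J.inf J' hM') i fun {z' z} l => by
    refine ⟨sub_mem (J.res_mem l (hi z)) (hi z'), ?_⟩
    have e1 : rho l (i z) + rho l (j z) = i z' + j z' := by
      rw [← map_add, hij, hij]
      exact (rho l).commutes x
    have : rho l (i z) - i z' = j z' - rho l (j z) := by linear_combination e1
    rw [this]
    exact sub_mem (hj z') (J'.res_mem l (hj z))
  refine Submodule.mem_sup.2 ⟨a, IdealSys.mem_base.2 fun z => ?_, x - a, IdealSys.mem_base.2 fun z => ?_, add_sub_cancel _ _⟩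
  · simpa using add_mem (ha z).1 (hi z)
  · have := sub_mem (hj z) (ha z).2
    rw [map_sub]
    convert this using 1
    linear_combination (-1 : Fun (memObj z)) * hij z

end CohAffMorLib.UnitBC
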