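import Groth.Agent.CohAffMorLib.UnitBC.Over
import Groth.Agent.CohAffMorLib.UnitDesc
import Groth.Agent.StPushLib.CohBC
import Groth.Agent.StPushLib.EtQc

/-!
# Good moduli spaces are stable under base change
-/

set_option autoImplicit false
set_option linter.style.haveILetI false
set_option backward.isDefEq.respectTransparency false
set_option backward.isDefEq.respectTransparency.types false
set_option maxHeartbeats 1600000

universe u

open CategoryTheory CategoryTheory.Limits AlgebraicGeometry AlgSp AlgSpLib FibCat FibLib Opposite StMod GenDescLib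
open StPushLib (FlatSys QcProd toM objLeft objLeftHom bcFib)
open scoped TensorProduct

noncomputable section

namespace CohAffMorLib.UnitBC

variable {S : Scheme.{u}} {𝒳 : AlgSt.Cat S} [IsFibGrpd 𝒳.p] {M : AlgSp.Sp S} {π : 𝒳 ⥤ᵇ AlgSt.ofSp M}

/-- The unit is bijective over every affine object. -/
theorem bijective_unitSect_affine (h𝒳 : AlgSt.IsAlgStack Scheme.fppfPrecoverage 𝒳) (hM : IsAlgSpace M)
    (hQ : QcProd M) (hqc : AlgSt.IsQuasiCompactMor Scheme.fppfPrecoverage π) (hqs : AlgSt.IsQuasiSeparatedMor π)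
    (h : StMod.IsGoodModuli π) (η : (AlgSt.ofSp M).obj) (hη : IsAffine η.base.left) :
    Function.Bijective (unitSect π η) := by
  haveI hB : IsFibGrpd (AlgSt.ofSp M).p := Stk.isFibGrpd_ofPsh _
  haveI : IsAffine (sch (AlgSt.ofSp M) η) := hη
  obtain ⟨U0, x, hx, hxs⟩ := h𝒳.atlas
  have hMem := StPushLib.flatSys_atlas x hx hxs
  obtain ⟨wη, rη, pη, qη, hwη, -, hWη⟩ := exists_chartData hqc hqs η
  haveI := hwη
  obtain ⟨U, b, hb, hbs⟩ := hM.atlas
  obtain ⟨W, p, q, sq⟩ := exists_isPullback_yon b (toM η) hb.rep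
  haveI : Etale q.left := hb.property _ _ _ sq
  haveI : Surjective q.left := hbs.property _ _ _ sq
  let J := Σ' (N : U.left.affineOpens), {V : W.left.affineOpens // V.1 ≤ p.left ⁻¹ᵁ N.1}
  let η' : J → (AlgSt.ofSp M).obj := fun j => objLeft η (j.2.1.1.ι ≫ q.left)
  let m : ∀ j, η' j ⟶ η := fun j => objLeftHom η (j.2.1.1.ι ≫ q.left)
  have haff : ∀ j, IsAffine (sch (AlgSt.ofSp M) (η' j)) := fun j => j.2.1.2
  refine bijective_unitSect_of_family hWη η' haff m (fun j => ?_) (fun t => ?_) fun j => ?_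
  · show Flat (j.2.1.1.ι ≫ q.left)
    infer_instance
  · obtain ⟨w, rfl⟩ := (Surjective.surj (f := q.left)) t
    obtain ⟨N, hN, hwN, -⟩ := exists_isAffineOpen_mem_and_subset (x := p.left w) (U := ⊤) trivial
    obtain ⟨V, hV, hwV, hVN⟩ := exists_isAffineOpen_mem_and_subset (x := w) (U := p.left ⁻¹ᵁ N) hwN
    exact ⟨⟨⟨N, hN⟩, ⟨V, hV⟩, hVN⟩, ⟨w, hwV⟩, rfl⟩
  · obtain ⟨N, V, hVN⟩ := j
    let NS : Over S := Over.mk (N.1.ι ≫ U.hom)
    let iN : NS ⟶ U := Over.homMk N.1.ι rfl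
    have het : RepWith @Etale ((yon S).map iN ≫ b) :=
      repWith_comp ((repWith_yon_map_iff (P := (@Etale : MorphismProperty Scheme.{u})) iN).2
        (inferInstance : Etale N.1.ι)) hb
    let EN : EtOver M := EtOver.mk ((yon S).map iN ≫ b) het
    let η1 := η' ⟨N, V, hVN⟩
    let iq : η1.base ⟶ η.base := (m ⟨N, V, hVN⟩).hom
    let ρ : η1.base ⟶ NS := Over.homMk (p.left.resLE N.1 V.1 hVN) (by
      show p.left.resLE N.1 V.1 hVN ≫ N.1.ι ≫ U.hom = (V.1.ι ≫ q.left) ≫ η.base.hom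
      rw [Scheme.Hom.resLE_comp_ι_assoc, Over.w p, Category.assoc]
      exact congrArg (V.1.ι ≫ ·) (Over.w q).symm)
    let iV : η1.base ⟶ W := Over.homMk V.1.ι (by
      show V.1.ι ≫ W.hom = (V.1.ι ≫ q.left) ≫ η.base.hom
      rw [Category.assoc]
      exact congrArg (V.1.ι ≫ ·) (Over.w q).symm)
    have e1 : iV ≫ q = iq := Over.OverMorphism.ext rfl
    have e2 : ρ ≫ iN = iV ≫ p := Over.OverMorphism.ext (Scheme.Hom.resLE_comp_ι _ _)
    let l : η1 ⟶ etaOf EN := ⟨ρ, by
      show M.obj.map ρ.op (etaOf EN).sec = η1.sec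
      refine (StPushLib.map_sec_eq (etaOf EN) ρ).trans (Eq.trans ?_
        ((StPushLib.map_sec_eq η iq).symm.trans (m ⟨N, V, hVN⟩).map_sec))
      rw [StPushLib.toM_etaOf]
      refine congrArg _ ?_
      show (yon S).map ρ ≫ (yon S).map iN ≫ b = (yon S).map iq ≫ toM η
      rw [← Category.assoc, ← Functor.map_comp, e2, ← e1, Functor.map_comp, Functor.map_comp, Category.assoc,
        Category.assoc, sq.w]⟩
    let ν : (AlgSt.ofSp M).obj := etaOf EN
    haveI hν : IsAffine (sch (AlgSt.ofSp M) ν) := N.2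
    haveI : IsAffine (sch (AlgSt.ofSp M) η1) := V.2
    obtain ⟨w0, r, pc, qc, hw0, hr, hW⟩ := exists_chartData hqc hqs ν
    haveI := hw0; haveI := hr
    have hU := h.2 EN
    refine bijective_unitSect_over l hW (fun T _ _ n x hx hxm => exists_smul_of_inv h.1 hMem hQ EN N.2 hU hW n x hx hxm)
      fun a a' e => hU.1 (TameStLib.relSect_ext_chart hW (OQ (𝒳 := 𝒳)) _ _ e)

variable {M' : AlgSp.Sp S} {g : M' ⟶ M} {et : (AlgSt.ofSp M').obj}

/-- Bijectivity of the unit passes to the base change. -/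
theorem bijective_unitSect_fpFst [IsFibGrpd (fp (AlgSt.ofSpMap g) π).p]
    (h : Function.Bijective (unitSect π ((AlgSt.ofSpMap g).obj et))) :
    Function.Bijective (unitSect (fpFst (AlgSt.ofSpMap g) π) et) := by
  let P := fpSnd (AlgSt.ofSpMap g) π
  let Q := fpFst (AlgSt.ofSpMap g) π
  let bo : ∀ (x : 𝒳.obj) (β : π.obj x ⟶ (AlgSt.ofSpMap g).obj et), (fp (AlgSt.ofSpMap g) π).obj :=
    fun x β => CohAffLib.bcPt g x β
  let bh : ∀ (x : 𝒳.obj) (β : π.obj x ⟶ (AlgSt.ofSpMap g).obj et), Q.obj (bo x β) ⟶ et :=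
    fun x β => CohAffLib.bcPtHom g x β
  have key : ∀ (a : Γ(et.base.left, ⊤)) (x : 𝒳.obj) (β : π.obj x ⟶ (AlgSt.ofSpMap g).obj et),
      (unitSect Q et a).1 (bo x β) (bh x β) = (eqToHom (sch_obj_eq P (bo x β)).symm).appTop
        ((unitSect π ((AlgSt.ofSpMap g).obj et) a).1 x β) := fun a x β => by
    show (baseOver Q (bo x β) (bh x β)).left.appTop a =
      (Scheme.Hom.appTop (eqToHom (sch_obj_eq P (bo x β)).symm)) ((baseOver π x β).left.appTop a)
    refine Eq.trans ?_ (CohAffMorLib.appTop_comp (eqToHom (sch_obj_eq P (bo x β)).symm) _ a).symm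
    refine congrArg (fun k : sch (fp (AlgSt.ofSpMap g) π) (bo x β) ⟶ et.base.left => k.appTop a) ?_
    have e : baseOver π x β = eqToHom (StPushLib.fpSnd_base g π (bo x β)) ≫ (bh x β).hom :=
      (congrArg (baseOver π x) (CohAffLib.bcPt_fac g x β)).symm.trans (baseOver_snd g (bo x β) (bh x β))
    rw [e, Over.comp_left, Over.eqToHom_left, ← Category.assoc, eqToHom_trans]
    show (eqToHom _ ≫ (bh x β).hom : _ ⟶ et.base).left = _
    rw [Over.comp_left, Over.eqToHom_left]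
  have hinj : ∀ (x : 𝒳.obj) (β : π.obj x ⟶ (AlgSt.ofSpMap g).obj et),
      Function.Injective (eqToHom (sch_obj_eq P (bo x β)).symm).appTop := fun x β =>
    (ConcreteCategory.bijective_of_isIso _).1
  refine ⟨fun a b e => h.1 (Mod.RelSect.ext _ _ _ fun x β => hinj x β ?_), fun s => ?_⟩
  · rw [← key, ← key, e]
  have hb : ∀ (x : 𝒳.obj) (β : π.obj x ⟶ (AlgSt.ofSpMap g).obj et),
      Function.Surjective (eqToHom (sch_obj_eq P (bo x β)).symm).appTop := fun x β =>
    (ConcreteCategory.bijective_of_isIso _).2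
  choose s0 hs0 using fun x β => hb x β (s.1 (bo x β) (bh x β))
  let s' : (O 𝒳).RelSect π ((AlgSt.ofSpMap g).obj et) := ⟨s0, fun x' x φ β => by
    let v' : (fibCat π ((AlgSt.ofSpMap g).obj et)).obj := CostructuredArrow.mk (S := π.toFunctor) (Y := x') (π.map φ ≫ β)
    let v : (fibCat π ((AlgSt.ofSpMap g).obj et)).obj := CostructuredArrow.mk (S := π.toFunctor) (Y := x) β
    let d := (bcFib g π et).map (CostructuredArrow.homMk φ rfl : v' ⟶ v)
    apply hinj x' (π.map φ ≫ β)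
    refine Eq.trans ?_ (hs0 x' _).symm
    have h1 : (O (fp (AlgSt.ofSpMap g) π)).mapTop d.left (s.1 (bo x β) (bh x β)) =
        s.1 (bo x' (π.map φ ≫ β)) (bh x' (π.map φ ≫ β)) :=
      (s.2 d.left (bh x β)).trans (congrArg (s.1 (bo x' (π.map φ ≫ β))) (CostructuredArrow.w d))
    rw [← h1, ← hs0 x β, O_mapTop, O_mapTop]
    refine (CohAffMorLib.appTop_comp _ _ _).trans (Eq.trans ?_ (CohAffMorLib.appTop_comp _ _ _).symm)
    refine congrArg (fun k : sch (fp (AlgSt.ofSpMap g) π) (bo x' (π.map φ ≫ β)) ⟶ sch 𝒳 x => k.appTop (s0 x β)) ?_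
    have hb : bmap 𝒳 φ ≫ eqToHom (sch_obj_eq P (bo x β)) = eqToHom (sch_obj_eq P (bo x' (π.map φ ≫ β))) ≫ bmap _ d.left :=
      bmap_map_comm P d.left rfl
    rw [← cancel_mono (eqToHom (sch_obj_eq P (bo x β))), Category.assoc, hb]
    simp
    exact (Category.comp_id _).symm⟩
  obtain ⟨a, ha⟩ := h.2 s'
  refine ⟨a, Mod.RelSect.ext _ _ _ fun z α => ?_⟩
  haveI := StPushLib.essSurj_bcFib g π et
  let y : (fibCat Q et).obj := CostructuredArrow.mk (S := Q.toFunctor) (Y := z) α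
  let v := (bcFib g π et).toFunctor.objPreimage y
  let i : (bcFib g π et).obj v ≅ y := (bcFib g π et).toFunctor.objObjPreimageIso y
  have hc : ∀ T : (O (fp (AlgSt.ofSpMap g) π)).RelSect Q et,
      (O (fp (AlgSt.ofSpMap g) π)).mapTop i.inv.left (T.1 ((bcFib g π et).obj v).left ((bcFib g π et).obj v).hom) =
        T.1 z α := fun T =>
    (T.2 i.inv.left ((bcFib g π et).obj v).hom).trans (congrArg (T.1 z) (CostructuredArrow.w i.inv))
  rw [← hc, ← hc s]
  refine congrArg _ ?_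
  show (unitSect Q et a).1 (bo v.left v.hom) (bh v.left v.hom) = s.1 (bo v.left v.hom) (bh v.left v.hom)
  rw [key, ← hs0]
  exact congrArg _ (congrArg (fun T : (O 𝒳).RelSect π ((AlgSt.ofSpMap g).obj et) => T.1 v.left v.hom) ha)

/-- The unit is an isomorphism after base change. -/
theorem unitIsIso_fpFst (h𝒳 : AlgSt.IsAlgStack Scheme.fppfPrecoverage 𝒳) (hM : IsAlgSpace M) (hQ : QcProd M)
    (hqc : AlgSt.IsQuasiCompactMor Scheme.fppfPrecoverage π) (hqs : AlgSt.IsQuasiSeparatedMor π)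
    [IsFibGrpd (fp (AlgSt.ofSpMap g) π).p] (h : StMod.IsGoodModuli π) :
    StMod.UnitIsIso (fpFst (AlgSt.ofSpMap g) π) := fun E =>
  TameStLib.bijective_unitSect_of_affine (fpFst (AlgSt.ofSpMap g) π)
    (fun et het => bijective_unitSect_fpFst
      (bijective_unitSect_affine h𝒳 hM hQ hqc hqs h ((AlgSt.ofSpMap g).obj et) het)) (etaOf E)

end CohAffMorLib.UnitBC
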