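import Groth.Agent.CohAffMorLib.UnitBC.Ideal
import Groth.Agent.CohAffMorLib.UnitBC.Main
import Groth.Agent.CohAffMorLib.UnitBC.Factor
import Groth.Agent.ChevLib.Basic
import Groth.Agent.UBddLib.Scheme
import Groth.Agent.QuotStLib.ToSpace

/-!
# Good moduli spaces are universal for maps to schemes
-/

set_option autoImplicit false
set_option linter.style.haveILetI false
set_option backward.isDefEq.respectTransparency false
set_option backward.isDefEq.respectTransparency.types false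
set_option maxHeartbeats 1600000

universe u

open CategoryTheory CategoryTheory.Limits AlgebraicGeometry AlgSp AlgSpLib FibCat FibLib Opposite StMod GenDescLib
open StPushLib (QcProd FlatSys memObj objLeft objLeftHom toM)

noncomputable section

namespace CohAffMorLib.UnitBC

variable {S : Scheme.{u}} {𝒳 : AlgSt.Cat S} {M : AlgSp.Sp S} {π : 𝒳 ⥤ᵇ AlgSt.ofSp M} {η : (AlgSt.ofSp M).obj}

/-- A compatible family of maps to an affine scheme comes from the base. -/
theorem existsUnique_hom_affine (hU : Function.Bijective (unitSect π η)) (V : Scheme.{u}) [IsAffine V]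
    (f : ∀ w, sch (fibCat π η) w ⟶ V) (hf : ∀ {w' w : (fibCat π η).obj} (φ : w' ⟶ w), bmap (fibCat π η) φ ≫ f w = f w') :
    ∃! g : sch (AlgSt.ofSp M) η ⟶ V, ∀ w, fibBase w ≫ g = f w := by
  let sec : Γ(V, ⊤) → (O 𝒳).RelSect π η := fun v =>
    ⟨fun ξ α => (f (CostructuredArrow.mk (S := π.toFunctor) (Y := ξ) α)).appTop v, fun {ξ' ξ} φ α => by
      refine (O_mapTop 𝒳 φ _).trans ?_
      exact (appTop_comp (bmap 𝒳 φ) (f (CostructuredArrow.mk (S := π.toFunctor) (Y := ξ) α)) v).trans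
        (congrArg (fun k => (Scheme.Hom.appTop k) v) (hf (w' := CostructuredArrow.mk (S := π.toFunctor) (Y := ξ') (π.map φ ≫ α))
          (w := CostructuredArrow.mk (S := π.toFunctor) (Y := ξ) α) (CostructuredArrow.homMk φ rfl)))⟩
  choose r hr using fun v => hU.2 (sec v)
  have hrv : ∀ (v : Γ(V, ⊤)) (w : (fibCat π η).obj), (fibBase w).appTop (r v) = (f w).appTop v := fun v w =>
    congrArg (fun s : (O 𝒳).RelSect π η => s.1 w.left w.hom) (hr v)
  have hext : ∀ a b : Γ(sch (AlgSt.ofSp M) η, ⊤), (∀ w : (fibCat π η).obj, (fibBase w).appTop a = (fibBase w).appTop b) →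
      a = b := fun a b e => hU.1 (Mod.RelSect.ext _ _ _ fun ξ α => e (CostructuredArrow.mk (S := π.toFunctor) (Y := ξ) α))
  let ρ : Γ(V, ⊤) →+* Γ(sch (AlgSt.ofSp M) η, ⊤) :=
    { toFun := r
      map_one' := hext _ _ fun w => by rw [hrv, map_one, map_one]
      map_mul' := fun a b => hext _ _ fun w => by rw [hrv, map_mul, map_mul, hrv, hrv]
      map_zero' := hext _ _ fun w => by rw [hrv, map_zero, map_zero]
      map_add' := fun a b => hext _ _ fun w => by rw [hrv, map_add, map_add, hrv, hrv] }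
  let g : sch (AlgSt.ofSp M) η ⟶ V := (sch (AlgSt.ofSp M) η).toSpecΓ ≫ Spec.map (CommRingCat.ofHom ρ) ≫ V.isoSpec.inv
  have hgtop : g.appTop = CommRingCat.ofHom ρ := by
    have h0 : V.isoSpec.inv.appTop ≫ V.toSpecΓ.appTop = 𝟙 _ := by
      rw [← Scheme.Hom.comp_appTop, Scheme.toSpecΓ_isoSpec_inv, Scheme.Hom.id_appTop]
    rw [Scheme.toSpecΓ_appTop] at h0
    simp only [g, Scheme.Hom.comp_appTop, Scheme.toSpecΓ_appTop, Category.assoc]
    rw [Scheme.ΓSpecIso_naturality, ← Category.assoc]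
    exact (congrArg (· ≫ CommRingCat.ofHom ρ) h0).trans (Category.id_comp _)
  refine ⟨g, fun w => ext_of_isAffine ?_, fun g' hg' => ext_of_isAffine ?_⟩
  · refine CommRingCat.hom_ext (RingHom.ext fun v => ?_)
    rw [Scheme.Hom.comp_appTop, hgtop]
    exact hrv v w
  · rw [hgtop]
    refine CommRingCat.hom_ext (RingHom.ext fun v => hext _ _ fun w => ?_)
    show (g'.appTop ≫ (fibBase w).appTop) v = _
    rw [← Scheme.Hom.comp_appTop, hg']
    exact (hrv v w).symm

/-- The restriction of a family to an object over the base. -/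
theorem fibBase_restrict {Y : Scheme.{u}} (g : Y ⟶ η.base.left) (w : (fibCat π (objLeft η g)).obj) :
    fibBase ((fibMap π (objLeftHom η g)).obj w) = fibBase w ≫ g :=
  fibBase_fibMap _ w

theorem bmap_fibMap {η' : (AlgSt.ofSp M).obj} (m : η' ⟶ η) {w' w : (fibCat π η').obj} (φ : w' ⟶ w) :
    bmap (fibCat π η) ((fibMap π m).map φ) = bmap (fibCat π η') φ := rfl

variable [IsFibGrpd 𝒳.p] [IsFibGrpd (AlgSt.ofSp M).p]
  (hU : ∀ η : (AlgSt.ofSp M).obj, IsAffine η.base.left → Function.Bijective (unitSect π η))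

include hU

/-- The objects over an affine object cover it. -/
theorem exists_point_over (η : (AlgSt.ofSp M).obj) (a : sch (AlgSt.ofSp M) η) :
    ∃ (w : (fibCat π η).obj) (s : sch (fibCat π η) w), fibBase w s = a := by
  let g : Spec ((sch (AlgSt.ofSp M) η).residueField a) ⟶ η.base.left := (sch (AlgSt.ofSp M) η).fromSpecResidueField a
  have hU' := hU (objLeft η g) (inferInstanceAs (IsAffine (Spec _)))
  obtain ⟨w, ⟨s⟩⟩ : ∃ w : (fibCat π (objLeft η g)).obj, Nonempty (sch (fibCat π (objLeft η g)) w) := by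
    by_contra hc
    push_neg at hc
    haveI : Nontrivial Γ(sch (AlgSt.ofSp M) (objLeft η g), ⊤) :=
      (Scheme.ΓSpecIso ((sch (AlgSt.ofSp M) η).residueField a)).commRingCatIsoToRingEquiv.toEquiv.nontrivial
    refine one_ne_zero (α := Γ(sch (AlgSt.ofSp M) (objLeft η g), ⊤)) (hU'.1 (Mod.RelSect.ext _ _ _ fun ξ α => ?_))
    haveI := hc (CostructuredArrow.mk (S := π.toFunctor) (Y := ξ) α)
    exact Subsingleton.elim (α := Γ(sch (fibCat π (objLeft η g))
      (CostructuredArrow.mk (S := π.toFunctor) (Y := ξ) α), ⊤)) _ _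
  refine ⟨(fibMap π (objLeftHom η g)).obj w, s, ?_⟩
  rw [fibBase_restrict g w]
  have h1 : ∀ q, g q = a := fun q => by
    exact ((sch (AlgSt.ofSp M) η).range_fromSpecResidueField a).subset (Set.mem_range_self q)
  exact h1 _

/-- Maps from the base to a scheme are determined by their composites. -/
theorem hom_sch_ext (η : (AlgSt.ofSp M).obj) [IsAffine η.base.left] {Z : Scheme.{u}}
    {g g' : sch (AlgSt.ofSp M) η ⟶ Z} (h : ∀ w : (fibCat π η).obj, fibBase w ≫ g = fibBase w ≫ g') : g = g' := by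
  haveI : IsAffine (sch (AlgSt.ofSp M) η) := ‹IsAffine η.base.left›
  have hpt : ∀ a, g a = g' a := fun a => by
    obtain ⟨w, s, rfl⟩ := exists_point_over hU η a
    rw [← Scheme.Hom.comp_apply, h w]
    rfl
  have hloc : ∀ a : sch (AlgSt.ofSp M) η, ∃ O : (sch (AlgSt.ofSp M) η).Opens, a ∈ O ∧ O.ι ≫ g = O.ι ≫ g' := fun a => by
    obtain ⟨V, hV, hVa, -⟩ := exists_isAffineOpen_mem_and_subset (x := g a) (U := ⊤) trivial
    obtain ⟨O, hO, haO, hOV⟩ := exists_isAffineOpen_mem_and_subset (x := a) (U := g ⁻¹ᵁ V) hVa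
    haveI : IsAffine O.toScheme := hO
    haveI : IsAffine V.toScheme := hV
    let η' := objLeft η O.ι
    have hg : Set.range (O.ι ≫ g) ⊆ Set.range V.ι := by
      rintro _ ⟨t, rfl⟩
      rw [Scheme.Opens.range_ι]
      exact hOV t.2
    have hg' : Set.range (O.ι ≫ g') ⊆ Set.range V.ι := by
      rintro _ ⟨t, rfl⟩
      rw [Scheme.Opens.range_ι, Scheme.Hom.comp_apply, ← hpt]
      exact hOV t.2
    let l := IsOpenImmersion.lift V.ι (O.ι ≫ g) hg
    let l' := IsOpenImmersion.lift V.ι (O.ι ≫ g') hg'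
    have hll : l = l' := by
      refine (existsUnique_hom_affine (hU η' (inferInstanceAs (IsAffine O.toScheme))) V.toScheme
        (fun w => fibBase w ≫ l) fun φ => by rw [← Category.assoc, bmap_fibBase]).unique (fun w => rfl) fun w => ?_
      rw [← cancel_mono V.ι]
      simp only [Category.assoc, l, l', IsOpenImmersion.lift_fac]
      have := h ((fibMap π (objLeftHom η O.ι)).obj w)
      rw [fibBase_restrict O.ι w, Category.assoc, Category.assoc] at this
      exact this.symm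
    refine ⟨O, haO, ?_⟩
    rw [← IsOpenImmersion.lift_fac V.ι (O.ι ≫ g) hg, ← IsOpenImmersion.lift_fac V.ι (O.ι ≫ g') hg']
    exact congrArg (· ≫ V.ι) hll
  choose O haO hO using hloc
  refine Scheme.Cover.hom_ext (Scheme.openCoverOfIsOpenCover (sch (AlgSt.ofSp M) η) O
    (TopologicalSpace.Opens.ext (Set.eq_univ_of_forall fun a => ?_))) _ _ hO
  simp only [TopologicalSpace.Opens.coe_iSup, Set.mem_iUnion]
  exact ⟨a, haO a⟩

omit hU in
/-- Sums of finitely many systems. -/
def IdealSys.supList {Mem : (fibCat π η).obj → Prop} : List (IdealSys Mem) → IdealSys Mem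
  | [] => ⟨fun _ => ⊥, fun {_ _} _ {a} ha => by rw [Submodule.mem_bot] at ha ⊢; rw [ha, map_zero],
      fun _ _ => bot_le⟩
  | J :: L => J.sup (IdealSys.supList L)

omit hU in
theorem IdealSys.le_supList {Mem : (fibCat π η).obj → Prop} {L : List (IdealSys Mem)} {J : IdealSys Mem}
    (h : J ∈ L) (z : {z // Mem z}) : J.I z ≤ (IdealSys.supList L).I z := by
  induction L with
  | nil => simp at h
  | cons a L ih =>
    rcases List.mem_cons.1 h with rfl | h
    · exact le_sup_left
    · exact (ih h).trans le_sup_right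

omit hU in
theorem supList_base_le (h : StMod.IsCohAffine π) {Mem₀ : 𝒳.obj → Prop} (hMem₀ : FlatSys Mem₀) (hQ : QcProd M)
    (E : EtOver M) (hE : IsAffine E.obj.left.left) (hUE : Function.Bijective (unitSect π (etaOf E)))
    {Mem : (fibCat π (etaOf E)).obj → Prop} (hM' : FlatSys Mem) {P : Ideal (Base (etaOf E))}
    (L : List (IdealSys Mem)) (hL : ∀ J ∈ L, J.base ≤ P) : (IdealSys.supList L).base ≤ P := by
  induction L with
  | nil =>
    intro a ha
    have : a = 0 := by
      refine hUE.1 (Mod.RelSect.ext _ _ _ fun ξ α => ?_)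
      haveI : IsFibGrpd (fibCat π (etaOf E)).p := StPushLib.isFibGrpd_fibCat π _
      let w : (fibCat π (etaOf E)).obj := CostructuredArrow.mk (S := π.toFunctor) (Y := ξ) α
      show (fibBase w).appTop a = (fibBase w).appTop 0
      obtain ⟨K, y', c, z, d, hz, hc⟩ := hM'.loc w
      rw [map_zero]
      haveI := hc.flat
      refine UBddLib.injective_appTop_family (fun k => bmap (fibCat π (etaOf E)) (c k)) hc.surj (funext fun k => ?_)
      have h1 : (fibBase (z k)).appTop a = 0 :=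
        Ideal.mem_bot.1 (IdealSys.mem_base.1 ha ⟨z k, hz k⟩)
      show (bmap (fibCat π (etaOf E)) (c k)).appTop ((fibBase w).appTop a) = (bmap (fibCat π (etaOf E)) (c k)).appTop 0
      rw [map_zero, appTop_comp, bmap_fibBase, ← bmap_fibBase (d k), ← appTop_comp, h1, map_zero]
    rw [this]
    exact zero_mem _
  | cons a L ih =>
    show (a.sup _).base ≤ P
    rw [base_sup h hMem₀ hQ E hE hUE hM']
    exact sup_le (hL a List.mem_cons_self) (ih fun J hJ => hL J (List.mem_cons_of_mem _ hJ))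

/-- A compatible family of maps to a scheme comes from an affine base etale over the target. -/
theorem existsUnique_hom_sch (h : StMod.IsCohAffine π) {Mem₀ : 𝒳.obj → Prop} (hMem₀ : FlatSys Mem₀) (hQ : QcProd M)
    (hqc : AlgSt.IsQuasiCompactMor Scheme.fppfPrecoverage π) (hqs : AlgSt.IsQuasiSeparatedMor π)
    (E : EtOver M) (hE : IsAffine E.obj.left.left) (Z : Scheme.{u})
    (f : ∀ w, sch (fibCat π (etaOf E)) w ⟶ Z)
    (hf : ∀ {w' w : (fibCat π (etaOf E)).obj} (φ : w' ⟶ w), bmap (fibCat π (etaOf E)) φ ≫ f w = f w') :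
    ∃! g : sch (AlgSt.ofSp M) (etaOf E) ⟶ Z, ∀ w, fibBase w ≫ g = f w := by
  let ν : (AlgSt.ofSp M).obj := etaOf E
  haveI : IsFibGrpd (fibCat π ν).p := StPushLib.isFibGrpd_fibCat π ν
  haveI : IsAffine ν.base.left := hE
  haveI : IsAffine (sch (AlgSt.ofSp M) ν) := hE
  have hν : RepWith @Etale (toM ν) := by rw [StPushLib.toM_etaOf]; exact E.property
  obtain ⟨w0, r, pc, qc, hw0, hr, hW⟩ := exists_chartData hqc hqs ν
  haveI := hw0
  let Mem : (fibCat π ν).obj → Prop := fun z => Mem₀ z.left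
  have hM' : FlatSys Mem := StPushLib.flatSys_fibCat π ν hν hMem₀
  haveI : ∀ z : {z // Mem z}, IsAffine (sch (fibCat π ν) (memObj z)) := fun z => hM'.aff _ z.2
  let comp : Z.affineOpens → Z.IdealSheafData := fun V =>
    Scheme.IdealSheafData.vanishingIdeal ⟨(V.1 : Set Z)ᶜ, V.1.2.isClosed_compl⟩
  let J : Z.affineOpens → IdealSys Mem := fun V =>
    { I := fun z => ((comp V).comap (f (memObj z))).ideal ⟨⊤, isAffineOpen_top _⟩
      res_mem := fun {z' z} l a ha => by
        have := Ideal.mem_map_of_mem (bmap (fibCat π ν) l).appTop.hom ha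
        rw [← ChevLib.ideal_comap_top_of_isAffine, ← Scheme.IdealSheafData.comap_comp, hf l] at this
        exact this
      flat := fun {z' z} l _ => by
        show _ ≤ Ideal.map (bmap (fibCat π ν) l).appTop.hom _
        rw [← ChevLib.ideal_comap_top_of_isAffine, ← Scheme.IdealSheafData.comap_comp, hf l] }
  have hJ : ∀ (V : Z.affineOpens) (z : {z // Mem z}) (s : sch (fibCat π ν) (memObj z)),
      f (memObj z) s ∈ V.1 ↔ ∃ a ∈ (J V).I z, s ∈ (sch (fibCat π ν) (memObj z)).basicOpen a := fun V z s => by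
    have h1 : s ∈ ((comp V).comap (f (memObj z))).support ↔ f (memObj z) s ∉ V.1 := by
      rw [Scheme.IdealSheafData.support_comap]
      show f (memObj z) s ∈ ((comp V).support : Set Z) ↔ _
      rw [Scheme.IdealSheafData.coe_support_vanishingIdeal]
      rfl
    rw [Scheme.IdealSheafData.mem_support_iff_of_mem (U := ⟨⊤, isAffineOpen_top _⟩) trivial] at h1
    rw [← not_iff_not, ← h1, Scheme.mem_zeroLocus_iff]
    push_neg
    rfl
  have hcov : ∀ P : PrimeSpectrum (Base ν), ∃ V : Z.affineOpens, ¬((J V).base ≤ P.asIdeal) := fun P => by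
    by_contra hc
    push_neg at hc
    obtain ⟨t, ht⟩ := isCompact_univ.elim_finite_subcover
      (fun V : Z.affineOpens => ((f w0 ⁻¹ᵁ V.1 : (sch (fibCat π ν) w0).Opens) : Set (sch (fibCat π ν) w0)))
      (fun V => (f w0 ⁻¹ᵁ V.1).2) fun s _ => by
        obtain ⟨V, hV, hVa, -⟩ := exists_isAffineOpen_mem_and_subset (x := f w0 s) (U := ⊤) trivial
        refine Set.mem_iUnion.2 ⟨(⟨V, hV⟩ : Z.affineOpens), ?_⟩
        exact hVa
    refine P.isPrime.ne_top ((Ideal.eq_top_iff_one _).2 (supList_base_le h hMem₀ hQ E hE (hU ν hE) hM'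
      (t.toList.map J) (fun K hK => ?_) (IdealSys.mem_base.2 fun z => ?_)))
    · obtain ⟨V, -, rfl⟩ := List.mem_map.1 hK
      exact hc V
    rw [map_one, ← Ideal.eq_top_iff_one]
    by_contra htop
    obtain ⟨m, hm, hle⟩ := Ideal.exists_le_maximal _ htop
    let s : sch (fibCat π ν) (memObj z) := (isAffineOpen_top _).fromSpec ⟨m, hm.isPrime⟩
    obtain ⟨x', c, d, hcf, hcs, -⟩ := hW.cov (memObj z)
    obtain ⟨s', hs'⟩ := hcs.surj s
    obtain ⟨V, hVt, hV⟩ := Set.mem_iUnion₂.1 (ht (Set.mem_univ (bmap (fibCat π ν) d s')))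
    have hsV : f (memObj z) s ∈ V.1 := by
      rw [← hs', ← Scheme.Hom.comp_apply, hf c, ← hf d]
      exact hV
    obtain ⟨a, ha, hsa⟩ := (hJ V z s).1 hsV
    have ham : a ∈ m := hle (IdealSys.le_supList (List.mem_map_of_mem (Finset.mem_toList.2 hVt)) z ha)
    have : (⟨m, hm.isPrime⟩ : PrimeSpectrum _) ∈ (isAffineOpen_top _).fromSpec ⁻¹ᵁ (sch (fibCat π ν) (memObj z)).basicOpen a := hsa
    rw [IsAffineOpen.fromSpec_preimage_basicOpen] at this
    exact this ham
  choose V hV using hcov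
  choose a haJ haP using fun P => SetLike.not_le_iff_exists.1 (hV P)
  let O : PrimeSpectrum (Base ν) → (sch (AlgSt.ofSp M) ν).Opens := fun P => (sch (AlgSt.ofSp M) ν).basicOpen (a P)
  have hO : TopologicalSpace.IsOpenCover O := by
    refine TopologicalSpace.Opens.ext (Set.eq_univ_of_forall fun x => ?_)
    obtain ⟨P, rfl⟩ : x ∈ Set.range (isAffineOpen_top (sch (AlgSt.ofSp M) ν)).fromSpec := by
      rw [IsAffineOpen.range_fromSpec]; trivial
    simp only [TopologicalSpace.Opens.coe_iSup, Set.mem_iUnion]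
    refine ⟨P, ?_⟩
    show P ∈ (isAffineOpen_top (sch (AlgSt.ofSp M) ν)).fromSpec ⁻¹ᵁ O P
    rw [IsAffineOpen.fromSpec_preimage_basicOpen]
    exact haP P
  have haff : ∀ P, IsAffine (objLeft ν (O P).ι).base.left := fun P => (isAffineOpen_top _).basicOpen (a P)
  haveI : ∀ P, IsAffine (V P).1.toScheme := fun P => (V P).2
  have hland : ∀ P (w : (fibCat π (objLeft ν (O P).ι)).obj),
      Set.range (f ((fibMap π (objLeftHom ν (O P).ι)).obj w)) ⊆ Set.range (V P).1.ι := fun P w => by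
    rintro _ ⟨s, rfl⟩
    rw [Scheme.Opens.range_ι]
    obtain ⟨K, y', c, z, d, hz, hc⟩ := hM'.loc ((fibMap π (objLeftHom ν (O P).ι)).obj w)
    obtain ⟨k, s', rfl⟩ := hc.surj s
    rw [← Scheme.Hom.comp_apply, hf (c k), ← hf (d k)]
    refine (hJ (V P) ⟨z k, hz k⟩ _).2 ⟨(fibBase (z k)).appTop (a P), IdealSys.mem_base.1 (haJ P) ⟨z k, hz k⟩, ?_⟩
    show bmap (fibCat π ν) (d k) s' ∈ (sch (fibCat π ν) (z k)).basicOpen ((fibBase (z k)).appTop (a P))
    rw [← Scheme.preimage_basicOpen_top]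
    show fibBase (z k) (bmap (fibCat π ν) (d k) s') ∈ O P
    rw [← Scheme.Hom.comp_apply, bmap_fibBase, ← bmap_fibBase (c k), fibBase_restrict (η := ν)]
    exact (fibBase w _).2
  let fP : ∀ P (w : (fibCat π (objLeft ν (O P).ι)).obj), sch _ w ⟶ (V P).1.toScheme := fun P w =>
    IsOpenImmersion.lift (V P).1.ι (f ((fibMap π (objLeftHom ν (O P).ι)).obj w)) (hland P w)
  choose gP hgP using fun P => (existsUnique_hom_affine (hU _ (haff P)) _ (fP P) fun {w' w} φ => by
    rw [← cancel_mono (V P).1.ι, Category.assoc]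
    simp only [fP, IsOpenImmersion.lift_fac]
    exact hf ((fibMap π (objLeftHom ν (O P).ι)).map φ)).exists
  have hgP' : ∀ P (w : (fibCat π (objLeft ν (O P).ι)).obj),
      fibBase w ≫ gP P ≫ (V P).1.ι = f ((fibMap π (objLeftHom ν (O P).ι)).obj w) := fun P w => by
    rw [← Category.assoc, hgP P w, IsOpenImmersion.lift_fac]
  let 𝒰 := Scheme.openCoverOfIsOpenCover (sch (AlgSt.ofSp M) ν) O hO
  have hov : ∀ P Q, pullback.fst (O P).ι (O Q).ι ≫ gP P ≫ (V P).1.ι =
      pullback.snd (O P).ι (O Q).ι ≫ gP Q ≫ (V Q).1.ι := fun P Q => by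
    let j := pullback.fst (O P).ι (O Q).ι ≫ (O P).ι
    haveI : IsAffine (O P).toScheme := haff P
    haveI : IsAffine (O Q).toScheme := haff Q
    let η' := objLeft ν j
    haveI : IsAffine η'.base.left := inferInstanceAs (IsAffine (pullback (O P).ι (O Q).ι))
    refine hom_sch_ext hU η' fun w => ?_
    obtain ⟨ρ1, hρ1, hρ1'⟩ := StPushLib.exists_homLeft (objLeftHom ν (O P).ι) (objLeftHom ν j)
      (pullback.fst (O P).ι (O Q).ι) rfl
    obtain ⟨ρ2, hρ2, hρ2'⟩ := StPushLib.exists_homLeft (objLeftHom ν (O Q).ι) (objLeftHom ν j)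
      (pullback.snd (O P).ι (O Q).ι) pullback.condition.symm
    have e1 : fibBase w ≫ pullback.fst (O P).ι (O Q).ι = fibBase ((fibMap π ρ1).obj w) := by
      rw [fibBase_fibMap, ← hρ1']; rfl
    have e2 : fibBase w ≫ pullback.snd (O P).ι (O Q).ι = fibBase ((fibMap π ρ2).obj w) := by
      rw [fibBase_fibMap, ← hρ2']; rfl
    refine (Category.assoc _ _ _).symm.trans (Eq.trans ?_ (Category.assoc _ _ _))
    rw [e1, e2]
    refine ((hgP' P ((fibMap π ρ1).obj w)).trans ?_).trans (hgP' Q ((fibMap π ρ2).obj w)).symm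
    let φ : (fibMap π (objLeftHom ν (O P).ι)).obj ((fibMap π ρ1).obj w) ⟶
        (fibMap π (objLeftHom ν (O Q).ι)).obj ((fibMap π ρ2).obj w) := CostructuredArrow.homMk (𝟙 w.left) (by
      show π.map (𝟙 w.left) ≫ (w.hom ≫ ρ2) ≫ objLeftHom ν (O Q).ι = (w.hom ≫ ρ1) ≫ objLeftHom ν (O P).ι
      rw [π.toFunctor.map_id, Category.id_comp, Category.assoc, hρ2, Category.assoc, hρ1])
    have hb : bmap (fibCat π ν) φ = 𝟙 _ := bmap_id (𝒳 := 𝒳) w.left
    refine (hf φ).symm.trans ?_
    rw [hb]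
    exact Category.id_comp _
  let g := 𝒰.glueMorphisms (fun P => gP P ≫ (V P).1.ι) hov
  have hg : ∀ P, (O P).ι ≫ g = gP P ≫ (V P).1.ι := fun P => 𝒰.ι_glueMorphisms _ hov P
  have key : ∀ w, fibBase w ≫ g = f w := fun w => by
    refine Scheme.Cover.hom_ext (Scheme.openCoverOfIsOpenCover (sch (fibCat π ν) w) (fun P => fibBase w ⁻¹ᵁ O P)
      ?_) _ _ fun P => ?_
    · refine TopologicalSpace.Opens.ext (Set.eq_univ_of_forall fun s => ?_)
      have hs : fibBase w s ∈ (⨆ P, O P) := by rw [hO]; trivial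
      simpa using hs
    obtain ⟨z', e, m, hm⟩ := fib_lift (f := π) (η := ν) w _ (fibBase w ⁻¹ᵁ O P).ι
    obtain ⟨ρ, hρ, -⟩ := StPushLib.exists_homLeft (objLeftHom ν (O P).ι) z'.hom
      (eqToHom ((StMod.sch_obj_eq π z'.left).trans e) ≫ fibBase w ∣_ O P) (by
        rw [show z'.hom = π.map m.left ≫ w.hom from (CostructuredArrow.w m).symm]
        show (eqToHom _ ≫ fibBase w ∣_ O P) ≫ (O P).ι = bmap (AlgSt.ofSp M) (π.map m.left ≫ w.hom)
        rw [Category.assoc, morphismRestrict_ι, bmap_comp, StPushLib.bmap_map_eq]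
        rw [show bmap 𝒳 m.left = eqToHom e ≫ (fibBase w ⁻¹ᵁ O P).ι from hm]
        simp [fibBase, baseOver, Category.assoc, Over.eqToHom_left]
        try rfl)
    let w' : (fibCat π (objLeft ν (O P).ι)).obj := CostructuredArrow.mk (S := π.toFunctor) (Y := z'.left) ρ
    let m' : (fibMap π (objLeftHom ν (O P).ι)).obj w' ⟶ w := CostructuredArrow.homMk m.left (by
      show π.map m.left ≫ w.hom = ρ ≫ objLeftHom ν (O P).ι
      rw [hρ]
      exact CostructuredArrow.w m)
    have hm' : bmap (fibCat π ν) m' = eqToHom e ≫ (fibBase w ⁻¹ᵁ O P).ι := hm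
    have h1 := hgP' P w'
    rw [← hg P, ← Category.assoc, ← fibBase_restrict (η := ν), ← hf m', ← bmap_fibBase m', hm'] at h1
    show (fibBase w ⁻¹ᵁ O P).ι ≫ fibBase w ≫ g = (fibBase w ⁻¹ᵁ O P).ι ≫ f w
    refine (cancel_epi (eqToHom e)).1 ?_
    simp only [Category.assoc] at h1 ⊢
    exact h1
  exact ⟨g, key, fun g' hg' => hom_sch_ext hU ν fun w => (hg' w).trans (key w).symm⟩

end CohAffMorLib.UnitBC
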