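import Groth.Agent.CohAffMorLib.UnitBC.MapSch

/-!
# Good moduli spaces are universal for maps to schemes, main statement
-/

set_option autoImplicit false
set_option linter.style.haveILetI false
set_option backward.isDefEq.respectTransparency false
set_option backward.isDefEq.respectTransparency.types false
set_option maxHeartbeats 1600000

universe u

open CategoryTheory CategoryTheory.Limits AlgebraicGeometry AlgSp AlgSpLib AlgStLib FibCat FibLib Opposite StMod GenDescLib
open UnifModLib (σ σ_nat Eqn)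
open StPushLib (QcProd toM)

noncomputable section

namespace CohAffMorLib.UnitBC

variable {S : Scheme.{u}} {𝒳 : AlgSt.Cat S} {M : AlgSp.Sp S} {π : 𝒳 ⥤ᵇ AlgSt.ofSp M}

/-- The base of an object over an object, composed with its map to the space. -/
theorem baseOver_toM {ν : (AlgSt.ofSp M).obj} (w : (fibCat π ν).obj) :
    (yon S).map (baseOver π w.left w.hom) ≫ toM ν = σ π w.left := by
  refine (AlgSp.J S).uliftYonedaEquiv.injective ?_
  refine (StPushLib.map_sec_eq ν _).symm.trans (Eq.trans ?_ (UnifModLib.yEq_σ π w.left).symm)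
  have h := w.hom.map_sec
  show _ = M.obj.map _ (π.obj w.left).sec
  rw [← h, ← Functor.map_comp_apply, ← op_comp]
  rfl

/-- An object over an object from a map of bases. -/
theorem exists_over_baseOver {ν : (AlgSt.ofSp M).obj} (x : 𝒳.obj) (t : 𝒳.p.obj x ⟶ ν.base)
    (e : (yon S).map t ≫ toM ν = σ π x) :
    ∃ ρ : π.obj x ⟶ ν, baseOver π x ρ = t := by
  refine ⟨⟨eqToHom (π.w_obj x) ≫ t, ?_⟩, ?_⟩
  · have h1 := (StPushLib.map_sec_eq ν t).trans (congrArg (AlgSp.J S).uliftYonedaEquiv e)
    rw [op_comp, Functor.map_comp_apply, h1]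
    erw [UnifModLib.yEq_σ]
    show M.obj.map _ (M.obj.map _ (π.obj x).sec) = _
    rw [← Functor.map_comp_apply, ← op_comp, eqToHom_trans, eqToHom_refl, op_id]
    simp
  · show eqToHom _ ≫ eqToHom (π.w_obj x) ≫ t = t
    simp

variable [IsFibGrpd 𝒳.p]

/-- The good moduli space map is universal among maps to schemes. -/
theorem existsUnique_factor_sch (h𝒳 : AlgSt.IsAlgStack Scheme.fppfPrecoverage 𝒳) (hM : IsAlgSpace M) (hQ : QcProd M)
    (hqc : AlgSt.IsQuasiCompactMor Scheme.fppfPrecoverage π) (hqs : AlgSt.IsQuasiSeparatedMor π)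
    (h : StMod.IsGoodModuli π) (Z : Over S) (ψ : 𝒳 ⥤ᵇ AlgSt.ofSch Z) :
    ∃! g : M ⟶ (yon S).obj Z, BasedFunctor.comp π (AlgSt.ofSpMap g) = ψ := by
  haveI hB : IsFibGrpd (AlgSt.ofSp M).p := Stk.isFibGrpd_ofPsh _
  obtain ⟨U0, x, hx, hxs⟩ := h𝒳.atlas
  have hMem := StPushLib.flatSys_atlas x hx hxs
  have hU : ∀ η : (AlgSt.ofSp M).obj, IsAffine η.base.left → Function.Bijective (unitSect π η) :=
    fun η hη => bijective_unitSect_affine h𝒳 hM hQ hqc hqs h η hη
  have hH : ∀ (T : Over S), IsAffine T.left → ∀ g : (yon S).obj T ⟶ M, RepWith @Etale g →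
      ∃! k : (yon S).obj T ⟶ (yon S).obj Z, Eqn π ψ g k := fun T hT g hg => by
    let E : EtOver M := EtOver.mk g hg
    choose fx hfx using fun x : 𝒳.obj => (yon S).map_surjective (σ (M := (yon S).obj Z) ψ x)
    have hν : toM (etaOf E) = g := StPushLib.toM_etaOf E
    let f : ∀ w, sch (fibCat π (etaOf E)) w ⟶ Z.left := fun w => (fx w.left).left
    obtain ⟨k, hk, hku⟩ := existsUnique_hom_sch hU h.1 hMem hQ hqc hqs E hT Z.left f fun {w' w} φ => by
      refine Eq.trans ?_ (congrArg Over.Hom.left ((yon S).map_injective ((Functor.map_comp _ _ _).trans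
        (((congrArg ((yon S).map (𝒳.p.map φ.left) ≫ ·) (hfx w.left)).trans (σ_nat ψ φ.left)).trans (hfx w'.left).symm))))
      rfl
    have hkT : k ≫ Z.hom = T.hom := by
      haveI : IsAffine (etaOf E).base.left := hT
      refine hom_sch_ext hU (etaOf E) fun w => ?_
      rw [← Category.assoc, hk]
      exact (Over.w (fx w.left)).trans (Over.w (baseOver π w.left w.hom)).symm
    have heqn : ∀ k' : T ⟶ Z, Eqn π ψ g ((yon S).map k') ↔ ∀ w : (fibCat π (etaOf E)).obj, fibBase w ≫ k'.left = f w := by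
      intro k'
      constructor
      · intro H w
        have h1 := H w.left (baseOver π w.left w.hom) (by rw [← hν]; exact baseOver_toM w)
        rw [← hfx] at h1
        exact congrArg Over.Hom.left ((yon S).map_injective ((Functor.map_comp _ _ _).trans h1))
      · intro H x t e
        obtain ⟨ρ, hρ⟩ := exists_over_baseOver (ν := etaOf E) x t (by rw [hν]; exact e)
        have h1 := H (CostructuredArrow.mk (S := π.toFunctor) (Y := x) ρ)
        rw [← hfx, ← hρ]
        refine (Functor.map_comp _ _ _).symm.trans (congrArg (yon S).map ?_)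
        exact Over.OverMorphism.ext h1
    refine ⟨(yon S).map (Over.homMk k hkT : T ⟶ Z), (heqn _).2 hk, fun k'' hk'' => ?_⟩
    obtain ⟨k', rfl⟩ := (yon S).map_surjective k''
    exact congrArg (yon S).map (Over.OverMorphism.ext (hku k'.left ((heqn k').1 hk'')))
  have hiff : ∀ g : M ⟶ (yon S).obj Z, BasedFunctor.comp π (AlgSt.ofSpMap g) = ψ ↔
      Nonempty (BasedFunctor.comp π (AlgSt.ofSpMap g) ≅ ψ) :=
    fun g => ⟨fun e => ⟨eqToIso e⟩, fun ⟨i⟩ => QuotStLib.basedFunctor_ext_sec (secOf_iso i)⟩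
  simp only [hiff]
  exact Factor.existsUnique_factor hM hH

end CohAffMorLib.UnitBC
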