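import Groth.Agent.StPushLib.FlatSys
import Groth.Agent.GenDescLib.Glue

/-!
# Members mapping to the object of a chart
-/

set_option autoImplicit false
set_option linter.style.haveILetI false
set_option backward.isDefEq.respectTransparency false
set_option backward.isDefEq.respectTransparency.types false
set_option maxHeartbeats 800000

universe u v w

open CategoryTheory CategoryTheory.Limits AlgebraicGeometry StMod TwDescLib GenDescLib StPushLib

noncomputable section

namespace CohAffMorLib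

variable {S : Scheme.{u}} {W : BasedCategory.{v, w} (Over S)} [FibCat.IsFibGrpd W.p]

/-- Affine pieces of a flat surjection onto the source of a member. -/
theorem flatSys_chart {Mem : W.obj → Prop} (h : FlatSys Mem) {w0 r : W.obj} {p q : r ⟶ w0}
    (hW : Chart W w0 r p q) : FlatSys (fun z => Mem z ∧ Nonempty (z ⟶ w0)) where
  aff z hz := h.aff z hz.1
  down y z c hz hc ha := ⟨h.down y z c hz.1 hc ha, ⟨c ≫ hz.2.some⟩⟩
  loc y := by
    obtain ⟨K, y', c, z, e, hz, hc⟩ := h.loc y
    choose x' d a hfl hsur hlfp using fun k => hW.cov (z k)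
    choose o π₁ π₂ hcomm hsq hu using fun k => exists_fibProd (e k) (d k)
    choose J w j I hw hj hcov hb using fun k => exists_cut (π₂ k)
    choose zz ι ε hε using fun k => fun U : (sch W (x' k)).affineOpens => exists_obj_over (x' k) U.1.ι
    choose b hb using hb
    have hπ : ∀ k, Flat (bmap W (π₁ k)) ∧ Surjective (bmap W (π₁ k)) ∧ LocallyOfFinitePresentation (bmap W (π₁ k)) :=
      fun k => ⟨MorphismProperty.of_isPullback (P := @Flat) (hsq k).flip (hfl k),
        MorphismProperty.of_isPullback (P := @Surjective) (hsq k).flip (hsur k),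
        MorphismProperty.of_isPullback (P := @LocallyOfFinitePresentation) (hsq k).flip (hlfp k)⟩
    let g : ∀ i : (Σ k, J k), w i.1 i.2 ⟶ zz i.1 (I i.1 i.2) := fun i =>
      liftTo (ι i.1 (I i.1 i.2)) (j i.1 i.2 ≫ π₂ i.1) (b i.1 i.2 ≫ (ε i.1 (I i.1 i.2)).inv) (by
        rw [← hε, Category.assoc, Iso.inv_hom_id_assoc, hb])
    refine ⟨Σ k, J k, fun i => w i.1 i.2, fun i => j i.1 i.2 ≫ π₁ i.1 ≫ c i.1, fun i => zz i.1 (I i.1 i.2), g,
      fun i => ⟨h.down _ (z i.1) (ι i.1 (I i.1 i.2) ≫ d i.1) (hz i.1) ?_ ?_, ⟨ι i.1 (I i.1 i.2) ≫ a i.1⟩⟩, ?_⟩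
    · haveI := hfl i.1
      rw [bmap_comp, ← hε]
      infer_instance
    · haveI : IsAffine (I i.1 i.2).1.toScheme := (I i.1 i.2).2
      exact IsAffine.of_isIso (ε i.1 (I i.1 i.2)).hom
    · refine ⟨fun t => ?_, fun i => ?_, fun i => ?_⟩
      · obtain ⟨k, s, rfl⟩ := hc.surj t
        obtain ⟨s', rfl⟩ := (hπ k).2.1.surj s
        obtain ⟨l, v, rfl⟩ := hcov k s'
        exact ⟨⟨k, l⟩, v, by rw [bmap_comp, bmap_comp]; rfl⟩
      · haveI := hj i.1 i.2; haveI := (hπ i.1).1; haveI := hc.flat i.1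
        rw [bmap_comp, bmap_comp]; infer_instance
      · haveI := hj i.1 i.2; haveI := (hπ i.1).2.2; haveI := hc.lfp i.1
        rw [bmap_comp, bmap_comp]; infer_instance
  rel z₁ z₂ hz₁ hz₂ := h.rel z₁ z₂ hz₁.1 hz₂.1

end CohAffMorLib
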