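import Groth.Agent.CohAffMorLib.UnitBC.Test
import Mathlib.Data.DFinsupp.WellFounded

/-!
# Good moduli spaces of locally Noetherian stacks are locally Noetherian
-/

set_option autoImplicit false
set_option linter.style.haveILetI false
set_option backward.isDefEq.respectTransparency false
set_option backward.isDefEq.respectTransparency.types false
set_option maxHeartbeats 1600000

universe u

open CategoryTheory CategoryTheory.Limits AlgebraicGeometry AlgSp AlgSpLib FibCat FibLib Opposite StMod GenDescLib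
open StPushLib (FlatSys QcProd)
open scoped TensorProduct

noncomputable section

namespace CohAffMorLib.UnitBC

/-- A ring is Noetherian when its quotients are tested on finitely many Noetherian algebras. -/
theorem isNoetherianRing_of_test {A : Type u} [CommRing A] {K : Type u} [Finite K] (R : K → Type u)
    [∀ k, CommRing (R k)] [∀ k, Algebra A (R k)] [∀ k, IsNoetherianRing (R k)]
    (h : ∀ (N : Type u) [AddCommGroup N] [Module A N] (n : N), (∀ k, (1 : R k) ⊗ₜ[A] n = 0) → n = 0) :
    IsNoetherianRing A := by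
  let F : Ideal A → ∀ k, Ideal (R k) := fun I k => I.map (algebraMap A (R k))
  have hmono : StrictMono F := fun I J hIJ => by
    refine lt_of_le_of_ne (fun k => Ideal.map_mono hIJ.le) fun e => ?_
    obtain ⟨a, haJ, haI⟩ := SetLike.exists_of_lt hIJ
    refine haI ((Submodule.Quotient.mk_eq_zero I).1 (h (A ⧸ I) (Submodule.Quotient.mk a) fun k => ?_))
    have ha : algebraMap A (R k) a ∈ F I k := by
      rw [congrFun e k]; exact Ideal.mem_map_of_mem _ haJ
    let ψ : R k →ₗ[R k] R k ⊗[A] (A ⧸ I) := LinearMap.toSpanSingleton (R k) _ ((1 : R k) ⊗ₜ[A] Submodule.Quotient.mk (1 : A))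
    have hψ : ∀ b : A, ψ (algebraMap A (R k) b) = (1 : R k) ⊗ₜ[A] (Submodule.Quotient.mk b : A ⧸ I) := fun b => by
      show algebraMap A (R k) b • ((1 : R k) ⊗ₜ[A] (Submodule.Quotient.mk (1 : A) : A ⧸ I)) = _
      rw [algebraMap_smul, ← TensorProduct.tmul_smul, ← Submodule.Quotient.mk_smul, smul_eq_mul, mul_one]
    have hle : F I k ≤ LinearMap.ker ψ := Ideal.map_le_iff_le_comap.2 fun b hb => by
      show ψ (algebraMap A (R k) b) = 0
      rw [hψ, (Submodule.Quotient.mk_eq_zero I).2 hb, TensorProduct.tmul_zero]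
    rw [← hψ]
    exact hle ha
  refine isNoetherian_iff'.2 ?_
  haveI : WellFoundedGT (∀ k, Ideal (R k)) :=
    ⟨(Pi.wellFoundedLT (ι := K) (α := fun k => (Ideal (R k))ᵒᵈ)).wf⟩
  exact hmono.wellFoundedGT

variable {S : Scheme.{u}} {𝒳 : AlgSt.Cat S} {M : AlgSp.Sp S} {π : 𝒳 ⥤ᵇ AlgSt.ofSp M}

/-- An affine etale object over the good moduli space of a locally Noetherian stack is Noetherian. -/
theorem isNoetherianRing_base (h𝒳 : AlgSt.IsAlgStack Scheme.fppfPrecoverage 𝒳) (hQ : QcProd M)
    (hqc : AlgSt.IsQuasiCompactMor Scheme.fppfPrecoverage π) (hqs : AlgSt.IsQuasiSeparatedMor π)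
    (h : StMod.IsGoodModuli π) (hN : AlgSt.SmoothLocally (fun T => IsLocallyNoetherian T) 𝒳)
    (E : EtOver M) (hE : IsAffine E.obj.left.left) : IsNoetherianRing Γ(E.obj.left.left, ⊤) := by
  haveI := AlgStLib.isFibGrpd_of_isAlgStack h𝒳
  obtain ⟨U0, x, hx, hxs⟩ := h𝒳.atlas
  obtain ⟨K, hK, z, hz, ht⟩ := exists_test h𝒳 hQ hqc hqs h E hE x hx hxs
  haveI : IsLocallyNoetherian U0.left := hN U0 x hx
  haveI : IsLocallyNoetherian (sch 𝒳 (x.obj (GenDescLib.topObj U0))) := by
    show IsLocallyNoetherian (𝒳.p.obj (x.obj (GenDescLib.topObj U0))).left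
    rw [x.w_obj]
    exact ‹IsLocallyNoetherian U0.left›
  haveI : ∀ k, IsNoetherianRing (Fun (z k)) := fun k => by
    obtain ⟨hza, b, hb⟩ := hz k
    haveI : IsAffine (sch (fibCat π (etaOf E)) (z k)) := hza
    haveI := hb
    haveI : IsLocallyNoetherian (sch (fibCat π (etaOf E)) (z k)) :=
      LocallyOfFiniteType.isLocallyNoetherian (bmap 𝒳 b)
    exact IsLocallyNoetherian.component_noetherian ⟨⊤, isAffineOpen_top _⟩
  exact isNoetherianRing_of_test (A := Base (etaOf E)) (fun k => Fun (z k)) ht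

/-- The good moduli space of a locally Noetherian stack is locally Noetherian. -/
theorem isLocNoethSp_base (h𝒳 : AlgSt.IsAlgStack Scheme.fppfPrecoverage 𝒳) (hM : IsAlgSpace M) (hQ : QcProd M)
    (hqc : AlgSt.IsQuasiCompactMor Scheme.fppfPrecoverage π) (hqs : AlgSt.IsQuasiSeparatedMor π)
    (h : StMod.IsGoodModuli π) (hN : AlgSt.SmoothLocally (fun T => IsLocallyNoetherian T) 𝒳) :
    AlgSp.IsLocNoethSp M := by
  obtain ⟨U, b, hb, hbs⟩ := hM.atlas
  refine ⟨U, b, hb, hbs, ⟨fun N => ?_⟩⟩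
  let NS : Over S := Over.mk (N.1.ι ≫ U.hom)
  let iN : NS ⟶ U := Over.homMk N.1.ι rfl
  have het : RepWith @Etale ((yon S).map iN ≫ b) :=
    repWith_comp ((repWith_yon_map_iff (P := (@Etale : MorphismProperty Scheme.{u})) iN).2
      (inferInstance : Etale N.1.ι)) hb
  have h1 : IsNoetherianRing Γ(N.1.toScheme, ⊤) :=
    isNoetherianRing_base h𝒳 hQ hqc hqs h hN (EtOver.mk ((yon S).map iN ≫ b) het) N.2
  exact isNoetherianRing_of_ringEquiv Γ(N.1.toScheme, ⊤) N.1.topIso.commRingCatIsoToRingEquiv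

end CohAffMorLib.UnitBC
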