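import Groth.Agent.CohAffMorLib.UnitBC.Alg
import Groth.Agent.StPushLib.BaseChange
import Groth.Agent.TameStLib.Fam

/-!
# The unit over affine objects mapping to an etale object
-/

set_option autoImplicit false
set_option linter.style.haveILetI false
set_option backward.isDefEq.respectTransparency false
set_option backward.isDefEq.respectTransparency.types false
set_option maxHeartbeats 1600000

universe u

open CategoryTheory CategoryTheory.Limits AlgebraicGeometry AlgSp FibCat FibLib Opposite StMod GenDescLib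
open StPushLib (FlatSys QcProd)
open scoped TensorProduct

noncomputable section

namespace CohAffMorLib.UnitBC

variable {S : Scheme.{u}} {𝒳 : AlgSt.Cat S} [IsFibGrpd 𝒳.p] {M : AlgSp.Sp S} [IsFibGrpd (AlgSt.ofSp M).p]
  {π : 𝒳 ⥤ᵇ AlgSt.ofSp M} {η ν : (AlgSt.ofSp M).obj} (l : η ⟶ ν)

theorem appTop_comp {X Y Z : Scheme.{u}} (f : X ⟶ Y) (k : Y ⟶ Z) (a : Γ(Z, ⊤)) :
    f.appTop (k.appTop a) = (f ≫ k).appTop a := by
  rw [Scheme.Hom.comp_appTop]; rfl

/-- The functions of a smaller base as an algebra over those of the base. -/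
abbrev algBase : Algebra (Base ν) (Base η) := (bmap (AlgSt.ofSp M) l).appTop.hom.toAlgebra

variable {z : (fibCat π ν).obj} {z' : (fibCat π η).obj} (k : (fibMap π l).obj z' ⟶ z)

/-- Restriction of functions to an object over the smaller base. -/
def rk : Fun z →+* Fun z' := (bmap (fibCat π ν) k).appTop.hom

/-- The value over the smaller base of an element of the scalar extension. -/
def val : letI := algBase l; Ext (Base η) z →+ Fun z' :=
  letI := algBase l
  TensorProduct.liftAddHom
    (AddMonoidHom.mk' (fun a => AddMonoidHom.mk'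
      (fun b => (fibBase z').appTop b * rk l k a) fun b b' => by rw [map_add, add_mul])
      fun a a' => AddMonoidHom.ext fun b => by simp [map_add, mul_add])
    fun c a b => by
      show (fibBase z').appTop b * rk l k ((fibBase z).appTop c * a) =
        (fibBase z').appTop ((bmap (AlgSt.ofSp M) l).appTop c * b) * rk l k a
      have e : rk l k ((fibBase z).appTop c) =
          (fibBase z').appTop ((bmap (AlgSt.ofSp M) l).appTop c) := by
        show (bmap (fibCat π ν) k).appTop ((fibBase z).appTop c) = _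
        rw [appTop_comp (bmap (fibCat π ν) k) (fibBase z) c, appTop_comp (fibBase z') (bmap (AlgSt.ofSp M) l) c,
          bmap_fibBase, fibBase_fibMap]
        rfl
      rw [map_mul, map_mul, e]
      ring

theorem bijective_val [IsAffine (sch (AlgSt.ofSp M) η)] [IsAffine (sch (AlgSt.ofSp M) ν)]
    [IsAffine (sch (fibCat π ν) z)]
    (sq : IsPullback (bmap (fibCat π ν) k) (fibBase z') (fibBase z) (bmap (AlgSt.ofSp M) l)) :
    Function.Bijective (val l k) := by
  letI := algBase l
  let x0 := (fibMap π l).obj z'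
  letI : Module (Base η) Γ((O (fibCat π ν)).obj x0, ⊤) := Module.compHom _ (fibBase z').appTop.hom
  letI : Module (Base ν) Γ((O (fibCat π ν)).obj x0, ⊤) :=
    Module.compHom _ ((fibBase z').appTop.hom.comp (bmap (AlgSt.ofSp M) l).appTop.hom)
  letI : Module (Base ν) Γ((O (fibCat π ν)).obj z, ⊤) := Module.compHom _ (fibBase z).appTop.hom
  haveI : IsScalarTower (Base ν) (Base η) Γ((O (fibCat π ν)).obj x0, ⊤) :=
    IsScalarTower.of_algebraMap_smul fun _ _ => rfl
  let kO : Γ((O (fibCat π ν)).obj z, ⊤) →ₗ[Base ν] Γ((O (fibCat π ν)).obj x0, ⊤) :=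
    { toFun := (O (fibCat π ν)).mapTop k
      map_add' := (O (fibCat π ν)).mapTop_add k
      map_smul' := fun a v => by
        show (O (fibCat π ν)).mapTop k ((fibBase z).appTop a • v) =
          (fibBase z').appTop ((bmap (AlgSt.ofSp M) l).appTop a) • (O (fibCat π ν)).mapTop k v
        rw [Mod.mapTop_smul, appTop_comp (bmap (fibCat π ν) k), appTop_comp (fibBase z'), bmap_fibBase,
          fibBase_fibMap]
        rfl }
  have hkO : IsBaseChange (Base η) kO := isBaseChange_mapTop (O (fibCat π ν)) isCartesian_O isLocQCoh_O k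
    (bmap (AlgSt.ofSp M) l) (fibBase z) (fibBase z') sq rfl (fun _ _ => rfl) (fun _ _ => rfl) kO fun _ => rfl
  let e : Ext (Base η) z ≃ₗ[Base ν] Base η ⊗[Base ν] Γ((O (fibCat π ν)).obj z, ⊤) :=
    TensorProduct.comm (Base ν) (Fun z) (Base η)
  have h : ∀ t, val l k t = hkO.equiv (e t) := fun t => by
    induction t using TensorProduct.induction_on with
    | zero => rw [map_zero, map_zero, map_zero]
    | tmul a b =>
      show (fibBase z').appTop b * _ = hkO.equiv (b ⊗ₜ[Base ν] _)
      rw [hkO.equiv_tmul]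
      show _ = (fibBase z').appTop b • (O (fibCat π ν)).mapTop k a
      rw [O_mapTop]
      rfl
    | add a b ha hb => rw [map_add, map_add, map_add, ha, hb]
  rw [show ⇑(val l k) = ⇑hkO.equiv ∘ ⇑e from funext h]
  exact hkO.equiv.bijective.comp e.bijective

theorem val_one (b : Base η) :
    letI := algBase l; val l k ((1 : Fun z) ⊗ₜ[Base ν] b) = (fibBase z').appTop b := by
  letI := algBase l
  show (fibBase z').appTop b * rk l k 1 = _
  rw [map_one, mul_one]

theorem val_res {y : (fibCat π ν).obj} {y' : (fibCat π η).obj} (ky : (fibMap π l).obj y' ⟶ y) (d : y ⟶ z)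
    (d' : y' ⟶ z') (hd : (fibMap π l).map d' ≫ k = ky ≫ d) :
    letI := algBase l
    ∀ t : Ext (Base η) z, val l ky (res (Base η) d t) = (bmap (fibCat π η) d').appTop (val l k t) := by
  letI := algBase l
  intro t
  induction t using TensorProduct.induction_on with
  | zero => simp
  | tmul a b =>
    show (fibBase y').appTop b * rk l ky ((bmap (fibCat π ν) d).appTop a) =
      (bmap (fibCat π η) d').appTop ((fibBase z').appTop b * rk l k a)
    rw [map_mul, appTop_comp (bmap (fibCat π η) d') (fibBase z') b, bmap_fibBase]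
    refine congrArg ((fibBase y').appTop b * ·) ?_
    show (bmap (fibCat π ν) ky).appTop _ = (bmap (fibCat π ν) ((fibMap π l).map d')).appTop ((bmap (fibCat π ν) k).appTop a)
    rw [appTop_comp (bmap (fibCat π ν) ky), appTop_comp (bmap (fibCat π ν) ((fibMap π l).map d')),
      ← bmap_comp, ← bmap_comp, hd]
  | add a b ha hb => rw [map_add, map_add, map_add, map_add, ha, hb]

/-- The unit is bijective over affine objects mapping to an etale affine one. -/
theorem bijective_unitSect_over {η ν : (AlgSt.ofSp M).obj} (l : η ⟶ ν) [IsAffine (sch (AlgSt.ofSp M) η)] [IsAffine (sch (AlgSt.ofSp M) ν)]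
    {w0 r : (fibCat π ν).obj} {p q : r ⟶ w0} [IsAffine (sch (fibCat π ν) w0)] [IsAffine (sch (fibCat π ν) r)]
    (hW : Chart (fibCat π ν) w0 r p q) (hK : CycInv p q) (hA : Function.Injective (algebraMap (Base ν) (Fun w0))) :
    Function.Bijective (unitSect π η) := by
  letI := algBase l
  let τ := bmap (AlgSt.ofSp M) l
  obtain ⟨w0', e0, k, hk, hb⟩ := exists_over l w0 _ (pullback.fst (fibBase w0) τ) (pullback.snd (fibBase w0) τ)
    pullback.condition
  obtain ⟨r', e', k', hk', hb'⟩ := exists_over l r _ (pullback.fst (fibBase r) τ) (pullback.snd (fibBase r) τ)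
    pullback.condition
  have sqk : IsPullback (bmap (fibCat π ν) k) (fibBase w0') (fibBase w0) τ :=
    IsPullback.of_iso_pullback ⟨by rw [hk, hb, Category.assoc, Category.assoc, pullback.condition]⟩
      (eqToIso e0) hk.symm hb.symm
  have sql : IsPullback (bmap (fibCat π ν) k') (fibBase r') (fibBase r) τ :=
    IsPullback.of_iso_pullback ⟨by rw [hk', hb', Category.assoc, Category.assoc, pullback.condition]⟩
      (eqToIso e') hk'.symm hb'.symm
  have lift : ∀ {y : (fibCat π ν).obj} {y' : (fibCat π η).obj} (ky : (fibMap π l).obj y' ⟶ y) (x : y ⟶ w0),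
      ∃ x' : y' ⟶ w0', (fibMap π l).map x' ≫ k = ky ≫ x := fun {y y'} ky x => by
    let ρ := sqk.lift (bmap (fibCat π ν) (ky ≫ x)) (fibBase y') (by
      rw [bmap_fibBase, fibBase_fibMap])
    obtain ⟨θ, hθ, hθ'⟩ := fib_fac k (ky ≫ x) ρ (sqk.lift_fst _ _ _)
    obtain ⟨φ, rfl⟩ := exists_map l θ (by rw [hθ']; exact sqk.lift_snd _ _ _)
    exact ⟨φ, hθ⟩
  obtain ⟨p', hp⟩ := lift k' p
  obtain ⟨q', hq⟩ := lift k' q
  have hval : ∀ b : Base η, val l k ((1 : Fun w0) ⊗ₜ[Base ν] b) = (unitSect π η b).1 w0'.left w0'.hom :=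
    fun b => val_one l k b
  refine ⟨fun b b' h => injective_one_tmul (Base η) hK hA ((bijective_val l k sqk).1 ?_), fun s => ?_⟩
  · rw [hval, hval, h]
  let v0 : Fun w0' := s.1 w0'.left w0'.hom
  obtain ⟨x, hx⟩ := (bijective_val l k sqk).2 v0
  have hs : ∀ {y' y : (fibCat π η).obj} (d : y' ⟶ y),
      (bmap (fibCat π η) d).appTop (show Fun y from s.1 y.left y.hom) = s.1 y'.left y'.hom := fun {y' y} d => by
    have := s.2 d.left y.hom
    rw [O_mapTop, show π.map d.left ≫ y.hom = y'.hom from CostructuredArrow.w d] at this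
    exact this
  obtain ⟨b, rfl⟩ := exists_of_inv (Base η) hK x ((bijective_val l k' sql).1 (by
    rw [val_res l k k' p p' hp, val_res l k k' q q' hq, hx]
    exact (hs p').trans (hs q').symm))
  refine ⟨b, Mod.RelSect.ext _ _ _ fun v a => ?_⟩
  let vη : (fibCat π η).obj := CostructuredArrow.mk (S := π.toFunctor) (Y := v) a
  obtain ⟨y, c, a0, hc, hs', -⟩ := hW.cov ((fibMap π l).obj vη)
  let y' : (fibCat π η).obj := CostructuredArrow.mk (S := π.toFunctor) (Y := y.left) (π.map c.left ≫ a)
  have hy : ((fibMap π l).obj y').hom = y.hom := by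
    show (π.map c.left ≫ a) ≫ l = y.hom
    rw [Category.assoc]
    exact CostructuredArrow.w c
  let ky : (fibMap π l).obj y' ⟶ y := CostructuredArrow.homMk (𝟙 y.left) (by
    show π.map (𝟙 y.left) ≫ y.hom = _
    rw [π.toFunctor.map_id, Category.id_comp, hy])
  obtain ⟨ψ, -⟩ := lift ky a0
  refine CohAffLib.mapTop_injective isCartesian_O c.left hc hs' ?_
  refine ((unitSect π η b).2 c.left a).trans (Eq.trans ?_ (s.2 c.left a).symm)
  show (unitSect π η b).1 y'.left y'.hom = s.1 y'.left y'.hom
  rw [← CostructuredArrow.w ψ, ← (unitSect π η b).2 ψ.left, ← s.2 ψ.left, ← hval, hx]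

end CohAffMorLib.UnitBC
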