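import Groth.Agent.StPushLib.System
import Groth.Agent.GenDescLib.Sections
import Groth.Agent.CohAffLib.Main

/-!
# Systems spanned by finitely many families of sections, and members refining a cover
-/

set_option autoImplicit false
set_option linter.style.haveILetI false
set_option backward.isDefEq.respectTransparency false
set_option backward.isDefEq.respectTransparency.types false
set_option maxHeartbeats 1600000

universe u

open CategoryTheory CategoryTheory.Limits AlgebraicGeometry AlgSp FibCat FibLib Opposite StMod GenDescLib TwDescLib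
open StPushLib (ModSys SysMod FlatSys memObj exists_cut exists_pullCover)
open scoped TensorProduct

noncomputable section

namespace CohAffMorLib.UnitBC

variable {S : Scheme.{u}} {W : AlgSt.Cat S}

/-- The members having a property which holds on a cover of every member. -/
theorem flatSys_of_cov [IsFibGrpd W.p] {Mem : W.obj → Prop} (h : FlatSys Mem) (P : W.obj → Prop)
    (hP : ∀ {y z : W.obj}, (y ⟶ z) → P z → P y)
    (hcov : ∀ z, Mem z → ∃ (K : Type u) (x' : K → W.obj) (d : ∀ k, x' k ⟶ z),
      IsFppf (fun k => bmap W (d k)) ∧ ∀ k, P (x' k)) :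
    FlatSys (fun z => Mem z ∧ P z) where
  aff z hz := h.aff z hz.1
  down y z c hz hc ha := ⟨h.down y z c hz.1 hc ha, hP c hz.2⟩
  loc y := by
    obtain ⟨K, y', c, z, e, hz, hc⟩ := h.loc y
    choose L x' d hd hPx using fun k => hcov (z k) (hz k)
    choose y2 c2 e2 hc2 he2 using fun k => exists_pullCover (e k) (d k) (hd k)
    choose J w j I hw hj hcov' hb using fun i : (Σ k, L k) => exists_cut (e2 i.1 i.2)
    choose zz ι ε hε using fun i : (Σ k, L k) => fun U : (sch W (x' i.1 i.2)).affineOpens =>
      exists_obj_over (x' i.1 i.2) U.1.ι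
    choose b hb using hb
    let g : ∀ i : (Σ i : (Σ k, L k), J i), w i.1 i.2 ⟶ zz i.1 (I i.1 i.2) := fun i =>
      liftTo (ι i.1 (I i.1 i.2)) (j i.1 i.2 ≫ e2 i.1.1 i.1.2) (b i.1 i.2 ≫ (ε i.1 (I i.1 i.2)).inv) (by
        rw [← hε, Category.assoc, Iso.inv_hom_id_assoc, hb])
    refine ⟨Σ i : (Σ k, L k), J i, fun i => w i.1 i.2, fun i => j i.1 i.2 ≫ c2 i.1.1 i.1.2 ≫ c i.1.1,
      fun i => zz i.1 (I i.1 i.2), g,
      fun i => ⟨h.down _ (z i.1.1) (ι i.1 (I i.1 i.2) ≫ d i.1.1 i.1.2) (hz i.1.1) ?_ ?_, hP (ι i.1 (I i.1 i.2)) (hPx i.1.1 i.1.2)⟩, ?_⟩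
    · haveI := (hd i.1.1).flat i.1.2
      rw [bmap_comp, ← hε]
      infer_instance
    · haveI : IsAffine (I i.1 i.2).1.toScheme := (I i.1 i.2).2
      exact IsAffine.of_isIso (ε i.1 (I i.1 i.2)).hom
    · refine ⟨fun t => ?_, fun i => ?_, fun i => ?_⟩
      · obtain ⟨k, s, rfl⟩ := hc.surj t
        obtain ⟨l, s', rfl⟩ := (hc2 k).surj s
        obtain ⟨m, v, rfl⟩ := hcov' ⟨k, l⟩ s'
        exact ⟨⟨⟨k, l⟩, m⟩, v, by rw [bmap_comp, bmap_comp]; rfl⟩
      · haveI := hj i.1 i.2; haveI := (hc2 i.1.1).flat i.1.2; haveI := hc.flat i.1.1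
        rw [bmap_comp, bmap_comp]; infer_instance
      · haveI := hj i.1 i.2; haveI := (hc2 i.1.1).lfp i.1.2; haveI := hc.lfp i.1.1
        rw [bmap_comp, bmap_comp]; infer_instance
  rel z₁ z₂ hz₁ hz₂ := h.rel z₁ z₂ hz₁.1 hz₂.1

variable (Mem : W.obj → Prop)

/-- The system of functions. -/
def strSys : ModSys Mem where
  N z := ULift.{u + 1} Γ(sch W (memObj z), ⊤)
  grp _ := inferInstance
  mod _ := inferInstance
  rs l := AddMonoidHom.mk' (fun t => ULift.up ((bmap W l).appTop t.down))
    fun s t => ULift.ext _ _ (map_add ((bmap W l).appTop.hom) s.down t.down)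

/-- The structure module has the functions as sections. -/
def strMod : SysMod (strSys Mem) where
  G := OQ (𝒳 := W)
  ι z := (AddEquiv.ulift : ULift.{u + 1} Γ(sch W (memObj z), ⊤) ≃+ Γ(sch W (memObj z), ⊤))
  smul _ _ _ := rfl
  res _ _ _ _ := rfl

variable (n : ℕ)

/-- The free system. -/
def freeSys : ModSys Mem where
  N z := ULift.{u + 1} (Fin n → Γ(sch W (memObj z), ⊤))
  grp _ := inferInstance
  mod _ := inferInstance
  rs l := AddMonoidHom.mk' (fun t => ULift.up fun i => (bmap W l).appTop (t.down i))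
    fun s t => ULift.ext _ _ (funext fun i => map_add ((bmap W l).appTop.hom) (s.down i) (t.down i))

theorem freeSys_good : (freeSys Mem n).Good where
  small _ := inferInstanceAs (Small.{u} (ULift.{u + 1} _))
  rs_smul l a t := ULift.ext _ _ (funext fun i => map_mul ((bmap W l).appTop.hom) a (t.down i))
  rs_id z t := ULift.ext _ _ (funext fun i => by
    show (bmap W (𝟙 _)).appTop (t.down i) = t.down i
    rw [bmap_id]; rfl)
  rs_comp l' l t := ULift.ext _ _ (funext fun i => by
    show (bmap W (l' ≫ l)).appTop (t.down i) = (bmap W l').appTop ((bmap W l).appTop (t.down i))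
    rw [bmap_comp, Scheme.Hom.comp_appTop]; rfl)
  flat := by
    intro z' z l _ _ _ _ halg β hβ
    let R := Γ(sch W (memObj z), ⊤)
    let R' := Γ(sch W (memObj z'), ⊤)
    let e : R' ⊗[R] (freeSys Mem n).N z ≃ₗ[R] R' ⊗[R] (Fin n → R) :=
      LinearEquiv.lTensor R' (ULift.moduleEquiv (R := R) (M := Fin n → R))
    have key : ∀ x, (β.liftBaseChange R' x).down = TensorProduct.piScalarRight R R' R' (Fin n) (e x) := fun x => by
      induction x using TensorProduct.induction_on with
      | zero =>
        rw [map_zero, map_zero, map_zero]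
        rfl
      | tmul a t =>
        rw [LinearMap.liftBaseChange_tmul, hβ]
        funext i
        show a * (bmap W l).appTop (t.down i) = _
        rw [show e (a ⊗ₜ t) = a ⊗ₜ[R] t.down from rfl, TensorProduct.piScalarRight_apply,
          TensorProduct.piScalarRightHom_tmul]
        exact (mul_comm _ _).trans ((congrArg (· * a) (congrFun (congrArg DFunLike.coe halg.symm) (t.down i))).trans
          (Algebra.smul_def (t.down i) a).symm)
      | add x y hx hy => rw [map_add, map_add, map_add, ← hx, ← hy]; rfl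
    refine ⟨fun x y h => ?_, fun t => ?_⟩
    · have h1 := key x
      rw [h, key y] at h1
      exact e.injective ((TensorProduct.piScalarRight R R' R' (Fin n)).injective h1).symm
    · obtain ⟨x, hx⟩ := ((TensorProduct.piScalarRight R R' R' (Fin n)).surjective t.down)
      refine ⟨e.symm x, ULift.ext _ _ ?_⟩
      rw [key, LinearEquiv.apply_symm_apply, hx]

variable {Mem n} (G : Mod W) (v : Fin n → ∀ z : W.obj, Γ(G.obj z, ⊤))
  (hv : ∀ (i : Fin n) {z' z : W.obj} (l : z' ⟶ z), G.mapTop l (v i z) = v i z')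

/-- The combinations of the given sections. -/
abbrev spanV (z : W.obj) : Submodule Γ(sch W z, ⊤) Γ(G.obj z, ⊤) :=
  Submodule.span Γ(sch W z, ⊤) (Set.range fun i => v i z)

include hv in
theorem mapTop_mem_spanV {z' z : W.obj} (l : z' ⟶ z) {t : Γ(G.obj z, ⊤)} (ht : t ∈ spanV G v z) :
    G.mapTop l t ∈ spanV G v z' := by
  induction ht using Submodule.span_induction with
  | mem t ht =>
    obtain ⟨i, rfl⟩ := ht
    show G.mapTop l (v i z) ∈ _
    rw [hv i l]
    exact Submodule.subset_span ⟨i, rfl⟩
  | zero => rw [Mod.mapTop_zero]; exact Submodule.zero_mem _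
  | add a b _ _ ha hb => rw [Mod.mapTop_add]; exact Submodule.add_mem _ ha hb
  | smul r a _ ha => rw [Mod.mapTop_smul]; exact Submodule.smul_mem _ _ ha

variable (Mem)

/-- The system of combinations. -/
def spanSys : ModSys Mem where
  N z := ULift.{u + 1} ↥(spanV G v (memObj z))
  grp _ := inferInstance
  mod _ := inferInstance
  rs {z' z} l := AddMonoidHom.mk' (fun t => ULift.up ⟨G.mapTop l t.down.1, mapTop_mem_spanV G v hv l t.down.2⟩)
    fun s t => ULift.ext _ _ (Subtype.ext (G.mapTop_add l s.down.1 t.down.1))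

theorem spanSys_good (hGc : G.IsCartesian) (hGq : G.IsLocQCoh) (hMem : FlatSys Mem) :
    (spanSys Mem G v hv).Good where
  small _ := inferInstanceAs (Small.{u} (ULift.{u + 1} _))
  rs_smul l a t := ULift.ext _ _ (Subtype.ext (G.mapTop_smul l a t.down.1))
  rs_id z t := ULift.ext _ _ (Subtype.ext (G.mapTop_id _ t.down.1))
  rs_comp l' l t := ULift.ext _ _ (Subtype.ext (G.mapTop_comp l' l t.down.1))
  flat := by
    intro z' z l hl _ _ _ halg β hβ
    haveI : IsAffine (sch W (memObj z)) := hMem.aff _ z.2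
    haveI : IsAffine (sch W (memObj z')) := hMem.aff _ z'.2
    let R := Γ(sch W (memObj z), ⊤)
    let R' := Γ(sch W (memObj z'), ⊤)
    have h1 : (algebraMap R R').Flat := by rw [halg]; exact HasRingHomProperty.appTop (P := @Flat) _ hl
    haveI : Module.Flat R R' := RingHom.flat_algebraMap_iff.1 h1
    letI : Module R Γ(G.obj (memObj z'), ⊤) := Module.compHom _ (algebraMap R R')
    haveI : IsScalarTower R R' Γ(G.obj (memObj z'), ⊤) := IsScalarTower.of_algebraMap_smul fun _ _ => rfl
    let ψ : Γ(G.obj (memObj z), ⊤) →ₗ[R] Γ(G.obj (memObj z'), ⊤) :=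
      { toFun := G.mapTop l
        map_add' := G.mapTop_add l
        map_smul' := fun r m => by
          rw [G.mapTop_smul l r m]
          show (bmap W l).appTop.hom r • G.mapTop l m = algebraMap R R' r • G.mapTop l m
          exact congrArg (fun c : R' => c • G.mapTop l m) (congrFun (congrArg DFunLike.coe halg.symm) r) }
    have hψ : IsBaseChange R' ψ :=
      isBaseChange_mapTop G hGc hGq l (bmap W l) (𝟙 _) (𝟙 _) (IsPullback.of_vert_isIso ⟨by simp⟩) halg
        (fun a m => by rw [Scheme.Hom.id_appTop]; rfl) (fun a m => by rw [Scheme.Hom.id_appTop]; rfl) ψ fun _ => rfl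
    let P := spanV G v (memObj z)
    let e : (spanSys Mem G v hv).N z →ₗ[R] Γ(G.obj (memObj z), ⊤) :=
      P.subtype ∘ₗ (ULift.moduleEquiv (R := R) (M := P)).toLinearMap
    have hei : Function.Injective e := fun a b h => ULift.ext _ _ (Subtype.ext h)
    have key : ∀ x : R' ⊗[R] (spanSys Mem G v hv).N z,
        (β.liftBaseChange R' x).down.1 = hψ.equiv (e.lTensor R' x) := fun x => by
      induction x using TensorProduct.induction_on with
      | zero => rw [map_zero, map_zero, map_zero]; rfl
      | tmul a t =>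
        rw [LinearMap.liftBaseChange_tmul, LinearMap.lTensor_tmul, IsBaseChange.equiv_tmul, hβ]
        rfl
      | add x y hx hy => rw [map_add, map_add, map_add, ← hx, ← hy]; rfl
    refine ⟨fun x y h => Module.Flat.lTensor_preserves_injective_linearMap e hei (hψ.equiv.injective ?_), fun t => ?_⟩
    · rw [← key, ← key, h]
    · obtain ⟨a, ha⟩ := (Submodule.mem_span_range_iff_exists_fun _).1 t.down.2
      refine ⟨∑ i, a i ⊗ₜ[R] ULift.up ⟨_, Submodule.subset_span ⟨i, rfl⟩⟩, ULift.ext _ _ (Subtype.ext ?_)⟩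
      rw [key, map_sum, map_sum, ← ha]
      refine Finset.sum_congr rfl fun i _ => ?_
      rw [LinearMap.lTensor_tmul, IsBaseChange.equiv_tmul]
      exact congrArg (a i • ·) (hv i l)

end CohAffMorLib.UnitBC
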