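import Groth.Agent.CohAffMorLib.UnitBC.UnivClosed
import Groth.Agent.CohAffMorLib.UnitBC.Surj
import Groth.Agent.CohAffMorLib.UnitBC.SecFunctor
import Groth.Agent.AlgSpLib.UnivClosed
import Groth.Agent.AlgSpLib.Basic
import Groth.Agent.AlgStLib.Diag
import Groth.Agent.AlgStLib.Rows4
import Groth.Agent.AlgStLib.QcMor
import Groth.Agent.ConstQuotLib.UnivHomeo

/-!
# Separatedness of a tame moduli space
-/

set_option autoImplicit false
set_option linter.style.haveILetI false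
set_option backward.isDefEq.respectTransparency false
set_option backward.isDefEq.respectTransparency.types false
set_option maxHeartbeats 1600000

universe u v w v₁ w₁ v₂ w₂

open CategoryTheory CategoryTheory.Limits AlgebraicGeometry AlgSp AlgSpLib FibCat FibLib Opposite StMod GenDescLib
open CategoryTheory.Functor (Fiber)
open StPushLib (QcProd)
open AlgStLib (isAlgStack_fp' isAlgStack_ofSp isAlgStack_selfOver)

noncomputable section

namespace CohAffMorLib.UnitBC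

variable {S : Scheme.{u}} {𝒲 : BasedCategory.{v, w} (Over S)}

theorem selfOver_hom_eq {T : Over S} {x y : (selfOver (Over S)).obj} (m n : x ⟶ y)
    [(selfOver (Over S)).p.IsHomLift (𝟙 T) m] [(selfOver (Over S)).p.IsHomLift (𝟙 T) n] : m = n := by
  have hm := IsHomLift.fac' (selfOver (Over S)).p (𝟙 T) m
  have hn := IsHomLift.fac' (selfOver (Over S)).p (𝟙 T) n
  exact hm.trans hn.symm

/-- Functors to a product over the base are isomorphic when their components are. -/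
def fpIsoExtSelf {𝒳 : BasedCategory.{v₁, w₁} (Over S)} {𝒴 : BasedCategory.{v₂, w₂} (Over S)}
    (K L : 𝒲 ⥤ᵇ fp (toSelf 𝒳) (toSelf 𝒴))
    (i₁ : BasedFunctor.comp K (fpFst _ _) ≅ BasedFunctor.comp L (fpFst _ _))
    (i₂ : BasedFunctor.comp K (fpSnd _ _) ≅ BasedFunctor.comp L (fpSnd _ _)) : K ≅ L :=
  AlgStLib.fpIsoExt K L i₁ i₂ fun x => by
    have l1 : 𝒳.p.IsHomLift (𝟙 (𝒲.p.obj x)) (appIso i₁ x).hom := appIso_lift i₁ rfl
    have l2 : 𝒴.p.IsHomLift (𝟙 (𝒲.p.obj x)) (appIso i₂ x).hom := appIso_lift i₂ rfl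
    haveI m1 : (selfOver (Over S)).p.IsHomLift (𝟙 (𝒲.p.obj x)) ((toSelf 𝒳).map (appIso i₁ x).hom) :=
      @BasedFunctor.preserves_isHomLift _ _ _ _ (toSelf 𝒳) _ _ _ _ (𝟙 (𝒲.p.obj x)) (appIso i₁ x).hom l1
    haveI m2 : (selfOver (Over S)).p.IsHomLift (𝟙 (𝒲.p.obj x)) ((toSelf 𝒴).map (appIso i₂ x).hom) :=
      @BasedFunctor.preserves_isHomLift _ _ _ _ (toSelf 𝒴) _ _ _ _ (𝟙 (𝒲.p.obj x)) (appIso i₂ x).hom l2
    haveI m3 : (selfOver (Over S)).p.IsHomLift (𝟙 (𝒲.p.obj x)) (L.obj x).obj.iso.hom := by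
      have e : 𝒳.p.obj (L.obj x).obj.fst = 𝒲.p.obj x := L.w_obj x
      have h : (selfOver (Over S)).p.IsHomLift (𝟙 (𝒳.p.obj (L.obj x).obj.fst)) (L.obj x).obj.iso.hom :=
        (L.obj x).property
      rwa [e] at h
    haveI m4 : (selfOver (Over S)).p.IsHomLift (𝟙 (𝒲.p.obj x)) (K.obj x).obj.iso.hom := by
      have e : 𝒳.p.obj (K.obj x).obj.fst = 𝒲.p.obj x := K.w_obj x
      have h : (selfOver (Over S)).p.IsHomLift (𝟙 (𝒳.p.obj (K.obj x).obj.fst)) (K.obj x).obj.iso.hom :=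
        (K.obj x).property
      rwa [e] at h
    exact selfOver_hom_eq (T := 𝒲.p.obj x) _ _

/-- Functors to a product of spaces are isomorphic when their components are. -/
theorem nonempty_iso_prod {A B : AlgSp.Sp S} (Φ Ψ : 𝒲 ⥤ᵇ AlgSt.ofSp (A ⨯ B))
    (h₁ : Nonempty (BasedFunctor.comp Φ (AlgSt.ofSpMap (prod.fst : A ⨯ B ⟶ A)) ≅
      BasedFunctor.comp Ψ (AlgSt.ofSpMap prod.fst)))
    (h₂ : Nonempty (BasedFunctor.comp Φ (AlgSt.ofSpMap (prod.snd : A ⨯ B ⟶ B)) ≅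
      BasedFunctor.comp Ψ (AlgSt.ofSpMap prod.snd))) : Nonempty (Φ ≅ Ψ) := by
  obtain ⟨e₁⟩ := h₁
  obtain ⟨e₂⟩ := h₂
  refine AlgStLib.nonempty_iso_of_sec fun a => yEq.symm.injective (Limits.prod.hom_ext (yEq.injective ?_) (yEq.injective ?_))
  · rw [yEq_comp, yEq_comp, Equiv.apply_symm_apply, Equiv.apply_symm_apply]
    have := AlgStLib.secOf_iso e₁ a
    rw [AlgStLib.secOf_comp_map, AlgStLib.secOf_comp_map] at this
    exact this
  · rw [yEq_comp, yEq_comp, Equiv.apply_symm_apply, Equiv.apply_symm_apply]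
    have := AlgStLib.secOf_iso e₂ a
    rw [AlgStLib.secOf_comp_map, AlgStLib.secOf_comp_map] at this
    exact this

variable {𝒳 : AlgSt.Cat S} [IsFibGrpd 𝒳.p] {M : AlgSp.Sp S} {π : 𝒳 ⥤ᵇ AlgSt.ofSp M}

variable {A B : AlgSp.Sp S} {𝒱 : AlgSt.Cat S}

/-- The functor to a product of spaces with given components. -/
def funPair (Φ : 𝒱 ⥤ᵇ AlgSt.ofSp A) (Ψ : 𝒱 ⥤ᵇ AlgSt.ofSp B) : 𝒱 ⥤ᵇ AlgSt.ofSp (A ⨯ B) :=
  funOfSec (fun a => Limits.prod.lift (UnifModLib.σ Φ a) (UnifModLib.σ Ψ a)) fun f => Limits.prod.hom_ext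
    (by
      simp only [Category.assoc, Limits.prod.lift_fst]
      exact UnifModLib.σ_nat Φ f)
    (by
      simp only [Category.assoc, Limits.prod.lift_snd]
      exact UnifModLib.σ_nat Ψ f)

theorem secOf_funPair (Φ : 𝒱 ⥤ᵇ AlgSt.ofSp A) (Ψ : 𝒱 ⥤ᵇ AlgSt.ofSp B) (a : 𝒱.obj) :
    AlgStLib.secOf (funPair Φ Ψ) a = yEq (Limits.prod.lift (UnifModLib.σ Φ a) (UnifModLib.σ Ψ a)) :=
  secOf_funOfSec (fun a => Limits.prod.lift (UnifModLib.σ Φ a) (UnifModLib.σ Ψ a)) (fun f => Limits.prod.hom_ext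
    (by
      simp only [Category.assoc, Limits.prod.lift_fst]
      exact UnifModLib.σ_nat Φ f)
    (by
      simp only [Category.assoc, Limits.prod.lift_snd]
      exact UnifModLib.σ_nat Ψ f)) a

theorem funPair_fst (Φ : 𝒱 ⥤ᵇ AlgSt.ofSp A) (Ψ : 𝒱 ⥤ᵇ AlgSt.ofSp B) :
    Nonempty (BasedFunctor.comp (funPair Φ Ψ) (AlgSt.ofSpMap (prod.fst : A ⨯ B ⟶ A)) ≅ Φ) :=
  AlgStLib.nonempty_iso_of_sec fun a => by
    rw [AlgStLib.secOf_comp_map, secOf_funPair, ← yEq_comp, Limits.prod.lift_fst, UnifModLib.yEq_σ]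

theorem funPair_snd (Φ : 𝒱 ⥤ᵇ AlgSt.ofSp A) (Ψ : 𝒱 ⥤ᵇ AlgSt.ofSp B) :
    Nonempty (BasedFunctor.comp (funPair Φ Ψ) (AlgSt.ofSpMap (prod.snd : A ⨯ B ⟶ B)) ≅ Ψ) :=
  AlgStLib.nonempty_iso_of_sec fun a => by
    rw [AlgStLib.secOf_comp_map, secOf_funPair, ← yEq_comp, Limits.prod.lift_snd, UnifModLib.yEq_σ]

variable (π) in
/-- The map `𝒳 ×_S 𝒳 ⟶ M ⨯ M`. -/
def sqMap : fp (toSelf 𝒳) (toSelf 𝒳) ⥤ᵇ AlgSt.ofSp (M ⨯ M) :=
  funPair (BasedFunctor.comp (fpFst _ _) π) (BasedFunctor.comp (fpSnd _ _) π)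

theorem sqMap_fst : Nonempty (BasedFunctor.comp (sqMap π) (AlgSt.ofSpMap (prod.fst : M ⨯ M ⟶ M)) ≅
    BasedFunctor.comp (fpFst (toSelf 𝒳) (toSelf 𝒳)) π) := funPair_fst _ _

theorem sqMap_snd : Nonempty (BasedFunctor.comp (sqMap π) (AlgSt.ofSpMap (prod.snd : M ⨯ M ⟶ M)) ≅
    BasedFunctor.comp (fpSnd (toSelf 𝒳) (toSelf 𝒳)) π) := funPair_snd _ _

/-- Images along a map factored through a closed map and a map surjective on points. -/
theorem isClosed_image_of_factor {P Q R R' : Type*} [TopologicalSpace P] [TopologicalSpace Q] [TopologicalSpace R]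
    [TopologicalSpace R'] (k : R' → P) (hk : Continuous k) (hks : Function.Surjective k) (c : R' → R)
    (hc : IsClosedMap c) (q : R → Q) (hq : IsClosedMap q) (p : P → Q) (e : ∀ w, p (k w) = q (c w))
    {C : Set P} (hC : IsClosed C) : IsClosed (p '' C) := by
  have : p '' C = q '' (c '' (k ⁻¹' C)) := by
    rw [← Set.image_comp]
    ext z
    constructor
    · rintro ⟨x, hx, rfl⟩
      obtain ⟨w, rfl⟩ := hks x
      exact ⟨w, hx, (e w).symm⟩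
    · rintro ⟨w, hw, rfl⟩
      exact ⟨k w, hw, e w⟩
  rw [this]
  exact hq _ (hc _ (hC.preimage hk))

theorem diag_sqMap : Nonempty (BasedFunctor.comp (diag (toSelf 𝒳)) (sqMap π) ≅
    BasedFunctor.comp π (AlgSt.ofSpMap (Limits.diag M))) := by
  obtain ⟨ζ₁⟩ := sqMap_fst (π := π)
  obtain ⟨ζ₂⟩ := sqMap_snd (π := π)
  have hd : ∀ (f : M ⨯ M ⟶ M), Limits.diag M ≫ f = 𝟙 M →
      Nonempty (π ≅ BasedFunctor.comp (BasedFunctor.comp π (AlgSt.ofSpMap (Limits.diag M))) (AlgSt.ofSpMap f)) :=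
    fun f hf => AlgStLib.nonempty_iso_of_sec fun a => by
      rw [AlgStLib.secOf_comp_map, AlgStLib.secOf_comp_map, ← yEq.apply_symm_apply (AlgStLib.secOf π a), ← yEq_comp,
        ← yEq_comp, Category.assoc, hf, Category.comp_id]
  obtain ⟨d₁⟩ := hd prod.fst (Limits.prod.lift_fst _ _)
  obtain ⟨d₂⟩ := hd prod.snd (Limits.prod.lift_snd _ _)
  exact nonempty_iso_prod _ _ ⟨whiskerLeftIso' (diag (toSelf 𝒳)) ζ₁ ≪≫ d₁⟩
    ⟨whiskerLeftIso' (diag (toSelf 𝒳)) ζ₂ ≪≫ d₂⟩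

set_option maxHeartbeats 6400000 in
/-- The square of a good moduli space map is closed on points. -/
theorem isClosedMap_sqMap (h𝒳 : AlgSt.IsAlgStack Scheme.fppfPrecoverage 𝒳) (hM : IsAlgSpace M) (hQ : QcProd M)
    (hqc : AlgSt.IsQuasiCompactMor Scheme.fppfPrecoverage π) (hqs : AlgSt.IsQuasiSeparatedMor π)
    (h : StMod.IsGoodModuli π) : IsClosedMap (AlgSt.Points.map (sqMap π)) := by
  haveI hB : IsFibGrpd (AlgSt.ofSp M).p := Stk.isFibGrpd_ofPsh _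
  haveI := AlgStLib.isFibGrpd_of_isAlgStack (isAlgStack_selfOver (S := S))
  have hMM : IsAlgSpace (M ⨯ M) := isAlgSpace_prod hM hM
  haveI : IsFibGrpd (AlgSt.ofSp (M ⨯ M)).p := Stk.isFibGrpd_ofPsh _
  let A := fp (toSelf 𝒳) (toSelf (AlgSt.ofSp M))
  have hA : AlgSt.IsAlgStack Scheme.fppfPrecoverage A :=
    isAlgStack_fp' h𝒳 (isAlgStack_ofSp hM) isAlgStack_selfOver _ _
  haveI := AlgStLib.isFibGrpd_of_isAlgStack hA
  let ΨA : A ⥤ᵇ AlgSt.ofSp (M ⨯ M) := funPair (BasedFunctor.comp (fpFst _ _) π) (fpSnd _ _)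
  obtain ⟨η₁⟩ : Nonempty (BasedFunctor.comp ΨA (AlgSt.ofSpMap (prod.fst : M ⨯ M ⟶ M)) ≅
    BasedFunctor.comp (fpFst _ _) π) := funPair_fst _ _
  obtain ⟨η₂⟩ : Nonempty (BasedFunctor.comp ΨA (AlgSt.ofSpMap (prod.snd : M ⨯ M ⟶ M)) ≅ fpSnd _ _) :=
    funPair_snd _ _
  have hu := CohAffMorLib.UnitBC.isUnivClosed h𝒳 hM hQ hqc hqs h
  obtain ⟨ζ₁⟩ := sqMap_fst (π := π)
  obtain ⟨ζ₂⟩ := sqMap_snd (π := π)
  -- the second factor
  let c₂ := AlgSt.ofSpMap (prod.fst : M ⨯ M ⟶ M)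
  let C₂ := fp c₂ π
  have hC₂ := isAlgStack_fp' (isAlgStack_ofSp hMM) h𝒳 (isAlgStack_ofSp hM) c₂ π
  haveI := AlgStLib.isFibGrpd_of_isAlgStack hC₂
  let K₂ : C₂ ⥤ᵇ A := fpLift (fpSnd c₂ π) (BasedFunctor.comp (fpFst c₂ π) (AlgSt.ofSpMap prod.snd))
    (FibLib.compToSelfIso _ ≪≫ (FibLib.compToSelfIso _).symm)
  let L₂ : A ⥤ᵇ C₂ := fpLift (F := c₂) (G := π) ΨA (fpFst _ _) η₁
  have hKL₂ : Function.Surjective (AlgSt.Points.map K₂) := fun a => ⟨AlgSt.Points.map L₂ a, by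
    rw [← AlgStLib.map_comp, AlgStLib.map_congr (fpIsoExtSelf (BasedFunctor.comp L₂ K₂) (BasedFunctor.id A)
      (Iso.refl _) η₂), AlgStLib.map_id]⟩
  obtain ⟨E₂⟩ : Nonempty (BasedFunctor.comp K₂ ΨA ≅ fpFst c₂ π) := nonempty_iso_prod _ _
    ⟨whiskerLeftIso' K₂ η₁ ≪≫ (fpIso c₂ π).symm⟩ ⟨whiskerLeftIso' K₂ η₂⟩
  have hΨA : IsClosedMap (AlgSt.Points.map ΨA) := fun C hC =>
    isClosed_image_of_factor (AlgSt.Points.map K₂) (AlgStLib.continuous_map hA.atlas K₂) hKL₂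
      (AlgSt.Points.map (fpFst c₂ π)) (hu _ (isAlgStack_ofSp hMM) c₂) id IsClosedMap.id _
      (fun w => by rw [← AlgStLib.map_comp, AlgStLib.map_congr E₂]; rfl) hC
  -- the first factor
  let b := fpSnd (toSelf 𝒳) (toSelf (AlgSt.ofSp M))
  let B := fp b π
  have hBs := isAlgStack_fp' hA h𝒳 (isAlgStack_ofSp hM) b π
  haveI := AlgStLib.isFibGrpd_of_isAlgStack hBs
  let K : B ⥤ᵇ fp (toSelf 𝒳) (toSelf 𝒳) := fpLift (BasedFunctor.comp (fpFst b π) (fpFst _ _)) (fpSnd b π)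
    (FibLib.compToSelfIso _ ≪≫ (FibLib.compToSelfIso _).symm)
  let L : fp (toSelf 𝒳) (toSelf 𝒳) ⥤ᵇ B := fpLift (F := b) (G := π)
    (fpLift (fpFst (toSelf 𝒳) (toSelf 𝒳)) (BasedFunctor.comp (fpSnd (toSelf 𝒳) (toSelf 𝒳)) π)
      (FibLib.compToSelfIso _ ≪≫ (FibLib.compToSelfIso _).symm))
    (fpSnd (toSelf 𝒳) (toSelf 𝒳)) (Iso.refl _)
  have hX2 := isAlgStack_fp' h𝒳 h𝒳 (isAlgStack_selfOver (S := S)) (toSelf 𝒳) (toSelf 𝒳)
  haveI := AlgStLib.isFibGrpd_of_isAlgStack hX2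
  have hKL : Function.Surjective (AlgSt.Points.map K) := fun a => ⟨AlgSt.Points.map L a, by
    rw [← AlgStLib.map_comp, AlgStLib.map_congr (fpIsoExtSelf (BasedFunctor.comp L K) (BasedFunctor.id _)
      (Iso.refl _) (Iso.refl _)), AlgStLib.map_id]⟩
  obtain ⟨E⟩ : Nonempty (BasedFunctor.comp K (sqMap π) ≅ BasedFunctor.comp (fpFst b π) ΨA) := nonempty_iso_prod _ _
    ⟨whiskerLeftIso' K ζ₁ ≪≫ (whiskerLeftIso' (fpFst b π) η₁).symm⟩
    ⟨whiskerLeftIso' K ζ₂ ≪≫ (fpIso b π).symm ≪≫ (whiskerLeftIso' (fpFst b π) η₂).symm⟩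
  exact fun C hC => isClosed_image_of_factor (AlgSt.Points.map K) (AlgStLib.continuous_map hX2.atlas K) hKL
    (AlgSt.Points.map (fpFst b π)) (hu _ hA b) (AlgSt.Points.map ΨA) hΨA _
    (fun w => by rw [← AlgStLib.map_comp, AlgStLib.map_congr E, AlgStLib.map_comp]) hC

set_option maxHeartbeats 6400000 in
/-- With geometric points in bijection, pairs over the diagonal of the space are diagonal pairs. -/
theorem range_diag_eq (ht : AlgSt.GeomPtBij π) (hM : IsAlgSpace M) :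
    Set.range (AlgSt.Points.map (diag (toSelf 𝒳))) =
      AlgSt.Points.map (sqMap π) ⁻¹' Set.range (AlgSt.Points.map (AlgSt.ofSpMap (Limits.diag M))) := by
  haveI hB : IsFibGrpd (AlgSt.ofSp M).p := Stk.isFibGrpd_ofPsh _
  haveI := AlgStLib.isFibGrpd_of_isAlgStack (isAlgStack_selfOver (S := S))
  haveI : IsFibGrpd (AlgSt.ofSp (M ⨯ M)).p := Stk.isFibGrpd_ofPsh _
  haveI : IsFibGrpd (fp (toSelf 𝒳) (toSelf 𝒳)).p := isFibGrpd_fp
  obtain ⟨ζ₁⟩ := sqMap_fst (π := π)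
  obtain ⟨ζ₂⟩ := sqMap_snd (π := π)
  obtain ⟨ε⟩ := diag_sqMap (π := π)
  refine Set.Subset.antisymm ?_ fun w hw => ?_
  · rintro _ ⟨x, rfl⟩
    refine ⟨AlgSt.Points.map π x, ?_⟩
    rw [← AlgStLib.map_comp, ← AlgStLib.map_comp, AlgStLib.map_congr ε]
  obtain ⟨m, hm⟩ := hw
  let D := fp (sqMap π) (AlgSt.ofSpMap (Limits.diag M))
  haveI : IsFibGrpd D.p := isFibGrpd_fp
  obtain ⟨w₀, hw₀, -⟩ := AlgStLib.exists_point_fp (g := sqMap π) (f := AlgSt.ofSpMap (Limits.diag M)) w m hm.symm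
  obtain ⟨R, rfl⟩ := AlgSt.Points.mk_surjective w₀
  let Ω := AlgebraicClosure R.K
  let t : Spec (CommRingCat.of Ω) ⟶ S := Spec.map (CommRingCat.ofHom (algebraMap R.K Ω)) ≫ R.str
  let ext : Over.mk t ⟶ Over.mk R.str := Over.homMk (Spec.map (CommRingCat.ofHom (algebraMap R.K Ω))) rfl
  obtain ⟨d₀, φ, hφ⟩ := exists_lift D.p R.lies ext
  let F₁ := fpFst (sqMap π) (AlgSt.ofSpMap (Limits.diag M))
  let F₂ := fpSnd (sqMap π) (AlgSt.ofSpMap (Limits.diag M))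
  let p₀ := F₁.obj d₀
  have hd₀ : D.p.obj d₀ = Over.mk t := IsHomLift.domain_eq D.p ext φ
  have hp : 𝒳.p.obj p₀.obj.fst = Over.mk t := hd₀
  have hp' : 𝒳.p.obj p₀.obj.snd = Over.mk t := ((fpSnd (toSelf 𝒳) (toSelf 𝒳)).w_obj p₀).trans hp
  let x : 𝒳.p.Fiber (Over.mk t) := Fiber.mk hp
  let y : 𝒳.p.Fiber (Over.mk t) := Fiber.mk hp'
  have hd : ∀ (f : M ⨯ M ⟶ M), Limits.diag M ≫ f = 𝟙 M → Nonempty (BasedFunctor.comp F₂
      (BasedFunctor.comp (AlgSt.ofSpMap (Limits.diag M)) (AlgSt.ofSpMap f)) ≅ F₂) :=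
    fun f hf => AlgStLib.nonempty_iso_of_sec fun a => by
      show AlgStLib.secOf (BasedFunctor.comp (BasedFunctor.comp F₂ (AlgSt.ofSpMap (Limits.diag M))) (AlgSt.ofSpMap f)) a = _
      rw [AlgStLib.secOf_comp_map, AlgStLib.secOf_comp_map, ← yEq.apply_symm_apply (AlgStLib.secOf F₂ a), ← yEq_comp,
        ← yEq_comp, Category.assoc, hf, Category.comp_id]
  obtain ⟨d₁⟩ := hd prod.fst (Limits.prod.lift_fst _ _)
  obtain ⟨d₂⟩ := hd prod.snd (Limits.prod.lift_snd _ _)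
  let fI := fpIso (sqMap π) (AlgSt.ofSpMap (Limits.diag M))
  let ι₁ : BasedFunctor.comp F₁ (BasedFunctor.comp (fpFst (toSelf 𝒳) (toSelf 𝒳)) π) ≅ F₂ :=
    (whiskerLeftIso' F₁ ζ₁).symm ≪≫ whiskerRightIso' fI (AlgSt.ofSpMap prod.fst) ≪≫ d₁
  let ι₂ : BasedFunctor.comp F₁ (BasedFunctor.comp (fpSnd (toSelf 𝒳) (toSelf 𝒳)) π) ≅ F₂ :=
    (whiskerLeftIso' F₁ ζ₂).symm ≪≫ whiskerRightIso' fI (AlgSt.ofSpMap prod.snd) ≪≫ d₂
  let κ := appIso (ι₁ ≪≫ ι₂.symm) d₀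
  haveI : (AlgSt.ofSp M).p.IsHomLift (𝟙 (Over.mk t)) κ.hom := appIso_lift _ hd₀
  have hxy : AlgSt.fibSec π x = AlgSt.fibSec π y := ConstQuotLib.fibSec_eq π x y κ.hom
  obtain ⟨θ⟩ := (ht Ω t).2 x y hxy
  refine ⟨AlgSt.Points.mk { K := Ω, str := t, obj := x.1, lies := hp }, ?_⟩
  rw [← hw₀]
  refine AlgStLib.mk_eq_of_hom (p := ({ K := Ω, str := t, obj := x.1, lies := hp } : AlgSt.FPt 𝒳).map (diag (toSelf 𝒳)))
    (q := R.map F₁) (fpHom (x := (diag (toSelf 𝒳)).obj x.1) (y := p₀) (𝟙 x.1) θ.hom.1 ?_ ≫ F₁.map φ)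
  haveI : 𝒳.p.IsHomLift (𝟙 (Over.mk t)) θ.hom.1 := θ.hom.2
  haveI : (selfOver (Over S)).p.IsHomLift (𝟙 (Over.mk t)) ((toSelf 𝒳).map θ.hom.1) :=
    (toSelf 𝒳).preserves_isHomLift _ θ.hom.1
  haveI : 𝒳.p.IsHomLift (𝟙 (Over.mk t)) (𝟙 x.1) := IsHomLift.id hp
  haveI : (selfOver (Over S)).p.IsHomLift (𝟙 (Over.mk t)) ((toSelf 𝒳).map (𝟙 x.1)) :=
    (toSelf 𝒳).preserves_isHomLift _ (𝟙 x.1)
  haveI : (selfOver (Over S)).p.IsHomLift (𝟙 (Over.mk t)) p₀.obj.iso.hom := by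
    have h0 : (selfOver (Over S)).p.IsHomLift (𝟙 (𝒳.p.obj p₀.obj.fst)) p₀.obj.iso.hom := p₀.property
    rwa [hp] at h0
  haveI : (selfOver (Over S)).p.IsHomLift (𝟙 (Over.mk t)) ((diag (toSelf 𝒳)).obj x.1).obj.iso.hom := by
    have h0 : (selfOver (Over S)).p.IsHomLift (𝟙 (𝒳.p.obj x.1)) ((diag (toSelf 𝒳)).obj x.1).obj.iso.hom :=
      ((diag (toSelf 𝒳)).obj x.1).property
    rwa [show 𝒳.p.obj x.1 = Over.mk t from hp] at h0
  exact selfOver_hom_eq (T := Over.mk t) _ _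

/-- A tame moduli space is separated iff the diagonal of the stack has closed image. -/
theorem isSeparatedSp_iff (h𝒳 : AlgSt.IsAlgStack Scheme.fppfPrecoverage 𝒳) (hM : IsAlgSpace M) (hQ : QcProd M)
    (hqc : AlgSt.IsQuasiCompactMor Scheme.fppfPrecoverage π) (hqs : AlgSt.IsQuasiSeparatedMor π)
    (h : StMod.IsGoodModuli π) (ht : AlgSt.GeomPtBij π) (hls : IsLocallySeparatedSp M) :
    IsSeparatedSp M ↔ IsClosed (Set.range (AlgSt.Points.map (diag (toSelf 𝒳)))) := by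
  haveI hB : IsFibGrpd (AlgSt.ofSp M).p := Stk.isFibGrpd_ofPsh _
  haveI := AlgStLib.isFibGrpd_of_isAlgStack (isAlgStack_selfOver (S := S))
  haveI : IsFibGrpd (AlgSt.ofSp (M ⨯ M)).p := Stk.isFibGrpd_ofPsh _
  have hMM : IsAlgSpace (M ⨯ M) := isAlgSpace_prod hM hM
  have hR : Set.range (AlgSt.Points.map (AlgSt.ofSpMap (Limits.diag M))) =
      AlgStLib.ptsHomeo hMM ⁻¹' Set.range (Points.map (Limits.diag M)) := by
    ext z
    constructor
    · rintro ⟨m, rfl⟩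
      exact ⟨AlgStLib.ptsEquiv M m, (AlgStLib.ptsEquiv_map _ _).symm⟩
    · rintro ⟨m, hm⟩
      refine ⟨(AlgStLib.ptsEquiv M).symm m, (AlgStLib.ptsEquiv (M ⨯ M)).injective ?_⟩
      refine (AlgStLib.ptsEquiv_map (Limits.diag M) _).trans ?_
      rw [Equiv.apply_symm_apply]
      exact hm
  have hcont := AlgStLib.continuous_map (AlgStLib.hasAtlas_ofSp hMM) (sqMap π)
  rw [range_diag_eq ht hM]
  constructor
  · intro hs
    refine IsClosed.preimage hcont ?_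
    rw [hR, ← Set.image_univ (f := Points.map (Limits.diag M))]
    exact (isClosed_image_of_closedImmersion hM hMM hs isClosed_univ).preimage (AlgStLib.ptsHomeo hMM).continuous
  · intro hc
    have hsurj := surjective_points h𝒳 hM hQ hqc hqs h
    have hcl : IsClosed (Set.range (AlgSt.Points.map (AlgSt.ofSpMap (Limits.diag M)))) := by
      have e : AlgSt.Points.map (sqMap π) '' (AlgSt.Points.map (sqMap π) ⁻¹'
          Set.range (AlgSt.Points.map (AlgSt.ofSpMap (Limits.diag M)))) =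
          Set.range (AlgSt.Points.map (AlgSt.ofSpMap (Limits.diag M))) := by
        refine Set.Subset.antisymm (Set.image_preimage_subset _ _) ?_
        rintro _ ⟨m, rfl⟩
        obtain ⟨x, rfl⟩ := hsurj m
        obtain ⟨z, hz⟩ : ∃ z, AlgSt.Points.map (sqMap π) z =
            AlgSt.Points.map (AlgSt.ofSpMap (Limits.diag M)) (AlgSt.Points.map π x) := by
          refine ⟨AlgSt.Points.map (diag (toSelf 𝒳)) x, ?_⟩
          obtain ⟨ε⟩ : Nonempty (BasedFunctor.comp (diag (toSelf 𝒳)) (sqMap π) ≅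
              BasedFunctor.comp π (AlgSt.ofSpMap (Limits.diag M))) := diag_sqMap
          rw [← AlgStLib.map_comp, ← AlgStLib.map_comp, AlgStLib.map_congr ε]
        exact ⟨z, ⟨_, hz.symm⟩, hz⟩
      rw [← e]
      exact isClosedMap_sqMap h𝒳 hM hQ hqc hqs h _ hc
    rw [hR, (AlgStLib.ptsHomeo hMM).isClosed_preimage] at hcl
    refine ⟨hls.rep, fun U V a e j sq => ?_⟩
    haveI : IsImmersion j.left := hls.property a e j sq
    show IsClosedImmersion j.left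
    refine .of_isPreimmersion _ ?_
    have h2 := range_map_of_isPullback sq
    have h3 : Set.range j.left = Points.schemeHomeo U ⁻¹' Set.range (Points.map ((yon S).map j)) := by
      rw [Points.map_yon_map_eq, Set.range_comp, Set.range_comp, Set.preimage_image_eq _ (Points.schemeHomeo U).injective,
        (Points.schemeHomeo _).symm.surjective.range_eq, Set.image_univ]
    rw [h3, h2]
    exact (hcl.preimage (Points.continuous_map a)).preimage (Points.schemeHomeo U).continuous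

end CohAffMorLib.UnitBC
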