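import Groth.Agent.CohAffMorLib.UnitBC.Mem
import Groth.Agent.StPushLib.Core
import Groth.Agent.CohAffLib.Main

/-!
# Scalar extensions of modules of functions of the base to the objects over it
-/

set_option autoImplicit false
set_option linter.style.haveILetI false
set_option backward.isDefEq.respectTransparency false
set_option backward.isDefEq.respectTransparency.types false
set_option maxHeartbeats 800000

universe u

open CategoryTheory CategoryTheory.Limits AlgebraicGeometry AlgSp FibCat FibLib Opposite StMod GenDescLib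
open StPushLib (ModSys SysMod FlatSys memObj exists_sysMod isSurj_of_members)
open scoped TensorProduct

noncomputable section

namespace CohAffMorLib.UnitBC

variable {S : Scheme.{u}} {𝒳 : AlgSt.Cat S} {M : AlgSp.Sp S} {π : 𝒳 ⥤ᵇ AlgSt.ofSp M} {ν : (AlgSt.ofSp M).obj}

/-- The functions of the base. -/
abbrev Base (ν : (AlgSt.ofSp M).obj) : Type u := Γ(sch (AlgSt.ofSp M) ν, ⊤)

/-- The functions of an object. -/
abbrev Fun (z : (fibCat π ν).obj) : Type u := Γ(sch (fibCat π ν) z, ⊤)

instance algFun (z : (fibCat π ν).obj) : Algebra (Base ν) (Fun z) := (fibBase z).appTop.hom.toAlgebra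

/-- Restriction of functions. -/
def rho {z' z : (fibCat π ν).obj} (d : z' ⟶ z) : Fun z →ₐ[Base ν] Fun z' where
  toRingHom := (bmap (fibCat π ν) d).appTop.hom
  commutes' a := by
    show (bmap (fibCat π ν) d).appTop ((fibBase z).appTop a) = (fibBase z').appTop a
    rw [← bmap_fibBase d, Scheme.Hom.comp_appTop]
    rfl

variable (N : Type u) [AddCommGroup N] [Module (Base ν) N]

/-- Scalar extensions. -/
abbrev Ext (z : (fibCat π ν).obj) : Type u := Fun z ⊗[Base ν] N

/-- Restriction of scalar extensions. -/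
def res {z' z : (fibCat π ν).obj} (d : z' ⟶ z) : Ext N z →ₗ[Base ν] Ext N z' :=
  LinearMap.rTensor N (rho d).toLinearMap

theorem res_tmul {z' z : (fibCat π ν).obj} (d : z' ⟶ z) (a : Fun z) (n : N) :
    res N d (a ⊗ₜ[Base ν] n) = rho d a ⊗ₜ[Base ν] n := rfl

theorem res_one {z' z : (fibCat π ν).obj} (d : z' ⟶ z) (n : N) :
    res N d (1 ⊗ₜ[Base ν] n) = (1 : Fun z') ⊗ₜ[Base ν] n := by
  rw [res_tmul, map_one]

theorem res_smul {z' z : (fibCat π ν).obj} (d : z' ⟶ z) (a : Fun z) (t : Ext N z) :
    res N d (a • t) = rho d a • res N d t := by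
  induction t using TensorProduct.induction_on with
  | zero => simp
  | tmul b n => rw [TensorProduct.smul_tmul', res_tmul, res_tmul, TensorProduct.smul_tmul', smul_eq_mul, map_mul]; rfl
  | add x y hx hy => rw [smul_add, map_add, map_add, smul_add, hx, hy]

theorem res_id (z : (fibCat π ν).obj) (t : Ext N z) : res N (𝟙 z) t = t := by
  induction t using TensorProduct.induction_on with
  | zero => simp
  | tmul b n =>
    rw [res_tmul]
    refine congrArg (· ⊗ₜ[Base ν] n) ?_
    show (bmap (fibCat π ν) (𝟙 z)).appTop b = b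
    rw [bmap_id]; rfl
  | add x y hx hy => rw [map_add, hx, hy]

theorem res_comp {z'' z' z : (fibCat π ν).obj} (d' : z'' ⟶ z') (d : z' ⟶ z) (t : Ext N z) :
    res N (d' ≫ d) t = res N d' (res N d t) := by
  induction t using TensorProduct.induction_on with
  | zero => simp
  | tmul b n =>
    rw [res_tmul, res_tmul, res_tmul]
    refine congrArg (· ⊗ₜ[Base ν] n) ?_
    show (bmap (fibCat π ν) (d' ≫ d)).appTop b = (bmap _ d').appTop ((bmap _ d).appTop b)
    rw [bmap_comp, Scheme.Hom.comp_appTop]; rfl
  | add x y hx hy => rw [map_add, map_add, map_add, hx, hy]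

section Inj

variable [IsFibGrpd 𝒳.p] [IsFibGrpd (fibCat π ν).p]

/-- Restriction to a flat jointly surjective family is injective. -/
theorem res_injective_family {x : (fibCat π ν).obj} [IsAffine (sch (fibCat π ν) x)] {K : Type u}
    {x' : K → (fibCat π ν).obj} (d : ∀ k, x' k ⟶ x) (hfl : ∀ k, Flat (bmap (fibCat π ν) (d k)))
    (hsurj : ∀ t : sch (fibCat π ν) x, ∃ k, t ∈ Set.range (bmap (fibCat π ν) (d k)))
    {t t' : Ext N x} (h : ∀ k, res N (d k) t = res N (d k) t') : t = t' := by
  choose J w j I hw hj hcov hb using fun k => StPushLib.exists_cut (d k)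
  let κ := Σ k, J k
  let y : κ → (fibCat π ν).obj := fun i => w i.1 i.2
  let e : ∀ i : κ, y i ⟶ x := fun i => j i.1 i.2 ≫ d i.1
  haveI : ∀ i, IsAffine (sch (fibCat π ν) (y i)) := fun i => hw i.1 i.2
  letI : ∀ i, Algebra (Fun x) (Fun (y i)) := fun i => (rho (e i)).toRingHom.toAlgebra
  haveI : ∀ i, IsScalarTower (Base ν) (Fun x) (Fun (y i)) := fun i =>
    IsScalarTower.of_algebraMap_eq fun a => ((rho (e i)).commutes a).symm
  haveI : ∀ i, Module.Flat (Fun x) (Fun (y i)) := fun i => by
    haveI := hj i.1 i.2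
    haveI := hfl i.1
    have hf : Flat (bmap (fibCat π ν) (e i)) := by rw [bmap_comp]; infer_instance
    have h1 : (bmap (fibCat π ν) (e i)).appTop.hom.Flat := HasRingHomProperty.appTop (P := @Flat) _ hf
    exact h1
  refine sub_eq_zero.1 (CohAffLib.eq_zero_of_tmul_family (fun i : κ => Fun (y i))
    (CohAffLib.exists_prime_of_surj (fun i => bmap (fibCat π ν) (e i)) fun s => ?_) _ fun i => ?_)
  · obtain ⟨k, s', rfl⟩ := hsurj s
    obtain ⟨l, v, rfl⟩ := hcov k s'
    exact ⟨⟨k, l⟩, v, by rw [bmap_comp]; rfl⟩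
  · refine (TensorProduct.AlgebraTensorModule.cancelBaseChange (Base ν) (Fun x) (Fun (y i)) (Fun (y i)) N).injective ?_
    rw [map_zero]
    have key : ∀ s : Ext N x, TensorProduct.AlgebraTensorModule.cancelBaseChange (Base ν) (Fun x) (Fun (y i))
        (Fun (y i)) N ((1 : Fun (y i)) ⊗ₜ[Fun x] s) = res N (e i) s := fun s => by
      induction s using TensorProduct.induction_on with
      | zero => simp
      | tmul b n =>
        rw [TensorProduct.AlgebraTensorModule.cancelBaseChange_tmul, res_tmul, Algebra.smul_def, mul_one]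
        rfl
      | add u v hu hv => rw [TensorProduct.tmul_add, map_add, map_add, hu, hv]
    rw [key, map_sub, res_comp, res_comp, h, sub_self]

variable {w0 r : (fibCat π ν).obj} {p q : r ⟶ w0}

/-- An invariant element restricts in the same way along any two morphisms. -/
theorem res_eq_of_inv (hW : Chart (fibCat π ν) w0 r p q) {x : Ext N w0} (hx : res N p x = res N q x)
    {z : (fibCat π ν).obj} [IsAffine (sch (fibCat π ν) z)] (a b : z ⟶ w0) : res N a x = res N b x := by
  obtain ⟨y, c, e, hc, hs, h1, h2⟩ := hW.rel z a b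
  refine res_injective_family N (K := PUnit.{u + 1}) (fun _ => c) (fun _ => hc)
    (fun t => ⟨PUnit.unit, hs.surj t⟩) fun _ => ?_
  rw [← res_comp, ← res_comp, ← h1, ← h2, res_comp, res_comp, hx]

end Inj

end CohAffMorLib.UnitBC
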