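import Groth.Agent.CohAffMorLib.UnitBC.Closed
import Groth.Agent.StPushLib.CohBC
import Groth.Agent.AlgStLib.QcMor

/-!
# Good moduli space maps are universally closed
-/

set_option autoImplicit false
set_option linter.style.haveILetI false
set_option backward.isDefEq.respectTransparency false
set_option backward.isDefEq.respectTransparency.types false
set_option maxHeartbeats 1600000

universe u

open CategoryTheory CategoryTheory.Limits AlgebraicGeometry AlgSp AlgSpLib FibCat FibLib Opposite StMod GenDescLib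
open TopologicalSpace (Closeds)
open StPushLib (QcProd)
open AlgStLib (isAlgStack_fp' isAlgStack_ofSp isAlgStack_ofSch)

noncomputable section

namespace CohAffMorLib.UnitBC

variable {S : Scheme.{u}} {𝒳 : AlgSt.Cat S} [IsFibGrpd 𝒳.p] {M : AlgSp.Sp S} {π : 𝒳 ⥤ᵇ AlgSt.ofSp M}

set_option maxHeartbeats 3200000 in
/-- A base change of a good moduli space map to an affine scheme is closed. -/
theorem isClosed_image_fpFst (h𝒳 : AlgSt.IsAlgStack Scheme.fppfPrecoverage 𝒳) (hM : IsAlgSpace M) (hQ : QcProd M)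
    (hqc : AlgSt.IsQuasiCompactMor Scheme.fppfPrecoverage π) (hqs : AlgSt.IsQuasiSeparatedMor π)
    (h : StMod.IsGoodModuli π) {V : Over S} [IsAffine V.left] (m : (yon S).obj V ⟶ M)
    {C : Set (AlgSt.Points (fp (AlgSt.ofSpMap m) π))} (hC : IsClosed C) :
    IsClosed (ePt V ⁻¹' (AlgSt.Points.map (fpFst (AlgSt.ofSpMap m) π) '' C)) := by
  have hA := isAlgStack_fp' (isAlgStack_ofSch V) h𝒳 (isAlgStack_ofSp hM) (AlgSt.ofSpMap m) π
  haveI := AlgStLib.isFibGrpd_of_isAlgStack hA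
  refine isClosed_image_points hA
    (AlgStLib.isQcM_fpFst h𝒳 (isAlgStack_ofSp hM) (isAlgStack_ofSch V) (AlgSt.ofSpMap m) hqc)
    (AlgStLib.repByAlgSpWith_diag_fpFst π (AlgSt.ofSpMap m) hqs)
    ⟨StPushLib.isCohAffine_fpFst (g := m) (π := π) h𝒳 hM hQ hqc hqs h.1,
      unitIsIso_fpFst h𝒳 hM hQ hqc hqs h⟩ ?_ hC
  exact hqc (AlgSt.ofSch V) (isAlgStack_ofSch V)
    (AlgStLib.isQuasiCompact_ofSp (IsAlgSpace.yon_obj V) (AlgSpLib.isQuasiCompactSp_yon V)) (AlgSt.ofSpMap m)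

variable {𝒵 : AlgSt.Cat S} [IsFibGrpd 𝒵.p]

set_option maxHeartbeats 3200000 in
/-- Preimages of images under an affine chart are closed. -/
theorem isClosed_chart_image (h𝒳 : AlgSt.IsAlgStack Scheme.fppfPrecoverage 𝒳) (hM : IsAlgSpace M) (hQ : QcProd M)
    (hqc : AlgSt.IsQuasiCompactMor Scheme.fppfPrecoverage π) (hqs : AlgSt.IsQuasiSeparatedMor π)
    (h : StMod.IsGoodModuli π) (h𝒵 : AlgSt.IsAlgStack Scheme.fppfPrecoverage 𝒵) (g : 𝒵 ⥤ᵇ AlgSt.ofSp M)
    {V : Over S} [IsAffine V.left] (y : overCat V ⥤ᵇ 𝒵)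
    {C : Set (AlgSt.Points (fp g π))} (hC : IsClosed C) :
    IsClosed (AlgSt.Points.ofChart y ⁻¹' (AlgSt.Points.map (fpFst g π) '' C)) := by
  haveI hB : IsFibGrpd (AlgSt.ofSp M).p := Stk.isFibGrpd_ofPsh _
  haveI : IsFibGrpd (AlgSt.ofSch V).p := Stk.isFibGrpd_ofPsh _
  have hA := isAlgStack_fp' h𝒵 h𝒳 (isAlgStack_ofSp hM) g π
  haveI := AlgStLib.isFibGrpd_of_isAlgStack hA
  let y' : AlgSt.ofSch V ⥤ᵇ 𝒵 := BasedFunctor.comp (AlgSt.toOverCat V) y
  obtain ⟨α⟩ := AlgStLib.nonempty_iso_mapOf (BasedFunctor.comp y' g)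
  let m : (yon S).obj V ⟶ M := ObjectProperty.homMk (AlgStLib.mapOf (BasedFunctor.comp y' g))
  let α' : BasedFunctor.comp y' g ≅ AlgSt.ofSpMap m := α
  let Φ : fp (AlgSt.ofSpMap m) π ⥤ᵇ fp g π :=
    fpLift (F := g) (G := π) (BasedFunctor.comp (fpFst (AlgSt.ofSpMap m) π) y') (fpSnd (AlgSt.ofSpMap m) π)
      (whiskerLeftIso' (fpFst (AlgSt.ofSpMap m) π) α' ≪≫ fpIso (AlgSt.ofSpMap m) π)
  have hC' : IsClosed (AlgSt.Points.map Φ ⁻¹' C) := hC.preimage (AlgStLib.continuous_map hA.atlas Φ)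
  have hy : ∀ v, AlgSt.Points.ofChart y v = AlgSt.Points.map y' (ePt V v) := fun v => rfl
  have e : AlgSt.Points.ofChart y ⁻¹' (AlgSt.Points.map (fpFst g π) '' C) =
      ePt V ⁻¹' (AlgSt.Points.map (fpFst (AlgSt.ofSpMap m) π) '' (AlgSt.Points.map Φ ⁻¹' C)) := by
    ext v
    constructor
    · rintro ⟨w, hw, hwv⟩
      rw [hy] at hwv
      obtain ⟨q, hq1, hq2⟩ := AlgStLib.exists_point_fp (f := fpFst g π) (g := y') (ePt V v) w hwv.symm
      obtain ⟨Q, rfl⟩ := AlgSt.Points.mk_surjective q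
      let Ψ : fp y' (fpFst g π) ⥤ᵇ fp (AlgSt.ofSpMap m) π :=
        fpLift (F := AlgSt.ofSpMap m) (G := π) (fpFst y' (fpFst g π))
          (BasedFunctor.comp (fpSnd y' (fpFst g π)) (fpSnd g π))
          (whiskerLeftIso' (fpFst y' (fpFst g π)) α'.symm ≪≫ whiskerRightIso' (fpIso y' (fpFst g π)) g ≪≫
            whiskerLeftIso' (fpSnd y' (fpFst g π)) (fpIso g π))
      refine ⟨AlgSt.Points.map Ψ (AlgSt.Points.mk Q), ?_, ?_⟩
      · show AlgSt.Points.map Φ (AlgSt.Points.map Ψ (AlgSt.Points.mk Q)) ∈ C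
        have hm : AlgSt.Points.map Φ (AlgSt.Points.map Ψ (AlgSt.Points.mk Q)) = w := by
          rw [← hq2]
          let o := Q.obj
          let A := Φ.obj (Ψ.obj o)
          have hov : 𝒳.p.IsHomLift (𝟙 _) (𝟙 o.obj.snd.obj.snd) := IsHomLift.id rfl
          refine AlgStLib.mk_eq_of_hom (p := (Q.map Ψ).map Φ) (q := Q.map (fpSnd y' (fpFst g π)))
            (fpHom (x := A) (y := o.obj.snd) o.obj.iso.hom (𝟙 o.obj.snd.obj.snd) ?_)
          haveI h1 : (AlgSt.ofSp M).p.IsHomLift (𝟙 (A.obj.fst |> 𝒵.p.obj))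
              (g.map o.obj.iso.hom ≫ o.obj.snd.obj.iso.hom) := by
            have p1 : 𝒵.p.IsHomLift (𝟙 ((AlgSt.ofSch V).p.obj o.obj.fst)) o.obj.iso.hom := o.property
            have p3 : 𝒵.p.obj A.obj.fst = (AlgSt.ofSch V).p.obj o.obj.fst := y'.w_obj o.obj.fst
            have p4 : 𝒵.p.obj o.obj.snd.obj.fst = (AlgSt.ofSch V).p.obj o.obj.fst :=
              IsHomLift.codomain_eq 𝒵.p (𝟙 ((AlgSt.ofSch V).p.obj o.obj.fst)) o.obj.iso.hom
            rw [p3]
            refine IsoNatSepLib.lift_congr (Category.id_comp (𝟙 _)) (IsoNatSepLib.comp_lift (g.preserves_isHomLift _ _) ?_)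
            rw [← p4]
            exact o.obj.snd.property
          haveI h2 : (AlgSt.ofSp M).p.IsHomLift (𝟙 (A.obj.fst |> 𝒵.p.obj))
              (A.obj.iso.hom ≫ π.map (𝟙 o.obj.snd.obj.snd)) := by
            erw [π.toFunctor.map_id]
            refine IsoNatSepLib.lift_congr (Category.comp_id (𝟙 _)) (IsoNatSepLib.comp_lift A.property ?_)
            refine IsHomLift.id ?_
            exact (π.w_obj o.obj.snd.obj.snd).trans (obj_snd_eq A)
          exact AlgStLib.elt_hom_eq (𝟙 (A.obj.fst |> 𝒵.p.obj)) _ _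
        rw [hm]
        exact hw
      · rw [← AlgStLib.map_comp]
        exact hq1
    · rintro ⟨c, hc, hcv⟩
      refine ⟨AlgSt.Points.map Φ c, hc, ?_⟩
      rw [hy, ← hcv, ← AlgStLib.map_comp, ← AlgStLib.map_comp]
      rfl
  rw [e]
  exact isClosed_image_fpFst h𝒳 hM hQ hqc hqs h m hC'

/-- A good moduli space map is universally closed. -/
theorem isUnivClosed (h𝒳 : AlgSt.IsAlgStack Scheme.fppfPrecoverage 𝒳) (hM : IsAlgSpace M) (hQ : QcProd M)
    (hqc : AlgSt.IsQuasiCompactMor Scheme.fppfPrecoverage π) (hqs : AlgSt.IsQuasiSeparatedMor π)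
    (h : StMod.IsGoodModuli π) : AlgSt.IsUnivClosed Scheme.fppfPrecoverage π := by
  intro 𝒵 h𝒵 g C hC
  haveI := AlgStLib.isFibGrpd_of_isAlgStack h𝒵
  rw [← isOpen_compl_iff, AlgSt.Points.isOpen_iff]
  intro V0 y _
  rw [Set.preimage_compl, isOpen_compl_iff]
  rw [(TopologicalSpace.IsOpenCover.isClosed_iff_coe_preimage (iSup_affineOpens_eq_top V0.left))]
  intro W
  let VS : Over S := Over.mk (W.1.ι ≫ V0.hom)
  let ι : VS ⟶ V0 := Over.homMk W.1.ι rfl
  haveI : IsAffine VS.left := W.2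
  have hW := isClosed_chart_image h𝒳 hM hQ hqc hqs h h𝒵 g (BasedFunctor.comp (AlgSt.overMap ι) y) hC
  rw [AlgStLib.ofChart_overMap] at hW
  exact hW

end CohAffMorLib.UnitBC
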